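import Groth.Prelude.Def_QuotSh
import Groth.Agent.L24.Alg.SourceFppf
import Groth.Agent.L24.LocQ.Descent
import Mathlib.AlgebraicGeometry.Morphisms.FinitePresentation
import Mathlib.RingTheory.RingHom.Flat
import Mathlib.RingTheory.RingHom.FinitePresentation

/-!
Morphisms with sections fppf locally on the target: flatness and finite presentation pass to the target.
-/

set_option autoImplicit false

universe u

open CategoryTheory CategoryTheory.Limits AlgebraicGeometry TopologicalSpace

noncomputable section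

namespace Groth.L09.Gerbe

/-- A retract of a finitely presented algebra is finitely presented. -/
theorem finitePresentation_of_retract {A X P : Type u} [CommRing A] [CommRing X] [CommRing P] [Algebra A X]
    [Algebra A P] (r : X →ₐ[A] P) (s : P →ₐ[A] X) (h : s.comp r = AlgHom.id A X)
    [Algebra.FinitePresentation A P] : Algebra.FinitePresentation A X := by
  have hsr : ∀ x, s (r x) = x := fun x => AlgHom.congr_fun h x
  refine Algebra.FinitePresentation.of_surjective (f := s) (fun x => ⟨r x, hsr x⟩) ?_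
  obtain ⟨G, hG⟩ := (inferInstance : Algebra.FiniteType A P).out
  let J : Ideal P := Ideal.span ((fun g => g - r (s g)) '' (G : Set P))
  have hJ : RingHom.ker s.toRingHom = J := by
    refine le_antisymm (fun b hb => ?_) (Ideal.span_le.2 ?_)
    · have e : (Ideal.Quotient.mkₐ A J).comp (r.comp s) = Ideal.Quotient.mkₐ A J :=
        AlgHom.ext_of_adjoin_eq_top hG fun g hg => ((Ideal.Quotient.eq (I := J)).2
          (Ideal.subset_span ⟨g, hg, rfl⟩)).symm
      have hb' : s b = 0 := hb
      have := AlgHom.congr_fun e b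
      simp only [AlgHom.comp_apply, hb', map_zero, Ideal.Quotient.mkₐ_eq_mk] at this
      exact Ideal.Quotient.eq_zero_iff_mem.1 this.symm
    · rintro _ ⟨g, -, rfl⟩
      show s (g - r (s g)) = 0
      rw [map_sub, hsr, sub_self]
  rw [hJ]
  exact Submodule.fg_span (G.finite_toSet.image _)

/-- A retract of a morphism locally of finite presentation is locally of finite presentation. -/
theorem lfp_of_retraction {X P Z : Scheme.{u}} (s : X ⟶ P) (r : P ⟶ X) (f : X ⟶ Z) (h : s ≫ r = 𝟙 X)
    (hP : LocallyOfFinitePresentation (r ≫ f)) : LocallyOfFinitePresentation f := by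
  refine (HasRingHomProperty.iff_exists_appLE (P := @LocallyOfFinitePresentation)
    (RingHom.finitePresentation_stableUnderComposition.stableUnderCompositionWithLocalizationAway
      RingHom.finitePresentation_holdsForLocalizationAway).left).2 fun x => ?_
  obtain ⟨V, hV, hxV, -⟩ := Opens.isBasis_iff_nbhd.mp Z.isBasis_affineOpens (Opens.mem_top (f x))
  obtain ⟨A, hA, hxA, hAV⟩ := Opens.isBasis_iff_nbhd.mp X.isBasis_affineOpens (show x ∈ f ⁻¹ᵁ V from hxV)
  have hx : r (s x) = x := by rw [← Scheme.Hom.comp_apply, h]; rfl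
  obtain ⟨B, hB, hxB, hBA⟩ := Opens.isBasis_iff_nbhd.mp P.isBasis_affineOpens
    (show s x ∈ r ⁻¹ᵁ A by show r (s x) ∈ A; rwa [hx])
  obtain ⟨a, ha, hxa⟩ := hA.exists_basicOpen_le (V := s ⁻¹ᵁ B) ⟨x, show x ∈ s ⁻¹ᵁ B from hxB⟩ hxA
  let A' := X.basicOpen a
  let B' := P.basicOpen (r.appLE A B hBA a)
  have eB : B' = B ⊓ r ⁻¹ᵁ A' := by
    show P.basicOpen (P.presheaf.map _ (r.app A a)) = _
    rw [Scheme.basicOpen_res, ← Scheme.preimage_basicOpen]
  have hB' : IsAffineOpen B' := hB.basicOpen _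
  have h₁ : A' ≤ f ⁻¹ᵁ V := (X.basicOpen_le a).trans hAV
  have h₂ : B' ≤ r ⁻¹ᵁ A' := eB.le.trans inf_le_right
  have h₃ : A' ≤ s ⁻¹ᵁ B' := by
    intro y hy
    show s y ∈ B'
    rw [eB]
    refine ⟨ha hy, ?_⟩
    show r (s y) ∈ A'
    rwa [← Scheme.Hom.comp_apply, h]
  have hfp : ((r ≫ f).appLE V B' (h₂.trans fun y hy => h₁ hy)).hom.FinitePresentation :=
    HasRingHomProperty.appLE @LocallyOfFinitePresentation (r ≫ f) hP ⟨V, hV⟩ ⟨B', hB'⟩ _
  have hid : r.appLE A' B' h₂ ≫ s.appLE B' A' h₃ = 𝟙 _ := by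
    rw [Scheme.Hom.appLE_comp_appLE]
    have : ∀ (g : X ⟶ X) (e : A' ≤ g ⁻¹ᵁ A'), g = 𝟙 X → g.appLE A' A' e = 𝟙 _ := by
      rintro g e rfl
      simp [Scheme.Hom.appLE]
      exact X.presheaf.map_id _
    exact this _ _ h
  rw [← Scheme.Hom.appLE_comp_appLE r f V A' B' h₁ h₂] at hfp
  refine ⟨⟨V, hV⟩, ⟨A', hA.basicOpen a⟩, hxa, h₁, ?_⟩
  change (f.appLE V A' h₁).hom.FinitePresentation
  let α : Γ(Z, V) →+* Γ(X, A') := (f.appLE V A' h₁).hom
  let φ : Γ(X, A') →+* Γ(P, B') := (r.appLE A' B' h₂).hom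
  let σ : Γ(P, B') →+* Γ(X, A') := (s.appLE B' A' h₃).hom
  have hσφ : ∀ z, σ (φ z) = z := fun z => by
    show (r.appLE A' B' h₂ ≫ s.appLE B' A' h₃) z = z
    rw [hid]; rfl
  algebraize [α, φ.comp α]
  have : Algebra.FinitePresentation Γ(Z, V) Γ(P, B') := hfp
  exact finitePresentation_of_retract { φ with commutes' := fun c => rfl }
    { σ with commutes' := fun c => hσφ (α c) } (AlgHom.ext hσφ)

/-- A retract of a flat morphism is flat. -/
theorem flat_of_retraction {X P Z : Scheme.{u}} (s : X ⟶ P) (r : P ⟶ X) (f : X ⟶ Z) (h : s ≫ r = 𝟙 X)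
    (hP : Flat (r ≫ f)) : Flat f := by
  refine Flat.of_stalkMap f fun x => ?_
  have hx : r (s x) = x := by rw [← Scheme.Hom.comp_apply, h]; rfl
  suffices (f.stalkMap (r (s x))).hom.Flat by rwa [hx] at this
  have hiso : IsIso ((s ≫ r).stalkMap x) := by
    generalize s ≫ r = k at h ⊢
    subst h
    infer_instance
  let p := r.stalkMap (s x)
  let q : P.presheaf.stalk (s x) ⟶ X.presheaf.stalk (r (s x)) :=
    s.stalkMap x ≫ @inv _ _ _ _ ((s ≫ r).stalkMap x) hiso
  have hq : p ≫ q = 𝟙 _ := by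
    simp only [p, q]
    rw [← Category.assoc, ← Scheme.Hom.stalkMap_comp]
    exact @IsIso.hom_inv_id _ _ _ _ _ hiso
  have hfl : (f.stalkMap (r (s x)) ≫ p).hom.Flat := by
    rw [← Scheme.Hom.stalkMap_comp]
    exact Flat.stalkMap _ _
  generalize f.stalkMap (r (s x)) = φ at hfl ⊢
  rw [CommRingCat.hom_comp] at hfl
  let R := Z.presheaf.stalk (f (r (s x)))
  algebraize [φ.hom, p.hom.comp φ.hom]
  have hM : Module.Flat R (P.presheaf.stalk (s x)) := hfl
  have hqp : ∀ y, q.hom (p.hom y) = y := fun y => by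
    rw [← CommRingCat.comp_apply, hq]; rfl
  let i' : X.presheaf.stalk (r (s x)) →ₗ[R] P.presheaf.stalk (s x) :=
    { p.hom with map_smul' := fun a b => by simp [Algebra.smul_def, RingHom.algebraMap_toAlgebra] }
  let q' : P.presheaf.stalk (s x) →ₗ[R] X.presheaf.stalk (r (s x)) :=
    { q.hom with map_smul' := fun a b => by simp [Algebra.smul_def, RingHom.algebraMap_toAlgebra, hqp] }
  rw [RingHom.Flat]
  exact Module.Flat.of_retract i' q' (LinearMap.ext hqp)

section

variable {S : Scheme.{u}}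

/-- A covering sieve for the fppf topology contains a covering by one family indexed by the points. -/
theorem exists_cover_of_mem_J {U : Over S} {R : Sieve U} (hR : R ∈ QuotSh.J Scheme.fppfPrecoverage S U) :
    ∃ (W : ↥U.left → Over S) (v : ∀ i, W i ⟶ U), (∀ i, R (v i)) ∧ (∀ i, Flat (v i).left) ∧
      (∀ i, LocallyOfFinitePresentation (v i).left) ∧ ∀ t : ↥U.left, t ∈ Set.range (v t).left := by
  rw [GrothendieckTopology.mem_over_iff] at hR
  have : Scheme.fppfPrecoverage.{u}.IsStableUnderComposition := by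
    rw [Scheme.fppfPrecoverage]; infer_instance
  have : Scheme.fppfPrecoverage.{u}.HasIsos := by
    have : ((@Flat ⊓ @LocallyOfFinitePresentation : MorphismProperty Scheme.{u})).ContainsIdentities :=
      ⟨fun X => ⟨inferInstanceAs (Flat (𝟙 X)), inferInstanceAs (LocallyOfFinitePresentation (𝟙 X))⟩⟩
    rw [Scheme.fppfPrecoverage]; infer_instance
  obtain ⟨R₀, hR₀, hle⟩ :=
    (Precoverage.mem_toGrothendieck_iff_of_isStableUnderComposition (J := Scheme.fppfPrecoverage)).1 hR
  obtain ⟨I, Y, f, rfl⟩ := R₀.exists_eq_ofArrows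
  obtain ⟨hs, hp⟩ := (Scheme.ofArrows_mem_precoverage_iff _).1 hR₀
  choose i hi using hs
  exact ⟨fun t => Over.mk (f (i t) ≫ U.hom), fun t => Over.homMk (f (i t)) rfl,
    fun t => (Sieve.overEquiv_iff (Y := U) _ _).1 (hle _ (f (i t)) (.mk (i t))),
    fun t => (hp _).1, fun t => (hp _).2, hi⟩

/-- A morphism with sections over the members of a covering sieve has a section over an fppf cover. -/
theorem exists_fppf_section {U V : Over S} (h : U ⟶ V) {R : Sieve V}
    (hR : R ∈ QuotSh.J Scheme.fppfPrecoverage S V)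
    (hsec : ∀ ⦃T : Over S⦄ (e : T ⟶ V), R e → ∃ d : T ⟶ U, d ≫ h = e) :
    ∃ (T : Over S) (c : T ⟶ V) (d : T ⟶ U), Flat c.left ∧ LocallyOfFinitePresentation c.left ∧
      Surjective c.left ∧ d ≫ h = c := by
  obtain ⟨W, v, hv, hfl, hfp, hs⟩ := exists_cover_of_mem_J hR
  choose d hd using fun i => hsec (v i) (hv i)
  let π : ∐ (fun i => (W i).left) ⟶ V.left := Sigma.desc fun i => (v i).left
  let δ : ∐ (fun i => (W i).left) ⟶ U.left := Sigma.desc fun i => (d i).left
  have hδ : δ ≫ h.left = π := Sigma.hom_ext _ _ fun i => by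
    simp [δ, π, ← Over.comp_left, hd]
  refine ⟨Over.mk (π ≫ V.hom), Over.homMk π rfl, Over.homMk δ ?_,
    IsZariskiLocalAtSource.sigmaDesc (P := @Flat) hfl,
    IsZariskiLocalAtSource.sigmaDesc (P := @LocallyOfFinitePresentation) hfp, ⟨fun t => ?_⟩,
    Over.OverMorphism.ext hδ⟩
  · show δ ≫ U.hom = π ≫ V.hom
    rw [← hδ, Category.assoc, Over.w h]
  · obtain ⟨w, hw⟩ := hs t
    exact ⟨Sigma.ι (fun i => (W i).left) t w, by
      show π _ = t
      rw [← Scheme.Hom.comp_apply, Sigma.ι_desc, hw]⟩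

end

variable {T U V Z : Scheme.{u}} (c : T ⟶ V) (d : T ⟶ U) (h : U ⟶ V) (k : V ⟶ Z) [Flat c]
  [LocallyOfFinitePresentation c] [Surjective c] (e : d ≫ h = c)
include e

theorem flat_of_section (hhk : Flat (h ≫ k)) : Flat k := by
  refine Groth.L24.LocQ.flat_of_comp_surjective c k
    (flat_of_retraction (pullback.lift d (𝟙 T) (by rw [e, Category.id_comp])) (pullback.snd h c) _
      (pullback.lift_snd _ _ _) ?_)
  rw [← pullback.condition_assoc]
  infer_instance

theorem lfp_of_section (hhk : LocallyOfFinitePresentation (h ≫ k)) : LocallyOfFinitePresentation k := by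
  refine Groth.L24.Alg.locallyOfFinitePresentation_of_fppf_comp c k
    (lfp_of_retraction (pullback.lift d (𝟙 T) (by rw [e, Category.id_comp])) (pullback.snd h c) _
      (pullback.lift_snd _ _ _) ?_)
  rw [← pullback.condition_assoc]
  infer_instance

end Groth.L09.Gerbe
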