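import Groth.Agent.L09.Gerbe.Main
import Groth.Agent.L24.St.DiagAbs
import Groth.Agent.L24.St.Bootstrap

/-!
Sections of gerbes over algebraic spaces; comparison of fibre products over a gerbe.
-/

set_option autoImplicit false
set_option backward.isDefEq.respectTransparency false
set_option backward.isDefEq.respectTransparency.types false

universe u

open CategoryTheory CategoryTheory.Limits AlgebraicGeometry Opposite AlgSt

noncomputable section

namespace Groth.L09.Gerbe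

open Groth.L24.St Groth.L24.LocQ

variable {S : Scheme.{u}} {𝒳 𝒴 : AlgSt.Cat S}

local notation "Jf" => QuotSh.J Scheme.fppfPrecoverage S

theorem faithful_of_ofSp {F : AlgSp.Sp S} (x : ofSp F ⥤ᵇ 𝒳) : x.toFunctor.Faithful := ⟨fun {a b φ ψ} h => by
  have h' := congrArg 𝒳.p.map h
  rw [p_map_map x φ, p_map_map x ψ, cancel_epi, cancel_mono] at h'
  exact Stk.EltObj.Hom.ext h'⟩

theorem isAlgStack_ofSp (F : AlgSp.Space S) : IsAlgStack Scheme.fppfPrecoverage (ofSp F.obj) :=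
  isAlgStack_of_repByAlgSp (𝒳 := ofSp F.obj) ⟨F, _, isEquivOver_id _⟩

theorem repWith_section (h𝒳 : IsAlgStack Scheme.fppfPrecoverage 𝒳) {U : AlgSp.Space S} {π : 𝒳 ⥤ᵇ ofSp U.obj}
    (hπ : Gerb.LocSurjHom Jf π) {x : ofSp U.obj ⥤ᵇ 𝒳}
    (e : BasedFunctor.comp x π ≅ BasedFunctor.id (ofSp U.obj)) :
    RepByAlgSpWith (AlgSp.LocP @Flat) x ∧ RepByAlgSpWith (AlgSp.LocP @LocallyOfFinitePresentation) x ∧
      RepByAlgSpWith AlgSp.IsSurjectiveMor x := by
  have hU := isAlgStack_ofSp U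
  have := faithful_of_ofSp x
  have hr := rep1_of_faithful hU h𝒳 x
  have hl := locSurjObj_section h𝒳.isStack.1 hU.isStack.1 hπ e
  have hx := isFF_section h𝒳 hU e hl
  exact ⟨repWith_of_locQ isSmoothLocalST_flat (pBase_locP Groth.L23.etLocal_flat)
      (isLocalOnBase_locP_fppf Groth.L23.etLocal_flat) hU h𝒳 hr hx.1,
    repWith_of_locQ isSmoothLocalST_lfp (pBase_locP Groth.L23.etLocal_lfp)
      (isLocalOnBase_locP_fppf Groth.L23.etLocal_lfp) hU h𝒳 hr hx.2,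
    repWith_surjective_of_isSurjective hU.isStack.1 h𝒳.isStack.1 hr (isSurjective_of_locSurjObj hU.isStack.1 hl)⟩

/-- The comparison of fibre products over a gerbe is surjective, flat and locally of finite presentation. -/
theorem fpPost_of_gerbe (h𝒳 : IsAlgStack Scheme.fppfPrecoverage 𝒳) (h𝒴 : IsAlgStack Scheme.fppfPrecoverage 𝒴)
    {𝒜 ℬ : AlgSt.Cat S} (h𝒜 : IsAlgStack Scheme.fppfPrecoverage 𝒜) (hℬ : IsAlgStack Scheme.fppfPrecoverage ℬ)
    {f : 𝒳 ⥤ᵇ 𝒴} (hf : Gerb.LocSurjHom Jf f) (a : 𝒜 ⥤ᵇ 𝒳) (b : ℬ ⥤ᵇ 𝒳) :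
    IsSurjective (fpPost a b f) ∧ IsFF (fpPost a b f) := by
  have hY := isAlgStack_fp h𝒜 hℬ h𝒴 (BasedFunctor.comp a f) (BasedFunctor.comp b f)
  have hX := isAlgStack_fp h𝒳 h𝒳 h𝒴 f f
  have hE := cmpLift_isEquivOver a b f
  have hA := isAlgStack_fp h𝒜 hℬ h𝒳 a b
  have hB := isAlgStack_fp hY h𝒳 hX (cmpMap a b f) (FibCat.diag f)
  exact ⟨isSurjective_comp (f := cmpLift a b f) (g := FibCat.fpFst _ _) (isSurjective_of_isEquivOver hE)
      (isSurjective_fpFst h𝒳.isStack.1 hX.isStack.1 hY.isStack.1 _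
        (isSurjective_diag_of_gerbe h𝒳 h𝒴.isStack.1 hf)),
    (IsFF.comp hA hB hY (IsFF.of_isEquivOver hA hB hE)
      (IsFF.fpFst h𝒳 hX hY (cmpMap a b f) (isFF_diag_of_gerbe h𝒳 h𝒴 hf))).congr
        (Iso.refl (BasedFunctor.comp (cmpLift a b f) (FibCat.fpFst _ _)))⟩

end Groth.L09.Gerbe
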