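import Groth.Agent.L09.Gerbe.Core
import Groth.Agent.L24.St.InertiaSep
import Groth.Agent.L09.FibInertia
import Groth.Agent.L24.St.AlgStackInv

/-!
The inertia relative to a presheaf is the absolute inertia.
-/

set_option autoImplicit false
set_option backward.isDefEq.respectTransparency false
set_option backward.isDefEq.respectTransparency.types false

universe u

open CategoryTheory CategoryTheory.Limits AlgebraicGeometry Opposite AlgSt

noncomputable section

namespace Groth.L09.Gerbe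

open Groth.L24.St Groth.L24.LocQ

variable {S : Scheme.{u}} {𝒳 𝒴 : AlgSt.Cat S}

theorem isAlgStack_inertia (h𝒳 : IsAlgStack Scheme.fppfPrecoverage 𝒳) (h𝒴 : IsAlgStack Scheme.fppfPrecoverage 𝒴)
    (f : 𝒳 ⥤ᵇ 𝒴) : IsAlgStack Scheme.fppfPrecoverage (FibCat.inertia f : AlgSt.Cat S) := by
  have := L09.Fib.isFibered_of_isFibGrpd _ h𝒳.isStack.1
  have := L09.Fib.isFibered_of_isFibGrpd _ h𝒴.isStack.1
  have hE := inertiaE_isEquivOver f (L09.Fib.preservesStronglyCartesian_of_isFibGrpd f h𝒴.isStack.1)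
  obtain ⟨d, hd, -, -⟩ := exists_inverse hE
  exact isAlgStack_of_equiv hd
    (isAlgStack_fp h𝒳 h𝒳 (isAlgStack_fp h𝒳 h𝒳 h𝒴 f f) (FibCat.diag f) (FibCat.diag f))

variable {F : (Over S)ᵒᵖ ⥤ Type (u + 1)} (π : 𝒳 ⥤ᵇ Stk.ofPsh F)

theorem aut_p_eq {z : (FibCat.inertia π).obj} : 𝒳.p.map z.aut.hom = 𝟙 (𝒳.p.obj z.pt) := by
  have h := inertia_aut_lift π z
  exact (IsHomLift.eq_of_isHomLift 𝒳.p (𝟙 (𝒳.p.obj z.pt)) z.aut.hom).symm

/-- The inclusion of the inertia relative to a presheaf in the absolute inertia. -/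
def inertiaAbs : FibCat.inertia π ⥤ᵇ FibCat.inertia (FibCat.toSelf 𝒳) where
  toFunctor :=
    { obj := fun z => ⟨z.pt, z.aut, aut_p_eq π⟩
      map := fun f => ⟨f.hom, f.comm⟩
      map_id := fun _ => rfl
      map_comp := fun _ _ => rfl }
  w := rfl

theorem inertiaAbs_isEquivOver : FibCat.IsEquivOver (inertiaAbs π) := by
  have : (inertiaAbs π).toFunctor.Faithful := ⟨fun h => FibCat.InertiaObj.hom_ext (congrArg (fun k => k.hom) h :)⟩
  have : (inertiaAbs π).toFunctor.Full := ⟨fun m => ⟨⟨m.hom, m.comm⟩, rfl⟩⟩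
  refine isEquivOver_of_overId _ fun η => ?_
  have hh : π.map η.aut.hom = 𝟙 _ := by
    have h1 : 𝒳.p.map η.aut.hom = 𝒳.p.map (𝟙 η.pt) := η.map_aut.trans (𝒳.p.map_id _).symm
    exact (ofPsh_faithful π h1).trans (π.toFunctor.map_id _)
  exact ⟨⟨η.pt, η.aut, hh⟩, Iso.refl _, overId_id _⟩

theorem inertiaAbs_toBase :
    BasedFunctor.comp (inertiaAbs π) (FibCat.inertiaToBase (FibCat.toSelf 𝒳)) = FibCat.inertiaToBase π := rfl

/-- The self product of the diagonal over a presheaf is the absolute inertia. -/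
theorem isAlgStack_isFF_diagDiag (h𝒳 : IsAlgStack Scheme.fppfPrecoverage 𝒳)
    (h : IsFF (FibCat.inertiaToBase (FibCat.toSelf 𝒳))) :
    IsAlgStack Scheme.fppfPrecoverage (FibCat.fp (FibCat.diag π) (FibCat.diag π) : AlgSt.Cat S) ∧
      IsFF (FibCat.fpFst (FibCat.diag π) (FibCat.diag π)) := by
  have := L09.Fib.isFibered_of_isFibGrpd _ h𝒳.isStack.1
  have hF : FibCat.IsFibGrpd (Stk.ofPsh F).p := Stk.isFibGrpd_ofPsh F
  have := L09.Fib.isFibered_of_isFibGrpd _ hF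
  have hI := isAlgStack_inertia h𝒳 isAlgStack_selfOver (FibCat.toSelf 𝒳)
  have hA := inertiaAbs_isEquivOver π
  have hE := inertiaE_isEquivOver π (L09.Fib.preservesStronglyCartesian_of_isFibGrpd π hF)
  obtain ⟨a, ha, -, -⟩ := exists_inverse hA
  have hIπ : IsAlgStack Scheme.fppfPrecoverage (FibCat.inertia π : AlgSt.Cat S) := isAlgStack_of_equiv ha hI
  have hP : IsAlgStack Scheme.fppfPrecoverage (FibCat.fp (FibCat.diag π) (FibCat.diag π) : AlgSt.Cat S) :=
    isAlgStack_of_equiv hE hIπ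
  obtain ⟨d, hd, -, ⟨i⟩⟩ := exists_inverse hE
  have hπ : IsFF (FibCat.inertiaToBase π) :=
    (IsFF.comp hIπ hI h𝒳 (IsFF.of_isEquivOver hIπ hI hA) h).congr (Iso.refl _)
  exact ⟨hP, (IsFF.comp hP hIπ h𝒳 (IsFF.of_isEquivOver hP hIπ hd) hπ).congr
    (show BasedFunctor.comp d (FibCat.inertiaToBase π) ≅ FibCat.fpFst (FibCat.diag π) (FibCat.diag π) from
      whiskerR i (FibCat.fpFst (FibCat.diag π) (FibCat.diag π)))⟩

end Groth.L09.Gerbe
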