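import Groth.Agent.L09.Gerbe.Core
import Groth.Agent.L24.St.InertiaSep

/-!
Gerbes of algebraic stacks: flatness, finite presentation, smoothness, the diagonal and the inertia.
-/

set_option autoImplicit false
set_option backward.isDefEq.respectTransparency false
set_option backward.isDefEq.respectTransparency.types false

universe u

open CategoryTheory CategoryTheory.Limits AlgebraicGeometry Opposite AlgSt

noncomputable section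

namespace Groth.L09.Gerbe

open Groth.L24.St Groth.L24.LocQ

variable {S : Scheme.{u}} {𝒳 𝒴 : AlgSt.Cat S}

local notation "Jf" => QuotSh.J Scheme.fppfPrecoverage S

/-- Objects lift locally along a section of a functor along which morphisms lift locally. -/
theorem locSurjObj_section (h𝒳 : FibCat.IsFibGrpd 𝒳.p) (h𝒴 : FibCat.IsFibGrpd 𝒴.p) {f : 𝒳 ⥤ᵇ 𝒴}
    (hf : Gerb.LocSurjHom Jf f) {x : 𝒴 ⥤ᵇ 𝒳} (e : BasedFunctor.comp x f ≅ BasedFunctor.id 𝒴) :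
    Gerb.LocSurjObj Jf x := fun z => by
  have hy : 𝒴.p.obj (f.obj z) = 𝒳.p.obj z := f.w_obj z
  have hb : 𝒴.p.IsHomLift (𝟙 (𝒳.p.obj z)) (e.hom.toNatTrans.app (f.obj z)) :=
    BasedNatTrans.isHomLift e.hom hy
  obtain ⟨R, hR, hR'⟩ := L09.Gerb.homAt hf ((x.w_obj _).trans hy) (x' := z) _ hb
  refine ⟨R, hR, fun V k hk => ?_⟩
  obtain ⟨x₀, φ, ψ, hφ, hψ, -⟩ := hR' k hk
  obtain ⟨y', π, hπ⟩ := L09.Gerb.exists_pull h𝒴 (f.obj z) hy k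
  obtain ⟨χ, hχ, -⟩ := L09.Gerb.connect h𝒳 k (x.map π) φ
  exact ⟨y', χ.hom ≫ ψ, IsHomLift.comp_lift_id_left' 𝒳.p V χ.hom k ψ⟩

theorem locSurjObj_diag (h𝒴 : FibCat.IsFibGrpd 𝒴.p) {f : 𝒳 ⥤ᵇ 𝒴} (hf : Gerb.LocSurjHom Jf f) :
    Gerb.LocSurjObj Jf (FibCat.diag f) := fun w => by
  obtain ⟨R, hR, hR'⟩ := L09.Gerb.homAt hf (show 𝒳.p.obj w.obj.fst = 𝒳.p.obj w.obj.fst from rfl)
    (x' := w.obj.snd) w.obj.iso.hom w.property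
  refine ⟨R, hR, fun V k hk => ?_⟩
  obtain ⟨x₀, φ, ψ, hφ, hψ, e⟩ := hR' k hk
  let m : (FibCat.diag f).obj x₀ ⟶ w := ObjectProperty.homMk
    { fst := φ, snd := ψ
      w := by
        show f.map φ ≫ w.obj.iso.hom = 𝟙 (f.obj x₀) ≫ f.map ψ
        rw [e, Category.id_comp] }
  exact ⟨x₀, m, (L09.Fib.fp_isHomLift_iff k m).2 hφ⟩

theorem locSurjHom_of_diag (h𝒴 : FibCat.IsFibGrpd 𝒴.p) {f : 𝒳 ⥤ᵇ 𝒴}
    (h : Gerb.LocSurjObj Jf (FibCat.diag f)) : Gerb.LocSurjHom Jf f := fun x x' b hb => by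
  have := hb
  have := L09.Fib.isIso_of_isFibGrpd 𝒴.p h𝒴 (𝟙 (𝒳.p.obj x)) b
  let w : (FibCat.fp f f).obj := ⟨⟨x, x', asIso b⟩, hb⟩
  obtain ⟨R, hR, hR'⟩ := L09.Gerb.objAt h (y := w) (U := 𝒳.p.obj x) rfl
  refine ⟨R, hR, fun V k hk => ?_⟩
  obtain ⟨x₀, m, hm⟩ := hR' k hk
  have e : f.map m.hom.fst ≫ b = 𝟙 (f.obj x₀) ≫ f.map m.hom.snd := m.hom.w
  exact ⟨x₀, m.hom.fst, m.hom.snd, (L09.Fib.fp_isHomLift_iff k m).1 hm, L09.Fib.fp_snd_lift k m hm,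
    e.trans (Category.id_comp _)⟩

variable (h𝒳 : IsAlgStack Scheme.fppfPrecoverage 𝒳) (h𝒴 : IsAlgStack Scheme.fppfPrecoverage 𝒴)
include h𝒳 h𝒴

/-- A gerbe becomes one with a section after an fppf covering of the target. -/
theorem exists_cover_section {f : 𝒳 ⥤ᵇ 𝒴} (hf : Gerb.IsGerbeOver Jf f) :
    ∃ (T : Over S) (z : FibCat.overCat T ⥤ᵇ 𝒴) (σ : FibCat.overCat T ⥤ᵇ FibCat.fp z f),
      IsFF z ∧ IsSurjective z ∧ Nonempty (BasedFunctor.comp σ (FibCat.fpFst z f) ≅ BasedFunctor.id _) ∧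
        Gerb.LocSurjObj Jf σ := by
  obtain ⟨T, s, z, ⟨i⟩, hz, hzs⟩ := exists_atlas_lift h𝒳 h𝒴 hf.1
  have hT := isAlgStack_overCat T
  let σ : FibCat.overCat T ⥤ᵇ FibCat.fp z f := FibCat.fpLift (BasedFunctor.id _) s i.symm
  have e : BasedFunctor.comp σ (FibCat.fpFst z f) ≅ BasedFunctor.id _ := Iso.refl _
  exact ⟨T, z, σ, hz, hzs, ⟨e⟩, locSurjObj_section (isAlgStack_fp hT h𝒳 h𝒴 z f).isStack.1 hT.isStack.1
    (L09.Gerb.baseChange h𝒳.isStack.1 h𝒴.isStack.1 hT.isStack.1 hf).2 e⟩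

theorem isFF_of_gerbe {f : 𝒳 ⥤ᵇ 𝒴} (hf : Gerb.IsGerbeOver Jf f) : IsFF f := by
  obtain ⟨T, z, σ, hz, hzs, ⟨e⟩, hσ⟩ := exists_cover_section h𝒳 h𝒴 hf
  have hT := isAlgStack_overCat T
  exact isFF_of_fpFst h𝒴 h𝒳 hT hz hzs (isFF_of_section (isAlgStack_fp hT h𝒳 h𝒴 z f) hT e hσ)

omit h𝒴 in
theorem isSurjective_of_gerbe {f : 𝒳 ⥤ᵇ 𝒴} (hf : Gerb.IsGerbeOver Jf f) : IsSurjective f :=
  isSurjective_of_locSurjObj h𝒳.isStack.1 hf.1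

theorem isFF_diag_of_gerbe {f : 𝒳 ⥤ᵇ 𝒴} (hf : Gerb.LocSurjHom Jf f) : IsFF (FibCat.diag f) :=
  isFF_section (isAlgStack_fp h𝒳 h𝒳 h𝒴 f f) h𝒳
    (show BasedFunctor.comp (FibCat.diag f) (FibCat.fpFst f f) ≅ BasedFunctor.id 𝒳 from Iso.refl _)
    (locSurjObj_diag h𝒴.isStack.1 hf)

omit h𝒴 in
theorem isSurjective_diag_of_gerbe (h : FibCat.IsFibGrpd 𝒴.p) {f : 𝒳 ⥤ᵇ 𝒴} (hf : Gerb.LocSurjHom Jf f) :
    IsSurjective (FibCat.diag f) :=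
  isSurjective_of_locSurjObj h𝒳.isStack.1 (locSurjObj_diag h hf)

theorem isGerbeOver_of_isFF {f : 𝒳 ⥤ᵇ 𝒴} (h₁ : IsFF f) (h₂ : IsSurjective f) (h₃ : IsFF (FibCat.diag f))
    (h₄ : IsSurjective (FibCat.diag f)) : Gerb.IsGerbeOver Jf f :=
  ⟨h₁.locSurjObj h𝒳 h𝒴 h₂,
    locSurjHom_of_diag h𝒴.isStack.1 (h₃.locSurjObj h𝒳 (isAlgStack_fp h𝒳 h𝒳 h𝒴 f f) h₄)⟩

/-- A gerbe is smooth. -/
theorem locQ_smooth_of_gerbe {f : 𝒳 ⥤ᵇ 𝒴} (hf : Gerb.IsGerbeOver Jf f) : LocQ (AlgSp.LocP @Smooth) f := by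
  obtain ⟨T, z, σ, hz, hzs, ⟨e⟩, hσ⟩ := exists_cover_section h𝒳 h𝒴 hf
  have hT := isAlgStack_overCat T
  have hfp := isAlgStack_fp hT h𝒳 h𝒴 z f
  have hP : AlgSp.IsSmoothLocalST (AlgSp.LocP @Smooth : MorphismProperty (AlgSp.Sp S)) :=
    isSmoothLocalST_locP Groth.L23.etLocal_smooth (fun _ h => h) Groth.L23.isLocalAtSource_smooth_smooth
  have hσ' := isFF_section hfp hT e hσ
  exact locQ_of_fpFst_fppf hP (isLocalOnBase_locP_fppf Groth.L23.etLocal_smooth) h𝒳 h𝒴 hT hz.1 hz.2 hzs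
    (locQ_right_of_fppf Groth.L23.etLocal_smooth hP
      (fun a b _ _ _ h => Groth.L23.FppfSmooth.smooth_of_fppf_comp a b h) hT hfp hT hσ'.1 hσ'.2
      (isSurjective_of_locSurjObj hT.isStack.1 hσ) (locQ_congr e.symm (locQ_id Groth.L23.etLocal_smooth hT)))

theorem isFF_inertiaToBase_of_gerbe {f : 𝒳 ⥤ᵇ 𝒴} (hf : Gerb.LocSurjHom Jf f) :
    IsFF (FibCat.inertiaToBase f) := by
  have := L09.Fib.isFibered_of_isFibGrpd _ h𝒳.isStack.1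
  have := L09.Fib.isFibered_of_isFibGrpd _ h𝒴.isStack.1
  have hE := inertiaE_isEquivOver f (L09.Fib.preservesStronglyCartesian_of_isFibGrpd f h𝒴.isStack.1)
  have hP := isAlgStack_fp h𝒳 h𝒳 (isAlgStack_fp h𝒳 h𝒳 h𝒴 f f) (FibCat.diag f) (FibCat.diag f)
  have hI : IsAlgStack Scheme.fppfPrecoverage (FibCat.inertia f : AlgSt.Cat S) :=
    isAlgStack_of_rep1 ((L09.Fib.isFibGrpd_iff_of_isEquivOver hE).2 hP.isStack.1) hP _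
      (repWith_rep1 (repWith_of_isEquivOver (P := ⊤) (fun _ _ _ _ _ _ => trivial) hE))
  exact (IsFF.comp hI hP h𝒳 (IsFF.of_isEquivOver hI hP hE)
    (IsFF.fpFst h𝒳 (isAlgStack_fp h𝒳 h𝒳 h𝒴 f f) h𝒳 _ (isFF_diag_of_gerbe h𝒳 h𝒴 hf))).congr
      (Iso.refl (BasedFunctor.comp (inertiaE f) (FibCat.fpFst (FibCat.diag f) (FibCat.diag f))))

end Groth.L09.Gerbe
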