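import Groth.Agent.L09.Gerbe.InertiaAbs
import Groth.Agent.L09.Gerbe.Main
import Groth.Agent.L09.Gerbe.Space
import Groth.Agent.L24.Boot.QuotFlat
import Groth.Agent.L24.St.Bootstrap2

/-!
A sheaf over which a stack with flat inertia is a gerbe is an algebraic space.
-/

set_option autoImplicit false
set_option backward.isDefEq.respectTransparency false
set_option backward.isDefEq.respectTransparency.types false

universe u

open CategoryTheory CategoryTheory.Limits AlgebraicGeometry Opposite AlgSt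

noncomputable section

namespace Groth.L09.Gerbe

open Groth.L24.St Groth.L24.LocQ

variable {S : Scheme.{u}} {𝒳 : AlgSt.Cat S}

theorem epi_of_locSurjObj {F G : AlgSp.Sp S} (a : F ⟶ G) (h : Gerb.LocSurjObj (AlgSp.J S) (ofSpMap a)) : Epi a := by
  refine (Sheaf.isLocallySurjective_iff_epi' _ a).1 ?_
  refine ⟨fun {T} s => ?_⟩
  obtain ⟨R, hR, hR'⟩ := h (⟨T, s⟩ : (ofSp G).obj)
  refine GrothendieckTopology.superset_covering _ (fun V f hf => ?_) hR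
  obtain ⟨⟨V₀, t⟩, ⟨k, hk⟩, hl⟩ := hR' f hf
  obtain rfl : V₀ = V := IsHomLift.domain_eq (ofSp G).p f (⟨k, hk⟩ : (ofSpMap a).obj ⟨V₀, t⟩ ⟶ ⟨T, s⟩)
  have hkf : k = f := (IsHomLift.fac' (ofSp G).p f (⟨k, hk⟩ : (ofSpMap a).obj ⟨V₀, t⟩ ⟶ ⟨T, s⟩)).trans
    ((Category.id_comp _).trans (Category.comp_id _))
  exact ⟨t, hk.symm.trans (by rw [hkf]; rfl)⟩

variable {F : AlgSp.Sp S} {π : 𝒳 ⥤ᵇ ofSp F}

theorem isAlgSpace_of_gerbe_over_sheaf (h𝒳 : IsAlgStack Scheme.fppfPrecoverage 𝒳)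
    (hπ : Gerb.IsGerbeOver (AlgSp.J S) π) (hI : IsFF (FibCat.inertiaToBase (FibCat.toSelf 𝒳))) :
    AlgSp.IsAlgSpace F := by
  have hFg : FibCat.IsFibGrpd (ofSp F : AlgSt.Cat S).p := ofSp_isFibGrpd F
  obtain ⟨W, a, ha, has⟩ := h𝒳.atlas
  let Ws : AlgSp.Space S := ⟨(AlgSp.yon S).obj W, AlgSp.IsAlgSpace.yon_obj W⟩
  have hW := isAlgStack_ofSp Ws
  let Φ : ofSp Ws.obj ⥤ᵇ 𝒳 := BasedFunctor.comp (toOverCat W) a
  have hΦ : RepByAlgSpWith (AlgSp.LocP @Smooth) Φ := (repWith_precomp (toOverCat_isEquivOver W) a).2 ha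
  have hΦs : RepByAlgSpWith AlgSp.IsSurjectiveMor Φ := (repWith_precomp (toOverCat_isEquivOver W) a).2 has
  have hΦl : Gerb.LocSurjObj (AlgSp.J S) Φ := locSurjObj_of_smooth hW h𝒳 hΦ hΦs
  let Φπ : ofSp Ws.obj ⥤ᵇ ofSp F := BasedFunctor.comp Φ π
  let q : Ws.obj ⟶ F := spMap Φπ
  let iq : Φπ ≅ ofSpMap q := isoOfSpMap Φπ
  have hΦπ : Gerb.LocSurjObj (AlgSp.J S) Φπ := locSurjObj_comp hΦl hπ.1
  have : Epi q := epi_of_locSurjObj q (locSurjObj_congr iq hΦπ)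
  -- isomorphisms between points of the atlas
  have hE := isAlgStack_fp hW hW h𝒳 Φ Φ
  have hset : FibCat.IsFibSetoid (FibCat.fp Φ Φ : AlgSt.Cat S).p :=
    fp_isFibSetoid_of_setoids (ofSp_isFibSetoid _) (ofSp_isFibSetoid _) h𝒳.isStack.1 Φ Φ
  obtain ⟨V, c, hc⟩ := repByAlgSp_of_isFibSetoid hE hset
  have hV := isAlgStack_ofSp V
  -- the equivalence relation
  let R : AlgSp.Sp S := pullback q q
  let s : R ⟶ Ws.obj := pullback.snd q q
  let t : R ⟶ Ws.obj := pullback.fst q q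
  have sqR : IsPullback t s q q := IsPullback.of_hasPullback q q
  have sqP := sqR.map (sheafToPresheaf _ _)
  let ρ : ofSp R ⥤ᵇ FibCat.fp Φπ Φπ :=
    BasedFunctor.comp (pshFp sqP.w) (fpMap (BasedFunctor.id _) (BasedFunctor.id _) iq iq)
  have hρ : FibCat.IsEquivOver ρ := isEquivOver_comp (pshFp_isEquivOver sqP)
    (fpMap_isEquivOver (isEquivOver_id _) (isEquivOver_id _) _ _)
  obtain ⟨ρ', hρ', -, ⟨iρ⟩⟩ := exists_inverse hρ
  let P : ofSp V.obj ⥤ᵇ FibCat.fp Φπ Φπ := BasedFunctor.comp c (fpPost Φ Φ π)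
  let ψ : ofSp V.obj ⥤ᵇ ofSp R := BasedFunctor.comp P ρ'
  let σ : V.obj ⟶ R := spMap ψ
  let iσ : ψ ≅ ofSpMap σ := isoOfSpMap ψ
  have hWg := hW.isStack.1
  have hπg := L09.Fib.fp_isFibGrpd (F := π) (G := π) h𝒳.isStack.1 h𝒳.isStack.1 hFg
  have hRg := L09.Fib.fp_isFibGrpd (F := Φπ) (G := Φπ) hWg hWg hFg
  have hP : Gerb.LocSurjObj (AlgSp.J S) P :=
    locSurjObj_comp (locSurjObj_of_isEquivOver hE.isStack.1 hV.isStack.1 hc)
      (locSurjObj_comp (F := cmpLift Φ Φ π) (G := FibCat.fpFst (cmpMap Φ Φ π) (FibCat.diag π))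
        (locSurjObj_of_isEquivOver (L09.Fib.fp_isFibGrpd hRg h𝒳.isStack.1 hπg) hE.isStack.1
          (cmpLift_isEquivOver Φ Φ π))
        (locSurjObj_fpFst hπg hRg _ (locSurjObj_diag hFg hπ.2)))
  have hψ : Gerb.LocSurjObj (AlgSp.J S) ψ :=
    locSurjObj_comp hP (locSurjObj_of_isEquivOver (ofSp_isFibGrpd R) hRg hρ')
  have : Epi σ := epi_of_locSurjObj σ (locSurjObj_congr iσ hψ)
  -- the kernel pair of the map to the equivalence relation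
  obtain ⟨hD, hDf⟩ := isAlgStack_isFF_diagDiag π h𝒳 hI
  let sE : ofSp V.obj ⥤ᵇ 𝒳 := BasedFunctor.comp c (BasedFunctor.comp (FibCat.fpFst Φ Φ) Φ)
  let W₂ : AlgSp.Sp S := pullback σ σ
  let w₂ : W₂ ⟶ V.obj := pullback.fst σ σ
  have sq₂ : IsPullback w₂ (pullback.snd σ σ) σ σ := IsPullback.of_hasPullback σ σ
  have sqP₂ := sq₂.map (sheafToPresheaf _ _)
  let G₀ := pshFp sqP₂.w
  let G₁ : FibCat.fp (ofSpMap σ) (ofSpMap σ) ⥤ᵇ FibCat.fp ψ ψ :=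
    fpMap (BasedFunctor.id _) (BasedFunctor.id _) iσ iσ
  obtain ⟨G₂, hG₂, -, ⟨i₂⟩⟩ := exists_inverse (fpPost_isEquivOver P P hρ')
  let F₁ := FibCat.fpFst (cmpMap Φ Φ π) (FibCat.diag π)
  let L : ofSp V.obj ⥤ᵇ FibCat.fp (cmpMap Φ Φ π) (FibCat.diag π) := BasedFunctor.comp c (cmpLift Φ Φ π)
  have hL : FibCat.IsEquivOver L := isEquivOver_comp hc (cmpLift_isEquivOver Φ Φ π)
  let G₃ : FibCat.fp P P ⥤ᵇ FibCat.fp P F₁ :=
    fpMap (BasedFunctor.id _) L (Iso.refl _) (Iso.refl (BasedFunctor.comp L F₁))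
  let G₄ := fpPaste P (cmpMap Φ Φ π) (FibCat.diag π)
  let G₅ : FibCat.fp (BasedFunctor.comp P (cmpMap Φ Φ π)) (FibCat.diag π) ⥤ᵇ
      FibCat.fp (BasedFunctor.comp sE (FibCat.diag π)) (FibCat.diag π) :=
    fpMap (BasedFunctor.id _) (BasedFunctor.id _) (whiskerL c (cmpSquare Φ Φ π)).symm (Iso.refl _)
  obtain ⟨G₆, hG₆, -, ⟨i₆⟩⟩ := exists_inverse (fpPaste_isEquivOver sE (FibCat.diag π) (FibCat.diag π))
  have hN := isAlgStack_fp hV hD h𝒳 sE (FibCat.fpFst (FibCat.diag π) (FibCat.diag π))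
  have hNf := IsFF.fpFst hD h𝒳 hV sE hDf
  let G : ofSp W₂ ⥤ᵇ FibCat.fp sE (FibCat.fpFst (FibCat.diag π) (FibCat.diag π)) :=
    BasedFunctor.comp G₀ (BasedFunctor.comp G₁ (BasedFunctor.comp G₂ (BasedFunctor.comp G₃
      (BasedFunctor.comp G₄ (BasedFunctor.comp G₅ G₆)))))
  have hG : FibCat.IsEquivOver G :=
    isEquivOver_comp (pshFp_isEquivOver sqP₂) (isEquivOver_comp
      (fpMap_isEquivOver (isEquivOver_id _) (isEquivOver_id _) _ _) (isEquivOver_comp hG₂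
      (isEquivOver_comp (fpMap_isEquivOver (isEquivOver_id _) hL _ _) (isEquivOver_comp
        (fpPaste_isEquivOver _ _ _) (isEquivOver_comp
          (fpMap_isEquivOver (isEquivOver_id _) (isEquivOver_id _) _ _) hG₆)))))
  have e₆ : BasedFunctor.comp G₆ (FibCat.fpFst sE (FibCat.fpFst (FibCat.diag π) (FibCat.diag π))) ≅
      FibCat.fpFst (BasedFunctor.comp sE (FibCat.diag π)) (FibCat.diag π) :=
    whiskerR i₆ (FibCat.fpFst (BasedFunctor.comp sE (FibCat.diag π)) (FibCat.diag π))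
  have e₂ : BasedFunctor.comp G₂ (FibCat.fpFst P P) ≅ FibCat.fpFst ψ ψ :=
    whiskerR i₂ (FibCat.fpFst ψ ψ)
  have eG : BasedFunctor.comp G (FibCat.fpFst sE (FibCat.fpFst (FibCat.diag π) (FibCat.diag π))) ≅ ofSpMap w₂ :=
    (whiskerL G₀ (whiskerL G₁ (whiskerL G₂ (whiskerL G₃ (whiskerL G₄ (whiskerL G₅ e₆)))))) ≪≫
      (show BasedFunctor.comp G₀ (BasedFunctor.comp G₁ (BasedFunctor.comp G₂ (BasedFunctor.comp G₃
          (BasedFunctor.comp G₄ (BasedFunctor.comp G₅ (FibCat.fpFst _ _)))))) ≅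
        BasedFunctor.comp G₀ (BasedFunctor.comp G₁ (BasedFunctor.comp G₂ (FibCat.fpFst P P))) from Iso.refl _) ≪≫
      whiskerL G₀ (whiskerL G₁ e₂) ≪≫
      (show BasedFunctor.comp G₀ (BasedFunctor.comp G₁ (FibCat.fpFst ψ ψ)) ≅ ofSpMap w₂ from Iso.refl _)
  obtain ⟨G', hG', -, -⟩ := exists_inverse hG
  have hW₂a : IsAlgStack Scheme.fppfPrecoverage (ofSp W₂ : AlgSt.Cat S) := isAlgStack_of_equiv hG' hN
  obtain ⟨Z, z, hz⟩ := repByAlgSp_of_isFibSetoid hW₂a (ofSp_isFibSetoid W₂)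
  have := isIso_spMap hz
  have hW₂ : AlgSp.IsAlgSpace W₂ :=
    ObjectProperty.prop_of_iso (AlgSp.IsAlgSpace (S := S)) (asIso (spMap z)) Z.property
  have hw₂ : IsFF (ofSpMap w₂) :=
    ((IsFF.of_isEquivOver hW₂a hN hG).comp hW₂a hN hV hNf).congr eG
  have hR : AlgSp.IsAlgSpace R := Groth.L24.Boot.isAlgSpace_of_kernelPair sq₂ hW₂ V.property
    ((locQ_ofSpMap_iff isSmoothLocalST_flat ⟨_, hW₂⟩ V _).1 hw₂.1)
    ((locQ_ofSpMap_iff isSmoothLocalST_lfp ⟨_, hW₂⟩ V _).1 hw₂.2)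
  -- the projection of the equivalence relation
  have hRa := isAlgStack_ofSp (⟨R, hR⟩ : AlgSp.Space S)
  have hE₁ : IsFF (BasedFunctor.comp ψ (ofSpMap t)) :=
    ((IsFF.of_isEquivOver hV hE hc).comp hV hE hW
      (IsFF.fpFst hW h𝒳 hW Φ (IsFF.of_smooth hW h𝒳 hΦ))).congr
      ((whiskerL P (whiskerR iρ (FibCat.fpFst Φπ Φπ))).symm)
  have ht : IsFF (ofSpMap t) := isFF_of_locSurj_comp hV hRa hW hψ hE₁
  exact Groth.L24.Boot.isAlgSpace_of_kernelPair sqR hR Ws.property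
    ((locQ_ofSpMap_iff isSmoothLocalST_flat ⟨R, hR⟩ Ws _).1 ht.1)
    ((locQ_ofSpMap_iff isSmoothLocalST_lfp ⟨R, hR⟩ Ws _).1 ht.2)

end Groth.L09.Gerbe
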