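import Groth.Agent.L09.Gerbe.LocSurj
import Groth.Agent.L24.St.Classes
import Mathlib.CategoryTheory.Sites.LocallyBijective

/-!
A stack is a gerbe over the sheaf of its isomorphism classes.
-/

set_option autoImplicit false
set_option backward.isDefEq.respectTransparency false
set_option backward.isDefEq.respectTransparency.types false

universe u

open CategoryTheory CategoryTheory.Limits AlgebraicGeometry Opposite AlgSt

noncomputable section

namespace Groth.L09.Gerbe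

open Groth.L24.St

variable {S : Scheme.{u}} {𝒳 : AlgSt.Cat S} (h : FibCat.IsFibGrpd 𝒳.p)

/-- The sheaf of isomorphism classes. -/
def clsSp : AlgSp.Sp S := (presheafToSheaf (AlgSp.J S) (Type (u + 1))).obj (classPsh h)

/-- The sheafification map. -/
def clsUnit : classPsh h ⟶ (clsSp h).obj := toSheafify (AlgSp.J S) (classPsh h)

instance : Presheaf.IsLocallyInjective (AlgSp.J S) (clsUnit h) :=
  inferInstanceAs (Presheaf.IsLocallyInjective (AlgSp.J S) (toSheafify (AlgSp.J S) (classPsh h)))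

instance : Presheaf.IsLocallySurjective (AlgSp.J S) (clsUnit h) :=
  inferInstanceAs (Presheaf.IsLocallySurjective (AlgSp.J S) (toSheafify (AlgSp.J S) (classPsh h)))

/-- The functor to the sheaf of isomorphism classes. -/
def clsFun : 𝒳 ⥤ᵇ AlgSt.ofSp (clsSp h) :=
  BasedFunctor.comp (toClassPsh (h := h)) (Stk.ofPshMap (clsUnit h))

theorem isGerbeOver_clsFun : Gerb.IsGerbeOver (AlgSp.J S) (clsFun h) := by
  refine ⟨fun y => ?_, fun x x' b hb => ?_⟩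
  · refine ⟨_, Presheaf.imageSieve_mem (AlgSp.J S) (clsUnit h) (U := op y.base) y.sec, fun V f hf => ?_⟩
    obtain ⟨c, hc⟩ := (hf : ∃ c, (clsUnit h).app (op V) c = (clsSp h).obj.map f.op y.sec)
    obtain ⟨⟨a, ha⟩, rfl⟩ := Quot.mk_surjective c
    change 𝒳.p.obj a = V at ha
    subst ha
    exact ⟨a, ⟨f, hc.symm⟩, IsHomLift.map (Stk.EltObj.forget (clsSp h).obj) (⟨f, hc.symm⟩ : (clsFun h).obj a ⟶ y)⟩
  · have hb' : (AlgSt.ofSp (clsSp h)).p.IsHomLift (𝟙 (𝒳.p.obj x)) b := hb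
    have hh : 𝒳.p.obj x' = 𝒳.p.obj x := IsHomLift.codomain_eq (AlgSt.ofSp (clsSp h)).p (𝟙 (𝒳.p.obj x)) b
    have hbh : b.hom = eqToHom hh.symm := by
      have h1 := IsHomLift.fac' (AlgSt.ofSp (clsSp h)).p (𝟙 (𝒳.p.obj x)) b
      change b.hom = _ at h1
      rw [h1]
      simp
    have hl : 𝒳.p.IsHomLift (eqToHom hh.symm) (𝟙 x') := IsHomLift.of_fac' _ _ _ hh rfl (by simp)
    have h1 := b.map_sec
    rw [hbh] at h1
    have heq : (clsUnit h).app (op (𝒳.p.obj x)) (cls ⟨x, rfl⟩) =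
        (clsUnit h).app (op (𝒳.p.obj x)) (cls ⟨x', hh⟩) := by
      refine h1.symm.trans ?_
      refine (NatTrans.naturality_apply (clsUnit h) (eqToHom hh.symm).op _).symm.trans ?_
      exact congrArg _ (pullCls_eq h (eqToHom hh.symm) (a := ⟨x', rfl⟩) (b := ⟨x', hh⟩) (𝟙 x') hl)
    refine ⟨_, Presheaf.equalizerSieve_mem (AlgSp.J S) (clsUnit h) _ _ heq, fun V f hf => ?_⟩
    have hf' : pullCls h f (cls ⟨x, rfl⟩) = pullCls h f (cls ⟨x', hh⟩) := hf
    obtain ⟨⟨x₀, h₀⟩, φ, hφ⟩ := exists_pull h f (⟨x, rfl⟩ : ObjOver 𝒳 (𝒳.p.obj x))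
    obtain ⟨⟨x₁, h₁⟩, φ', hφ'⟩ := exists_pull h f (⟨x', hh⟩ : ObjOver 𝒳 (𝒳.p.obj x))
    rw [pullCls_eq h f φ hφ, pullCls_eq h f φ' hφ'] at hf'
    obtain ⟨i, hi⟩ := cls_eq_iff.1 hf'
    have : 𝒳.p.IsHomLift (𝟙 V) i.hom := hi.lift h₀
    have hψ : 𝒳.p.IsHomLift f (i.hom ≫ φ') := IsHomLift.comp_lift_id_left' 𝒳.p V i.hom f φ'
    refine ⟨x₀, φ, i.hom ≫ φ', hφ, hψ, Stk.EltObj.hom_ext ?_⟩
    show 𝒳.p.map φ ≫ b.hom = 𝒳.p.map (i.hom ≫ φ')
    rw [hbh, IsHomLift.fac' 𝒳.p f φ, IsHomLift.fac' 𝒳.p f (i.hom ≫ φ')]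
    simp

end Groth.L09.Gerbe
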