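import Groth.Prelude.Def_StGerb2
import Groth.Agent.L09.Gerbe.Main

/-!
The automorphism group scheme of a section of a gerbe over a scheme.
-/

set_option autoImplicit false
set_option backward.isDefEq.respectTransparency false
set_option backward.isDefEq.respectTransparency.types false

universe u

open CategoryTheory CategoryTheory.Limits AlgebraicGeometry Opposite AlgSt

noncomputable section

namespace Groth.L09.Gerbe

open Groth.L24.St Groth.L24.LocQ

variable {S : Scheme.{u}} {U : Over S} {𝒳 : AlgSt.Cat S} (G : Over U.left) [GrpObj G]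

/-- The group scheme as a scheme over the base. -/
abbrev grpTot : Over S := Over.mk (G.hom ≫ U.hom)

/-- Its structure morphism. -/
abbrev grpProj : grpTot G ⟶ U := Over.homMk G.hom rfl

/-- The tautological point of the group over an object over it. -/
def grpPt (a : Over (grpTot G)) : (Gerb.ptsGrp U G).obj (op ((AlgSt.overMap (grpProj G)).obj a)) :=
  Over.homMk (U := (Over.iteratedSliceForward U).obj ((AlgSt.overMap (grpProj G)).obj a)) a.hom.left rfl

variable {G} {x : FibCat.overCat U ⥤ᵇ 𝒳} (r : Gerb.AutRep x (Gerb.ptsGrp U G))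

/-- The tautological automorphism. -/
def autIso : BasedFunctor.comp (overMap (grpProj G)) x ≅ BasedFunctor.comp (overMap (grpProj G)) x :=
  mkIso2 (fun a => Functor.Fiber.fiberInclusion.mapIso (r.iso _ (grpPt G a)))
    (fun a b m => by
      have h := r.natural ((AlgSt.overMap (grpProj G)).map m) (grpPt G b)
      have e : (Gerb.ptsGrp U G).map ((AlgSt.overMap (grpProj G)).map m).op (grpPt G b) = grpPt G a := by
        apply Over.OverMorphism.ext
        exact (congrArg (fun q : a.left ⟶ grpTot G => q.left) (Over.w m) :)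
      rw [e] at h
      exact h.symm)
    (fun a => (r.iso _ (grpPt G a)).hom.2)

/-- The comparison with the self fibre product of the section. -/
abbrev autFun : FibCat.overCat (grpTot G) ⥤ᵇ FibCat.fp x x :=
  FibCat.fpLift (overMap (grpProj G)) (overMap (grpProj G)) (autIso r)

theorem autFun_isEquivOver (h𝒳 : FibCat.IsFibGrpd 𝒳.p) {π : 𝒳 ⥤ᵇ FibCat.overCat U}
    (e : BasedFunctor.comp x π ≅ BasedFunctor.id (FibCat.overCat U)) : FibCat.IsEquivOver (autFun r) := by
  have : (autFun r).toFunctor.Faithful := ⟨fun {a b m m'} h => by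
    have h' : ((AlgSt.overMap (grpProj G)).map m) = ((AlgSt.overMap (grpProj G)).map m') :=
      congrArg (fun t => t.hom.fst) h
    exact Over.OverMorphism.ext (congrArg (fun t => t.left) h')⟩
  have : (autFun r).toFunctor.Full := ⟨fun {a b} M => by
    let μ : (AlgSt.overMap (grpProj G)).obj a ⟶ (AlgSt.overMap (grpProj G)).obj b := M.hom.fst
    have hl := L09.Fib.fp_snd_lift _ M (IsHomLift.map (FibCat.fp x x).p M)
    have hs : M.hom.snd = μ := by
      apply Over.OverMorphism.ext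
      have := IsHomLift.fac' (FibCat.overCat U).p ((FibCat.fp x x).p.map M) M.hom.snd
      exact this.trans ((Category.id_comp _).trans (Category.comp_id _))
    have sq : x.map μ ≫ (r.iso _ (grpPt G b)).hom.1 = (r.iso _ (grpPt G a)).hom.1 ≫ x.map μ := by
      have := M.hom.w
      rw [hs] at this
      exact this
    have hn := r.natural μ (grpPt G b)
    rw [sq] at hn
    obtain ⟨_, h1⟩ := OverId.eq (r.iso _ ((Gerb.ptsGrp U G).map μ.op (grpPt G b))).hom.2
    obtain ⟨_, h2⟩ := OverId.eq (r.iso _ (grpPt G a)).hom.2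
    have h3 := ext_of_comp_eq h𝒳 (x.map μ) (h1.trans h2.symm) hn
    have h4 : (Gerb.ptsGrp U G).map μ.op (grpPt G b) = grpPt G a :=
      (r.iso _).injective (Iso.ext (Functor.Fiber.hom_ext h3))
    have h5 : μ.left.left ≫ b.hom.left = a.hom.left := congrArg CommaMorphism.left h4
    exact ⟨Over.homMk μ.left (Over.OverMorphism.ext h5), fp_ext (Over.OverMorphism.ext rfl)
      (hs.symm ▸ Over.OverMorphism.ext rfl)⟩⟩
  refine isEquivOver_of_overId _ fun η => ?_
  let T₁ : Over U := η.obj.fst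
  let T₂ : Over U := η.obj.snd
  let k : x.obj T₁ ≅ x.obj T₂ := η.obj.iso
  have hk : OverId k.hom := fp_overId η
  let c : (show (FibCat.overCat U).obj from T₁) ≅ T₂ :=
    (appIso e T₁).symm ≪≫ π.toFunctor.mapIso k ≪≫ appIso e T₂
  have hc : OverId c.hom := (overId_app e.inv T₁).comp ((hk.map π).comp (overId_app e.hom T₂))
  let k' : x.obj T₁ ⟶ x.obj T₁ := k.hom ≫ x.map c.inv
  have hk' : OverId k' := hk.comp ((OverId.inv hc).map x)
  let α : Gerb.AutO (x.obj T₁) :=
    { hom := ⟨k', hk'⟩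
      inv := ⟨x.map c.hom ≫ k.inv, (hc.map x).comp (OverId.inv hk)⟩
      hom_inv_id := by
        apply Functor.Fiber.hom_ext
        show (k.hom ≫ x.map c.inv) ≫ x.map c.hom ≫ k.inv = 𝟙 (x.obj T₁)
        simp [← Functor.map_comp_assoc]
      inv_hom_id := by
        apply Functor.Fiber.hom_ext
        show (x.map c.hom ≫ k.inv) ≫ k.hom ≫ x.map c.inv = 𝟙 (x.obj T₁)
        simp [← Functor.map_comp] }
  let γ : (Over.iteratedSliceForward U).obj T₁ ⟶ G := (r.iso T₁).symm α
  have hγ : γ.left ≫ G.hom = T₁.hom.left := Over.w γ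
  let a : Over (grpTot G) := Over.mk (Over.homMk (U := T₁.left) γ.left (by
    show γ.left ≫ G.hom ≫ U.hom = T₁.left.hom
    rw [← Category.assoc, hγ, Over.w]) : T₁.left ⟶ grpTot G)
  let ι : (AlgSt.overMap (grpProj G)).obj a ≅ T₁ :=
    Over.isoMk (Iso.refl T₁.left) (Over.OverMorphism.ext ((Category.id_comp _).trans hγ.symm))
  have hι : OverId (𝒳 := FibCat.overCat U) ι.hom := OverId.of_eq rfl (by rfl)
  have hn := r.natural ι.hom ((r.iso T₁).symm α)
  rw [(r.iso T₁).apply_symm_apply] at hn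
  have he : (Gerb.ptsGrp U G).map ι.hom.op ((r.iso T₁).symm α) = grpPt G a :=
    Over.OverMorphism.ext (Category.id_comp _)
  rw [he] at hn
  refine ⟨a, fpIsoMk ι (ι ≪≫ c) ?_, overId_fp _ hι⟩
  show x.map ι.hom ≫ k.hom = (r.iso _ (grpPt G a)).hom.1 ≫ x.map (ι.hom ≫ c.hom)
  calc x.map ι.hom ≫ k.hom = x.map ι.hom ≫ (k.hom ≫ x.map c.inv) ≫ x.map c.hom := by
        simp [← Functor.map_comp]
    _ = (x.map ι.hom ≫ k') ≫ x.map c.hom := (Category.assoc _ _ _).symm
    _ = ((r.iso _ (grpPt G a)).hom.1 ≫ x.map ι.hom) ≫ x.map c.hom := congrArg (· ≫ x.map c.hom) hn.symm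
    _ = _ := (Category.assoc _ _ _).trans (congrArg _ (x.toFunctor.map_comp ι.hom c.hom).symm)

theorem flat_lfp_autGrp (h𝒳 : IsAlgStack Scheme.fppfPrecoverage 𝒳) {π : 𝒳 ⥤ᵇ FibCat.overCat U}
    (hπ : Gerb.LocSurjHom (QuotSh.J Scheme.fppfPrecoverage S) π)
    (e : BasedFunctor.comp x π ≅ BasedFunctor.id (FibCat.overCat U)) (r : Gerb.AutRep x (Gerb.ptsGrp U G)) :
    Flat G.hom ∧ LocallyOfFinitePresentation G.hom := by
  have hU := isAlgStack_overCat U
  have hG := isAlgStack_overCat (grpTot G)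
  have hE := autFun_isEquivOver r h𝒳.isStack.1 e
  have hx := isFF_section h𝒳 hU e (locSurjObj_section h𝒳.isStack.1 hU.isStack.1 hπ e)
  have hQ := isAlgStack_fp hU hU h𝒳 x x
  have hp : IsFF (overMap (grpProj G)) := (IsFF.comp hG hQ hU (IsFF.of_isEquivOver hG hQ hE)
    (IsFF.fpFst hU h𝒳 hU x hx)).congr (Iso.refl (BasedFunctor.comp (autFun r) (FibCat.fpFst x x)))
  have hU' : IsAlgStack Scheme.fppfPrecoverage (ofSp ((AlgSp.yon S).obj U) : AlgSt.Cat S) :=
    isAlgStack_of_repByAlgSp (𝒳 := ofSp ((AlgSp.yon S).obj U)) ⟨⟨_, AlgSp.IsAlgSpace.yon_obj U⟩, _, isEquivOver_id _⟩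
  have hG' : IsAlgStack Scheme.fppfPrecoverage (ofSp ((AlgSp.yon S).obj (grpTot G)) : AlgSt.Cat S) :=
    isAlgStack_of_repByAlgSp (𝒳 := ofSp ((AlgSp.yon S).obj (grpTot G)))
      ⟨⟨_, AlgSp.IsAlgSpace.yon_obj (grpTot G)⟩, _, isEquivOver_id _⟩
  have h : IsFF (ofSpMap ((AlgSp.yon S).map (grpProj G))) :=
    (IsFF.comp hG' hG hU' (IsFF.of_isEquivOver hG' hG (toOverCat_isEquivOver _))
      (IsFF.comp hG hU hU' hp (IsFF.of_isEquivOver hU hU' (ofOverCat_isEquivOver U)))).congr
        (show BasedFunctor.comp (toOverCat (grpTot G)) (BasedFunctor.comp (overMap (grpProj G)) (ofOverCat U)) ≅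
          ofSpMap ((AlgSp.yon S).map (grpProj G)) from eqToIso rfl)
  exact ⟨prop_of_locP_map ((locQ_ofSpMap_iff isSmoothLocalST_flat ⟨_, AlgSp.IsAlgSpace.yon_obj _⟩
      ⟨_, AlgSp.IsAlgSpace.yon_obj _⟩ _).1 h.1),
    prop_of_locP_map ((locQ_ofSpMap_iff isSmoothLocalST_lfp ⟨_, AlgSp.IsAlgSpace.yon_obj _⟩
      ⟨_, AlgSp.IsAlgSpace.yon_obj _⟩ _).1 h.2)⟩

end Groth.L09.Gerbe
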