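import Groth.Prelude.Def_AlgSt6
import Groth.Agent.L24.St.Calc
import Groth.Agent.L24.St.OfPsh

/-!
Classifying stacks along isomorphisms of groups.
-/

set_option autoImplicit false
set_option backward.isDefEq.respectTransparency false
set_option backward.isDefEq.respectTransparency.types false

universe u

open CategoryTheory Category MonoidalCategory CartesianMonoidalCategory MonObj AlgebraicGeometry

noncomputable section

namespace Groth.L09.Gerbe

open Groth.L24.St

variable {S : Scheme.{u}} {K : Precoverage Scheme.{u}} {B : AlgSp.Sp S} {G G' : Over B} [GrpObj G] [GrpObj G']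
  (ψ : G ≅ G')

/-- A group isomorphism transports an action. -/
def transAct (hmul : μ[G] ≫ ψ.hom = (ψ.hom ⊗ₘ ψ.hom) ≫ μ[G']) (hone : η[G] ≫ ψ.hom = η[G']) {P : Over B}
    (a : AlgSp.GAction G' P) : AlgSp.GAction G P where
  act := (ψ.hom ▷ P) ≫ a.act
  one_act := by rw [← comp_whiskerRight_assoc, hone, a.one_act]
  mul_act := by
    rw [← comp_whiskerRight_assoc, hmul, comp_whiskerRight_assoc, a.mul_act, MonoidalCategory.whiskerLeft_comp,
      assoc, whisker_exchange_assoc, tensorHom_def', comp_whiskerRight, assoc, associator_naturality_left_assoc,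
      associator_naturality_middle_assoc]

variable (hmul : μ[G] ≫ ψ.hom = (ψ.hom ⊗ₘ ψ.hom) ≫ μ[G']) (hone : η[G] ≫ ψ.hom = η[G'])
  {X : Over B} {aX : AlgSp.GAction G' X} {X' : Over B} {aX' : AlgSp.GAction G X'} (t : ∀ Y : Over B, Y ⟶ X')
  (ht : ∀ (Y : Over B) (a b : Y ⟶ X'), a = b)

/-- An object of one classifying stack as an object of the other. -/
def transObj (A : AlgSt.SpQuotObj K G' aX) : AlgSt.SpQuotObj K G aX' where
  base := A.base
  b := A.b
  P := A.P
  act := transAct ψ hmul hone A.act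
  π := A.π
  cart := by
    refine A.cart.of_iso (whiskerRightIso ψ A.P).symm (Iso.refl _) (Iso.refl _) (Iso.refl _) ?_ ?_ (by simp) (by simp)
    · show A.act.act ≫ 𝟙 _ = (ψ.inv ▷ A.P) ≫ (ψ.hom ▷ A.P) ≫ A.act.act
      rw [← comp_whiskerRight_assoc, ψ.inv_hom_id, id_whiskerRight, id_comp, comp_id]
    · show snd G' A.P ≫ 𝟙 _ = (ψ.inv ▷ A.P) ≫ snd G A.P
      rw [whiskerRight_snd, comp_id]
  loc := A.loc
  φ := t A.P
  eqv := ht _ _ _

/-- The comparison functor along a group isomorphism. -/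
def transFun : AlgSt.SpQuotSt K G' aX ⥤ᵇ AlgSt.SpQuotSt K G aX' where
  toFunctor :=
    { obj := transObj ψ hmul hone t ht
      map := fun {A A'} f =>
        { base := f.base
          wb := f.wb
          top := f.top
          eqv := by
            show ((ψ.hom ▷ A.P) ≫ A.act.act) ≫ f.top = (G ◁ f.top) ≫ (ψ.hom ▷ A'.P) ≫ A'.act.act
            have h := f.eqv
            exact (assoc _ _ _).trans ((congrArg ((ψ.hom ▷ A.P) ≫ ·) h).trans
              (whisker_exchange_assoc ψ.hom f.top _).symm)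
          cart := f.cart
          wφ := ht _ _ _ }
      map_id := fun _ => rfl
      map_comp := fun _ _ => rfl }
  w := rfl

theorem transFun_isEquivOver (t₀ : ∀ Y : Over B, Y ⟶ X) (ht₀ : ∀ (Y : Over B) (a b : Y ⟶ X), a = b) :
    FibCat.IsEquivOver (transFun (K := K) ψ hmul hone (aX := aX) (aX' := aX') t ht) := by
  have : (transFun (K := K) ψ hmul hone (aX := aX) (aX' := aX') t ht).toFunctor.Faithful :=
    ⟨fun {A A' f g} h => AlgSt.SpQuotObj.hom_ext (congrArg (fun z => z.base) h :) (congrArg (fun z => z.top) h :)⟩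
  have : (transFun (K := K) ψ hmul hone (aX := aX) (aX' := aX') t ht).toFunctor.Full := ⟨fun {A A'} f => by
    refine ⟨⟨f.base, f.wb, f.top, ?_, f.cart, ht₀ _ _ _⟩, rfl⟩
    have h : ((ψ.hom ▷ A.P) ≫ A.act.act) ≫ f.top = (G ◁ f.top) ≫ (ψ.hom ▷ A'.P) ≫ A'.act.act := f.eqv
    have h' : (ψ.hom ▷ A.P) ≫ A.act.act ≫ f.top = (ψ.hom ▷ A.P) ≫ (G' ◁ f.top) ≫ A'.act.act :=
      (assoc _ _ _).symm.trans (h.trans (whisker_exchange_assoc ψ.hom f.top _))
    exact (cancel_epi (ψ.hom ▷ A.P)).1 h'⟩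
  refine isEquivOver_of_overId _ fun C => ?_
  have hmul' : μ[G'] ≫ ψ.inv = (ψ.inv ⊗ₘ ψ.inv) ≫ μ[G] := by
    rw [← cancel_mono ψ.hom, assoc, ψ.inv_hom_id, comp_id, assoc, hmul, ← assoc,
      MonoidalCategory.tensorHom_comp_tensorHom, ψ.inv_hom_id, MonoidalCategory.id_tensorHom_id, id_comp]
  have hone' : η[G'] ≫ ψ.inv = η[G] := by rw [← hone, assoc, ψ.hom_inv_id, comp_id]
  let A : AlgSt.SpQuotObj K G' aX := transObj ψ.symm hmul' hone' t₀ ht₀ C
  let m : (transFun (K := K) ψ hmul hone (aX := aX) (aX' := aX') t ht).obj A ⟶ C :=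
    { base := 𝟙 C.base
      wb := by
        exact (AlgSt.SpQuotObj.Hom.id C).wb
      top := 𝟙 C.P
      eqv := by
        show ((ψ.hom ▷ C.P) ≫ (ψ.inv ▷ C.P) ≫ C.act.act) ≫ 𝟙 _ = (G ◁ 𝟙 C.P) ≫ C.act.act
        rw [← comp_whiskerRight_assoc, ψ.hom_inv_id, id_whiskerRight, id_comp, comp_id,
          MonoidalCategory.whiskerLeft_id, id_comp]
      cart := by
        have h := (AlgSt.SpQuotObj.Hom.id C).cart
        exact h
      wφ := ht _ _ _ }
  have hm : IsIso m := ⟨⟨𝟙 C.base, (AlgSt.SpQuotObj.Hom.id C).wb, 𝟙 C.P, by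
      show C.act.act ≫ 𝟙 _ = (G ◁ 𝟙 C.P) ≫ (ψ.hom ▷ C.P) ≫ (ψ.inv ▷ C.P) ≫ C.act.act
      rw [← comp_whiskerRight_assoc, ψ.hom_inv_id, id_whiskerRight, id_comp, comp_id,
        MonoidalCategory.whiskerLeft_id, id_comp], (AlgSt.SpQuotObj.Hom.id C).cart, ht _ _ _⟩,
    AlgSt.SpQuotObj.hom_ext (comp_id _) (comp_id _), AlgSt.SpQuotObj.hom_ext (comp_id _) (comp_id _)⟩
  exact ⟨A, asIso m, OverId.of_eq (𝒳 := AlgSt.SpQuotSt K G aX') rfl rfl⟩

end Groth.L09.Gerbe
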