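import Groth.Prelude.Def_StGerb
import Groth.Agent.L09.GerbFull
import Mathlib.Algebra.Category.Grp.Limits
import Mathlib.CategoryTheory.Sites.Sheaf
import Mathlib.Algebra.Group.Subgroup.Defs

/-!
The band of a gerbe with commutative automorphism groups.
-/

set_option autoImplicit false
universe v u

open CategoryTheory Category Functor Opposite

namespace Groth.L09.Band

variable {C : Type u} [Category.{v} C] {𝒮 : BasedCategory.{v, max u v} C}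

theorem lift_id_of_eq {w w' : 𝒮.obj} {R : C} (e : 𝒮.p.obj w = R) (g : w ⟶ w')
    (h : 𝒮.p.IsHomLift (𝟙 (𝒮.p.obj w)) g) : 𝒮.p.IsHomLift (𝟙 R) g := by
  subst e; exact h

/-- Two automorphisms of the source agreeing after composition with a morphism agree. -/
theorem autO_ext (h : FibCat.IsFibGrpd 𝒮.p) {w z : 𝒮.obj} (π : w ⟶ z) {a b : Gerb.AutO w}
    (e : a.hom.1 ≫ π = b.hom.1 ≫ π) : a = b := by
  refine Iso.ext (Subtype.ext ?_)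
  have ha : 𝒮.p.IsHomLift (𝟙 (𝒮.p.obj w)) a.hom.1 := a.hom.2
  have hb : 𝒮.p.IsHomLift (𝟙 (𝒮.p.obj w)) b.hom.1 := b.hom.2
  have := Fib.stronglyCartesian_of_isFibGrpd 𝒮.p h (𝒮.p.map π) π
  exact IsStronglyCartesian.ext 𝒮.p (𝒮.p.map π) π (𝟙 (𝒮.p.obj w)) e

/-- Restriction of an automorphism along a morphism. -/
theorem exists_restr (h : FibCat.IsFibGrpd 𝒮.p) {w x : 𝒮.obj} (c : w ⟶ x) (α : Gerb.AutO x) :
    ∃ ρ : Gerb.AutO w, ρ.hom.1 ≫ c = c ≫ α.hom.1 := by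
  have ha : 𝒮.p.IsHomLift (𝟙 (𝒮.p.obj x)) α.hom.1 := α.hom.2
  haveI : 𝒮.p.IsHomLift (𝒮.p.map c) (c ≫ α.hom.1) :=
    IsHomLift.comp_lift_id_right 𝒮.p (𝒮.p.map c) c α.hom.1
  obtain ⟨χ, hχ, hχ'⟩ := Gerb.connect h (𝒮.p.map c) (c ≫ α.hom.1) c
  obtain ⟨ρ, hρ⟩ := Gerb.exists_autO h (V := 𝒮.p.obj w) χ.hom
  exact ⟨ρ, by rw [hρ]; exact hχ'⟩

/-- Restrictions along two morphisms over the same arrow agree when the source has commutative automorphisms. -/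
theorem restr_unique (h : FibCat.IsFibGrpd 𝒮.p) (hcomm : ∀ (x : 𝒮.obj) (α β : Gerb.AutO x), α * β = β * α)
    {w x : 𝒮.obj} {c c' : w ⟶ x} (e : 𝒮.p.map c = 𝒮.p.map c') {α : Gerb.AutO x} {ρ ρ' : Gerb.AutO w}
    (hρ : ρ.hom.1 ≫ c = c ≫ α.hom.1) (hρ' : ρ'.hom.1 ≫ c' = c' ≫ α.hom.1) : ρ' = ρ := by
  haveI : 𝒮.p.IsHomLift (𝒮.p.map c) c' := by rw [e]; infer_instance
  obtain ⟨χ, hχ, hχ'⟩ := Gerb.connect h (𝒮.p.map c) c' c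
  obtain ⟨β, hβ⟩ := Gerb.exists_autO h (V := 𝒮.p.obj w) χ.hom
  have hc := congrArg (fun a : Gerb.AutO w => a.hom.1) (hcomm w ρ β)
  change β.hom.1 ≫ ρ.hom.1 = ρ.hom.1 ≫ β.hom.1 at hc
  refine autO_ext h c' ?_
  rw [hρ', ← hχ', ← hβ, ← assoc ρ.hom.1, ← hc, assoc, assoc, hρ]

variable {J : GrothendieckTopology C}

/-- Automorphisms are determined locally. -/
theorem autO_ext_locally (h𝒮 : Stk.IsStack J 𝒮) {z : 𝒮.obj} {R : Sieve (𝒮.p.obj z)} (hR : R ∈ J (𝒮.p.obj z))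
    {α β : Gerb.AutO z} (h : ∀ ⦃V : C⦄ (f : V ⟶ 𝒮.p.obj z), R f →
      ∃ (w : 𝒮.obj) (π : w ⟶ z), 𝒮.p.IsHomLift f π ∧ π ≫ α.hom.1 = π ≫ β.hom.1) : α = β := by
  have ha : 𝒮.p.IsHomLift (𝟙 (𝒮.p.obj z)) α.hom.1 := α.hom.2
  have hb : 𝒮.p.IsHomLift (𝟙 (𝒮.p.obj z)) β.hom.1 := β.hom.2
  haveI : (Stk.resSieve R 𝒮).IsEquivalence := h𝒮.2 R hR
  exact Iso.ext (Functor.Fiber.hom_ext (Stk.eq_of_locally h𝒮.1 (R := R) inferInstance α.hom.1 β.hom.1 h))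

/-- Automorphisms glue along a covering sieve. -/
theorem glue_autO (h𝒮 : Stk.IsStack J 𝒮) {z : 𝒮.obj} {R : Sieve (𝒮.p.obj z)} (hR : R ∈ J (𝒮.p.obj z))
    (a : ∀ (w : 𝒮.obj) (π : w ⟶ z), R (𝒮.p.map π) → Gerb.AutO w)
    (ha : ∀ (w' w : 𝒮.obj) (χ : w' ⟶ w) (π : w ⟶ z) (hπ : R (𝒮.p.map π)) (hπ' : R (𝒮.p.map (χ ≫ π))),
      (a w' (χ ≫ π) hπ').hom.1 ≫ χ = χ ≫ (a w π hπ).hom.1) :
    ∃ α : Gerb.AutO z, ∀ (w : 𝒮.obj) (π : w ⟶ z) (hπ : R (𝒮.p.map π)),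
      (a w π hπ).hom.1 ≫ π = π ≫ α.hom.1 := by
  have := Fib.isFibered_of_isFibGrpd _ h𝒮.1
  let U := 𝒮.p.obj z
  let Gz : FibCat.overCat U ⥤ᵇ 𝒮 := Fib.ofObj (rfl : 𝒮.p.obj z = U)
  obtain ⟨ez⟩ := Fib.evalAtId_ofObj (U := U) (Gerb.fib z)
  have hez : 𝒮.p.IsHomLift (𝟙 U) ez.hom.1 := ez.hom.2
  let pz : ∀ c : Over U, Gz.obj c ⟶ z := fun c => Gz.map (Fib.toTerm c) ≫ ez.hom.1
  have hpz : ∀ c : Over U, 𝒮.p.IsHomLift c.hom (pz c) := fun c =>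
    @IsHomLift.comp_lift_id_right _ _ _ _ 𝒮.p _ _ _ _ _ c.hom (Gz.map (Fib.toTerm c))
      (Fib.map_toTerm_sc Gz (Fib.preservesStronglyCartesian_of_isFibGrpd Gz h𝒮.1) c).toIsHomLift
      ez.hom.1 hez
  have hmem : ∀ k : (Stk.sieveCat R).obj, R (𝒮.p.map (pz k.obj)) := fun k => by
    have := hpz k.obj
    rw [show 𝒮.p.map (pz k.obj) = eqToHom (IsHomLift.domain_eq 𝒮.p k.obj.hom (pz k.obj)) ≫ k.obj.hom from
      (IsHomLift.fac' 𝒮.p k.obj.hom (pz k.obj)).trans (by simp)]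
    exact R.downward_closed k.property _
  have a_eq : ∀ (w : 𝒮.obj) (π π' : w ⟶ z) (hπ : R (𝒮.p.map π)) (hπ' : R (𝒮.p.map π')), π = π' →
      a w π hπ = a w π' hπ' := by
    rintro w π π' hπ hπ' rfl; rfl
  let γ : (Stk.resSieve R 𝒮).obj Gz ⟶ (Stk.resSieve R 𝒮).obj Gz :=
    { app := fun k => (a (Gz.obj k.obj) (pz k.obj) (hmem k)).hom.1
      naturality := fun k l n => by
        show Gz.map n.hom ≫ (a _ (pz l.obj) (hmem l)).hom.1 = (a _ (pz k.obj) (hmem k)).hom.1 ≫ Gz.map n.hom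
        have et : Gz.map n.hom ≫ pz l.obj = pz k.obj :=
          (assoc _ _ _).symm.trans (congrArg (· ≫ ez.hom.1) ((Gz.toFunctor.map_comp _ _).symm.trans
            (congrArg Gz.map (Over.OverMorphism.ext (Over.w n.hom) : n.hom ≫ Fib.toTerm l.obj = Fib.toTerm k.obj))))
        rw [a_eq _ (pz k.obj) (Gz.map n.hom ≫ pz l.obj) (hmem k) (et ▸ hmem k) et.symm]
        exact (ha _ _ (Gz.map n.hom) (pz l.obj) (hmem l) _).symm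
      isHomLift' := fun k => by
        have h1 : 𝒮.p.IsHomLift (𝟙 (𝒮.p.obj (Gz.obj k.obj))) (a _ (pz k.obj) (hmem k)).hom.1 :=
          (a _ (pz k.obj) (hmem k)).hom.2
        exact lift_id_of_eq (Gz.w_obj k.obj) _ h1 }
  haveI : (Stk.resSieve R 𝒮).IsEquivalence := h𝒮.2 R hR
  obtain ⟨t, ht⟩ := (Stk.resSieve R 𝒮).map_surjective γ
  let m : Gerb.fib z ⟶ Gerb.fib z := ez.inv ≫ (FibCat.evalAtId 𝒮 U).map t ≫ ez.hom
  have hm : 𝒮.p.IsHomLift (𝟙 U) m.1 := m.2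
  obtain ⟨α, hα⟩ := Gerb.exists_autO h𝒮.1 (V := U) m.1
  refine ⟨α, fun w π hπ => ?_⟩
  let k : (Stk.sieveCat R).obj := ⟨Over.mk (𝒮.p.map π), hπ⟩
  have : 𝒮.p.IsHomLift (𝒮.p.map π) (pz k.obj) := hpz k.obj
  obtain ⟨χ, -, hχ⟩ := Gerb.connect h𝒮.1 (𝒮.p.map π) π (pz k.obj)
  have e1 : (a w π hπ).hom.1 ≫ χ.hom = χ.hom ≫ (a _ (pz k.obj) (hmem k)).hom.1 := by
    rw [a_eq w π (χ.hom ≫ pz k.obj) hπ (by rw [hχ]; exact hπ) hχ.symm]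
    exact ha _ _ _ _ (hmem k) _
  have hk : t.toNatTrans.app k.obj = (a _ (pz k.obj) (hmem k)).hom.1 :=
    congrArg (fun t => t.toNatTrans.app k) ht
  have e0 : ez.hom.1 ≫ ez.inv.1 = 𝟙 _ := congrArg Subtype.val ez.hom_inv_id
  have e2 : pz k.obj ≫ α.hom.1 = (a _ (pz k.obj) (hmem k)).hom.1 ≫ pz k.obj := by
    rw [hα]
    show (Gz.map (Fib.toTerm k.obj) ≫ ez.hom.1) ≫ ez.inv.1 ≫ t.toNatTrans.app (Over.mk (𝟙 U)) ≫ ez.hom.1 =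
      (a _ (pz k.obj) (hmem k)).hom.1 ≫ Gz.map (Fib.toTerm k.obj) ≫ ez.hom.1
    exact (assoc _ _ _).trans ((congrArg (Gz.map (Fib.toTerm k.obj) ≫ ·)
      ((assoc _ _ _).symm.trans ((congrArg (· ≫ _) e0).trans (id_comp _)))).trans
        ((assoc _ _ _).symm.trans ((congrArg (· ≫ ez.hom.1)
          ((t.toNatTrans.naturality (Fib.toTerm k.obj)).trans
            (congrArg (· ≫ Gz.map (Fib.toTerm k.obj)) hk))).trans (assoc _ _ _))))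
  calc (a w π hπ).hom.1 ≫ π = (a w π hπ).hom.1 ≫ χ.hom ≫ pz k.obj := congrArg _ hχ.symm
    _ = χ.hom ≫ (a _ (pz k.obj) (hmem k)).hom.1 ≫ pz k.obj :=
      (assoc _ _ _).symm.trans ((congrArg (· ≫ pz k.obj) e1).trans (assoc _ _ _))
    _ = χ.hom ≫ pz k.obj ≫ α.hom.1 := congrArg _ e2.symm
    _ = π ≫ α.hom.1 := (assoc _ _ _).symm.trans (congrArg (· ≫ α.hom.1) hχ)

/-- Natural families of automorphisms of the objects lying over an object of the base. -/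
def famSubgroup (U : C) : Subgroup (∀ zh : Σ z : 𝒮.obj, (𝒮.p.obj z ⟶ U), Gerb.AutO zh.1) where
  carrier := {s | ∀ (z' z : 𝒮.obj) (φ : z' ⟶ z) (h : 𝒮.p.obj z ⟶ U),
    (s ⟨z', 𝒮.p.map φ ≫ h⟩).hom.1 ≫ φ = φ ≫ (s ⟨z, h⟩).hom.1}
  one_mem' := fun z' z φ h => by
    show 𝟙 z' ≫ φ = φ ≫ 𝟙 z
    simp
  mul_mem' := fun {s t} hs ht z' z φ h => by
    show ((t ⟨z', _⟩).hom.1 ≫ (s ⟨z', _⟩).hom.1) ≫ φ = φ ≫ (t ⟨z, h⟩).hom.1 ≫ (s ⟨z, h⟩).hom.1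
    rw [assoc, hs z' z φ h, reassoc_of% ht z' z φ h]
  inv_mem' := fun {s} hs z' z φ h => by
    show (s ⟨z', _⟩).inv.1 ≫ φ = φ ≫ (s ⟨z, h⟩).inv.1
    have e1 : (s ⟨z', 𝒮.p.map φ ≫ h⟩).inv.1 ≫ (s ⟨z', 𝒮.p.map φ ≫ h⟩).hom.1 = 𝟙 z' :=
      congrArg Subtype.val (s ⟨z', 𝒮.p.map φ ≫ h⟩).inv_hom_id
    have e2 : (s ⟨z, h⟩).hom.1 ≫ (s ⟨z, h⟩).inv.1 = 𝟙 z :=
      congrArg Subtype.val (s ⟨z, h⟩).hom_inv_id
    calc (s ⟨z', _⟩).inv.1 ≫ φ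
        = (s ⟨z', 𝒮.p.map φ ≫ h⟩).inv.1 ≫ (φ ≫ (s ⟨z, h⟩).hom.1) ≫ (s ⟨z, h⟩).inv.1 := by
          rw [assoc, e2, comp_id]
      _ = φ ≫ (s ⟨z, h⟩).inv.1 := by
          rw [← hs z' z φ h]
          simp only [← assoc, e1, id_comp]

/-- Restriction of natural families. -/
def famMap {U V : C} (f : V ⟶ U) : famSubgroup (𝒮 := 𝒮) U →* famSubgroup (𝒮 := 𝒮) V where
  toFun s := ⟨fun zh => s.1 ⟨zh.1, zh.2 ≫ f⟩, fun z' z φ h => by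
    show (s.1 ⟨z', (𝒮.p.map φ ≫ h) ≫ f⟩).hom.1 ≫ φ = _
    rw [assoc]
    exact s.2 z' z φ (h ≫ f)⟩
  map_one' := rfl
  map_mul' _ _ := rfl

theorem fam_congr {U : C} (s : famSubgroup (𝒮 := 𝒮) U) (z : 𝒮.obj) {h h' : 𝒮.p.obj z ⟶ U} (e : h = h') :
    s.1 ⟨z, h⟩ = s.1 ⟨z, h'⟩ := by subst e; rfl

variable (𝒮) in
/-- The presheaf of natural families. -/
def famPsh : Cᵒᵖ ⥤ GrpCat.{max u v} where
  obj U := GrpCat.of (famSubgroup (𝒮 := 𝒮) U.unop)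
  map f := GrpCat.ofHom (famMap f.unop)
  map_id U := GrpCat.hom_ext (MonoidHom.ext fun s => Subtype.ext (funext fun zh => fam_congr s zh.1 (comp_id _)))
  map_comp f g := GrpCat.hom_ext (MonoidHom.ext fun s => Subtype.ext (funext fun zh =>
    fam_congr s zh.1 (assoc _ _ _).symm))

theorem famPsh_isSheaf (h𝒮 : Stk.IsStack J 𝒮) : Presheaf.IsSheaf J (famPsh 𝒮) := by
  rw [Presheaf.isSheaf_iff_isSheaf_forget J (famPsh 𝒮) (CategoryTheory.forget GrpCat.{max u v}),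
    isSheaf_iff_isSheaf_of_type]
  intro U R hR x hx
  have hx' := (Presieve.compatible_iff_sieveCompatible x).1 hx
  have hcompat : ∀ {V W : C} (f : V ⟶ U) (hf : R f) (g : W ⟶ V) (z : 𝒮.obj) (h : 𝒮.p.obj z ⟶ W),
      (x (g ≫ f) (R.downward_closed hf g)).1 ⟨z, h⟩ = (x f hf).1 ⟨z, h ≫ g⟩ := fun f hf g z h => by
    rw [hx' f g hf]; rfl
  have hx_congr : ∀ {V : C} (f f' : V ⟶ U) (hf : R f) (hf' : R f') (z : 𝒮.obj) (h : 𝒮.p.obj z ⟶ V),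
      f = f' → (x f hf).1 ⟨z, h⟩ = (x f' hf').1 ⟨z, h⟩ := by
    rintro V f f' hf hf' z h rfl; rfl
  have key : ∀ (z : 𝒮.obj) (h : 𝒮.p.obj z ⟶ U), ∃ α : Gerb.AutO z, ∀ (w : 𝒮.obj) (π : w ⟶ z)
      (hπ : R (𝒮.p.map π ≫ h)), ((x _ hπ).1 ⟨w, 𝟙 _⟩).hom.1 ≫ π = π ≫ α.hom.1 := by
    intro z h
    refine glue_autO h𝒮 (J.pullback_stable h hR) (fun w π hπ => (x _ hπ).1 ⟨w, 𝟙 _⟩)
      fun w' w χ π hπ hπ' => ?_
    rw [hx_congr (𝒮.p.map (χ ≫ π) ≫ h) (𝒮.p.map χ ≫ 𝒮.p.map π ≫ h) hπ' (R.downward_closed hπ _) w' (𝟙 _)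
      (by rw [map_comp, assoc]), hcompat _ hπ, id_comp, ← comp_id (𝒮.p.map χ)]
    exact (x _ hπ).2 w' w χ (𝟙 _)
  choose α hα using key
  refine ⟨⟨fun zh => α zh.1 zh.2, fun z' z φ h => ?_⟩, fun V f hf => ?_, fun t ht => ?_⟩
  · obtain ⟨β, hβ⟩ := exists_restr h𝒮.1 φ (α z h)
    show (α z' (𝒮.p.map φ ≫ h)).hom.1 ≫ φ = φ ≫ (α z h).hom.1
    rw [show α z' (𝒮.p.map φ ≫ h) = β from
      autO_ext_locally h𝒮 (J.pullback_stable (𝒮.p.map φ ≫ h) hR) fun V f hf => by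
        obtain ⟨w, π, hπ⟩ := h𝒮.1.exists_lift (x := z') f
        have hR₁ : R (𝒮.p.map π ≫ 𝒮.p.map φ ≫ h) := by
          rw [show 𝒮.p.map π = eqToHom (IsHomLift.domain_eq 𝒮.p f π) ≫ f from
            (IsHomLift.fac' 𝒮.p f π).trans (by simp), assoc]
          exact R.downward_closed hf _
        refine ⟨w, π, hπ, ?_⟩
        have e₁ := hα z' (𝒮.p.map φ ≫ h) w π hR₁
        have e₂ := hα z h w (π ≫ φ) (by rw [map_comp, assoc]; exact hR₁)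
        rw [hx_congr (𝒮.p.map (π ≫ φ) ≫ h) (𝒮.p.map π ≫ 𝒮.p.map φ ≫ h) _ hR₁ w (𝟙 _)
          (by rw [map_comp, assoc])] at e₂
        rw [← e₁]
        obtain ⟨δ, hδ⟩ := exists_restr h𝒮.1 π β
        rw [← hδ]
        congr 1
        refine congrArg (fun a : Gerb.AutO w => a.hom.1) (autO_ext h𝒮.1 (π ≫ φ) ?_)
        rw [e₂, reassoc_of% hδ, hβ, assoc]]
    exact hβ
  · refine Subtype.ext (funext fun ⟨z, h⟩ => ?_)
    show α z (h ≫ f) = (x f hf).1 ⟨z, h⟩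
    have e := hα z (h ≫ f) z (𝟙 z) (by rw [CategoryTheory.Functor.map_id, id_comp]; exact R.downward_closed hf h)
    have e' := (Iso.ext (Subtype.ext ((comp_id _).symm.trans (e.trans (id_comp _)))) :
      ((x _ _).1 ⟨z, 𝟙 _⟩ : Gerb.AutO z) = α z (h ≫ f))
    rw [hx_congr (𝒮.p.map (𝟙 z) ≫ h ≫ f) (h ≫ f) _ (R.downward_closed hf h) z (𝟙 _)
        (by rw [CategoryTheory.Functor.map_id, id_comp]), hcompat f hf h, id_comp] at e'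
    exact e'.symm
  · refine Subtype.ext (funext fun ⟨z, h⟩ => ?_)
    show t.1 ⟨z, h⟩ = α z h
    refine autO_ext_locally h𝒮 (J.pullback_stable h hR) fun V f hf => ?_
    obtain ⟨w, π, hπ⟩ := h𝒮.1.exists_lift (x := z) f
    have hR₁ : R (𝒮.p.map π ≫ h) := by
      rw [show 𝒮.p.map π = eqToHom (IsHomLift.domain_eq 𝒮.p f π) ≫ f from
        (IsHomLift.fac' 𝒮.p f π).trans (by simp), assoc]
      exact R.downward_closed hf _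
    refine ⟨w, π, hπ, ?_⟩
    rw [← hα z h w π hR₁, ← t.2 w z π h, ← ht _ hR₁]
    show _ = (t.1 ⟨w, 𝟙 _ ≫ 𝒮.p.map π ≫ h⟩).hom.1 ≫ π
    rw [id_comp]

/-- Locally every object over an arrow maps to the given object. -/
theorem exists_near (h𝒮 : Gerb.IsGerbe J 𝒮) (x z : 𝒮.obj) (h : 𝒮.p.obj z ⟶ 𝒮.p.obj x) :
    ∃ R ∈ J (𝒮.p.obj z), ∀ (w : 𝒮.obj) (π : w ⟶ z), R (𝒮.p.map π) →
      ∃ c : w ⟶ x, 𝒮.p.map c = 𝒮.p.map π ≫ h := by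
  obtain ⟨xh, c₀, hc₀⟩ := h𝒮.1.1.exists_lift (x := x) h
  have hxh := IsHomLift.domain_eq 𝒮.p h c₀
  obtain ⟨R, hR, hR'⟩ := Gerb.homAt h𝒮.2.2 (x := z) (x' := xh) rfl (eqToHom hxh.symm)
    (IsHomLift.of_fac' _ _ _ rfl hxh (by simp [FibCat.toSelf, FibCat.selfOver, eqToHom_map]))
  refine ⟨R, hR, fun w π hπ => ?_⟩
  obtain ⟨w₀, φ, ψ, hφ, hψ, -⟩ := hR' (𝒮.p.map π) hπ
  obtain ⟨χ, hχ, hχ'⟩ := Gerb.connect h𝒮.1.1 (𝒮.p.map π) π φ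
  haveI := hχ
  haveI : 𝒮.p.IsHomLift (𝒮.p.map π) (χ.hom ≫ ψ) :=
    IsHomLift.comp_lift_id_left' 𝒮.p (𝒮.p.obj w) χ.hom (𝒮.p.map π) ψ
  haveI : 𝒮.p.IsHomLift (𝒮.p.map π ≫ h) ((χ.hom ≫ ψ) ≫ c₀) := inferInstance
  exact ⟨(χ.hom ≫ ψ) ≫ c₀, (IsHomLift.fac' 𝒮.p (𝒮.p.map π ≫ h) ((χ.hom ≫ ψ) ≫ c₀)).trans (by simp)⟩

/-- Evaluation of natural families at an object. -/
def eval (x : 𝒮.obj) : famSubgroup (𝒮 := 𝒮) (𝒮.p.obj x) →* Gerb.AutO x where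
  toFun s := s.1 ⟨x, 𝟙 _⟩
  map_one' := rfl
  map_mul' _ _ := rfl

theorem eval_bijective (h𝒮 : Gerb.IsGerbe J 𝒮) (hcomm : ∀ (x : 𝒮.obj) (α β : Gerb.AutO x), α * β = β * α)
    (x : 𝒮.obj) : Function.Bijective (eval x) := by
  constructor
  · intro s t e
    refine Subtype.ext (funext fun ⟨z, h⟩ => ?_)
    obtain ⟨R, hR, hR'⟩ := exists_near h𝒮 x z h
    refine autO_ext_locally h𝒮.1 hR fun V f hf => ?_
    obtain ⟨w, π, hπ⟩ := h𝒮.1.1.exists_lift (x := z) f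
    obtain ⟨c, hc⟩ := hR' w π (by
      rw [show 𝒮.p.map π = eqToHom (IsHomLift.domain_eq 𝒮.p f π) ≫ f from
        (IsHomLift.fac' 𝒮.p f π).trans (by simp)]
      exact R.downward_closed hf _)
    refine ⟨w, π, hπ, ?_⟩
    have e' : s.1 ⟨w, 𝒮.p.map c ≫ 𝟙 _⟩ = t.1 ⟨w, 𝒮.p.map c ≫ 𝟙 _⟩ := autO_ext h𝒮.1.1 c (by
      rw [s.2 w x c (𝟙 _), t.2 w x c (𝟙 _)]
      exact congrArg (c ≫ ·) (congrArg (fun a : Gerb.AutO x => a.hom.1) e))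
    rw [← s.2 w z π h, ← t.2 w z π h, fam_congr s w (hc.symm.trans (comp_id _).symm),
      fam_congr t w (hc.symm.trans (comp_id _).symm), e']
  · intro α
    have key : ∀ (z : 𝒮.obj) (h : 𝒮.p.obj z ⟶ 𝒮.p.obj x), ∃ β : Gerb.AutO z,
        ∃ R ∈ J (𝒮.p.obj z), ∀ (w : 𝒮.obj) (π : w ⟶ z), R (𝒮.p.map π) →
          ∀ (c : w ⟶ x), 𝒮.p.map c = 𝒮.p.map π ≫ h → ∀ ρ : Gerb.AutO w,
            ρ.hom.1 ≫ c = c ≫ α.hom.1 → ρ.hom.1 ≫ π = π ≫ β.hom.1 := by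
      intro z h
      obtain ⟨R, hR, hR'⟩ := exists_near h𝒮 x z h
      choose c hc using hR'
      choose ρ hρ using fun w π hπ => exists_restr h𝒮.1.1 (c w π hπ) α
      obtain ⟨β, hβ⟩ := glue_autO h𝒮.1 hR ρ fun w' w χ π hπ hπ' => by
        obtain ⟨δ, hδ⟩ := exists_restr h𝒮.1.1 χ (ρ w π hπ)
        rw [restr_unique h𝒮.1.1 hcomm (c := χ ≫ c w π hπ) (c' := c w' (χ ≫ π) hπ')
          (by rw [map_comp, hc, hc, map_comp, assoc]) (ρ := δ)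
          (by rw [reassoc_of% hδ, hρ, assoc]) (hρ w' (χ ≫ π) hπ')]
        exact hδ
      refine ⟨β, R, hR, fun w π hπ c' hc' ρ' hρ' => ?_⟩
      rw [restr_unique h𝒮.1.1 hcomm (by rw [hc, hc']) (hρ w π hπ) hρ']
      exact hβ w π hπ
    choose β R hR hβ using key
    refine ⟨⟨fun zh => β zh.1 zh.2, fun z' z φ h => ?_⟩, ?_⟩
    · obtain ⟨γ, hγ⟩ := exists_restr h𝒮.1.1 φ (β z h)
      show (β z' (𝒮.p.map φ ≫ h)).hom.1 ≫ φ = φ ≫ (β z h).hom.1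
      obtain ⟨R₁, hR₁, hR₁'⟩ := exists_near h𝒮 x z' (𝒮.p.map φ ≫ h)
      rw [show β z' (𝒮.p.map φ ≫ h) = γ from autO_ext_locally h𝒮.1
        (J.intersection_covering (J.intersection_covering (hR z' (𝒮.p.map φ ≫ h)) hR₁)
          (J.pullback_stable (𝒮.p.map φ) (hR z h))) fun V f hf => by
          obtain ⟨w, π, hπ⟩ := h𝒮.1.1.exists_lift (x := z') f
          have hf' : 𝒮.p.map π = eqToHom (IsHomLift.domain_eq 𝒮.p f π) ≫ f :=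
            (IsHomLift.fac' 𝒮.p f π).trans (by simp)
          obtain ⟨c, hc⟩ := hR₁' w π (by rw [hf']; exact Sieve.downward_closed _ hf.1.2 _)
          obtain ⟨ρ, hρ⟩ := exists_restr h𝒮.1.1 c α
          refine ⟨w, π, hπ, ?_⟩
          have e₁ := hβ z' _ w π (by rw [hf']; exact Sieve.downward_closed _ hf.1.1 _) c hc ρ hρ
          have e₂ := hβ z h w (π ≫ φ) (by
            rw [map_comp, hf', assoc]
            exact Sieve.downward_closed _ (show R z h (f ≫ 𝒮.p.map φ) from hf.2) _) c (by rw [hc, map_comp, assoc]) ρ hρ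
          obtain ⟨δ, hδ⟩ := exists_restr h𝒮.1.1 π γ
          rw [← e₁, ← hδ]
          congr 1
          refine congrArg (fun a : Gerb.AutO w => a.hom.1) (autO_ext h𝒮.1.1 (π ≫ φ) ?_)
          rw [e₂, reassoc_of% hδ, hγ, assoc]]
      exact hγ
    · show β x (𝟙 _) = α
      refine autO_ext_locally h𝒮.1 (hR x (𝟙 _)) fun V f hf => ?_
      obtain ⟨w, π, hπ⟩ := h𝒮.1.1.exists_lift (x := x) f
      obtain ⟨ρ, hρ⟩ := exists_restr h𝒮.1.1 π α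
      refine ⟨w, π, hπ, ?_⟩
      rw [← hρ, hβ x (𝟙 _) w π (by
        rw [show 𝒮.p.map π = eqToHom (IsHomLift.domain_eq 𝒮.p f π) ≫ f from
          (IsHomLift.fac' 𝒮.p f π).trans (by simp)]
        exact Sieve.downward_closed _ hf _) π (comp_id _).symm ρ hρ]

theorem exists_banding (h𝒮 : Gerb.IsGerbe J 𝒮) (hcomm : ∀ (x : 𝒮.obj) (α β : Gerb.AutO x), α * β = β * α) :
    ∃ G : Sheaf J GrpCat.{max u v}, (∀ (U : C) (a b : G.obj.obj (op U)), a * b = b * a) ∧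
      Nonempty (Gerb.Banding 𝒮 G.obj) :=
  ⟨⟨famPsh 𝒮, famPsh_isSheaf h𝒮.1⟩,
    fun _ a b => Subtype.ext (funext fun zh => hcomm zh.1 (a.1 zh) (b.1 zh)),
    ⟨{ iso := fun x => MulEquiv.ofBijective (eval x) (eval_bijective h𝒮 hcomm x)
       natural := fun {x' x} φ a => by
        show (a.1 ⟨x', 𝟙 _ ≫ 𝒮.p.map φ⟩).hom.1 ≫ φ = φ ≫ (a.1 ⟨x, 𝟙 _⟩).hom.1
        rw [fam_congr a x' ((id_comp (𝒮.p.map φ)).trans (comp_id _).symm)]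
        exact a.2 x' x φ (𝟙 _) }⟩⟩

end Groth.L09.Band
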