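import Groth.Prelude.Def_StGerb
import Groth.Prelude.Def_StCoarse
import Groth.Agent.L09.GerbBasic
import Groth.Agent.L09.Gerbe.Scheme
import Groth.Agent.L24.St.Calc
import Mathlib.RingTheory.Jacobson.Ring
import Mathlib.FieldTheory.IsAlgClosed.Basic

/-!
Coarse moduli spaces along gerbes.
-/

set_option autoImplicit false
set_option backward.isDefEq.respectTransparency false
set_option backward.isDefEq.respectTransparency.types false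

universe u

open CategoryTheory CategoryTheory.Limits AlgebraicGeometry Opposite AlgSt

noncomputable section

namespace Groth.L09.Gerbe

open Groth.L24.St

variable {S : Scheme.{u}}

local notation "Jf" => QuotSh.J Scheme.fppfPrecoverage S

theorem exists_section_of_lft {Ω : Type u} [Field Ω] [IsAlgClosed Ω] {W : Scheme.{u}}
    (q : W ⟶ Spec (CommRingCat.of Ω)) [LocallyOfFiniteType q] (w : W) :
    ∃ s : Spec (CommRingCat.of Ω) ⟶ W, s ≫ q = 𝟙 _ := by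
  obtain ⟨_, ⟨A, hA, rfl⟩, hwA, -⟩ := W.isBasis_affineOpens.exists_subset_of_mem_open (Set.mem_univ w) isOpen_univ
  let φ := Spec.preimage (hA.fromSpec ≫ q)
  have hφ : φ.hom.FiniteType := (HasRingHomProperty.Spec_iff (P := @LocallyOfFiniteType)).1 (by
    rw [Spec.map_preimage]; infer_instance)
  have : Nontrivial Γ(W, A) := by
    obtain ⟨p⟩ : Nonempty (Spec Γ(W, A)) := by
      obtain ⟨p, -⟩ : w ∈ Set.range hA.fromSpec := by rw [hA.range_fromSpec]; exact hwA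
      exact ⟨p⟩
    exact PrimeSpectrum.nontrivial p
  let := φ.hom.toAlgebra
  have : Algebra.FiniteType Ω Γ(W, A) := hφ
  obtain ⟨m, hm⟩ := Ideal.exists_maximal Γ(W, A)
  let := Ideal.Quotient.field m
  have : Module.Finite Ω (Γ(W, A) ⧸ m) := finite_of_finite_type_of_isJacobsonRing Ω (Γ(W, A) ⧸ m)
  have h1 : Function.Bijective (Algebra.ofId Ω (Γ(W, A) ⧸ m)) := IsAlgClosed.algebraMap_bijective_of_isIntegral
  let χ : Γ(W, A) →ₐ[Ω] Ω := (AlgEquiv.ofBijective _ h1).symm.toAlgHom.comp (Ideal.Quotient.mkₐ Ω m)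
  refine ⟨Spec.map (CommRingCat.ofHom χ.toRingHom) ≫ hA.fromSpec, ?_⟩
  rw [Category.assoc, ← Spec.map_preimage (hA.fromSpec ≫ q), ← Spec.map_comp,
    show φ ≫ CommRingCat.ofHom χ.toRingHom = 𝟙 _ from CommRingCat.hom_ext (RingHom.ext fun c => χ.commutes c),
    Spec.map_id]

/-- Over an algebraically closed field every covering sieve is trivial. -/
theorem covering_id {Ω : Type u} [Field Ω] [IsAlgClosed Ω] {t : Spec (CommRingCat.of Ω) ⟶ S}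
    {R : Sieve (Over.mk t)} (hR : R ∈ Jf (Over.mk t)) : R (𝟙 (Over.mk t)) := by
  obtain ⟨W, v, hv, -, hp, hs⟩ := exists_cover_of_mem_J hR
  let i : ↥(Over.mk t).left := (default : ↥(Spec (CommRingCat.of Ω)))
  obtain ⟨w, -⟩ := hs i
  have := hp i
  obtain ⟨s, h⟩ := exists_section_of_lft (v i).left w
  let s' : Over.mk t ⟶ W i := Over.homMk s (by
    show s ≫ (W i).hom = t
    rw [← Over.w (v i), ← Category.assoc, h]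
    exact Category.id_comp _)
  have e : s' ≫ v i = 𝟙 _ := Over.OverMorphism.ext h
  exact e ▸ R.downward_closed (hv i) s'

variable {𝒳 𝒴 : AlgSt.Cat S} {F : 𝒳 ⥤ᵇ 𝒴} {Ω : Type u} [Field Ω] [IsAlgClosed Ω]
  {t : Spec (CommRingCat.of Ω) ⟶ S}

theorem exists_lift_geomPt (hF : Gerb.LocSurjObj Jf F) (y : 𝒴.p.Fiber (Over.mk t)) :
    ∃ (x : 𝒳.p.Fiber (Over.mk t)) (g : F.obj x.1 ⟶ y.1), 𝒴.p.IsHomLift (𝟙 (Over.mk t)) g := by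
  obtain ⟨R, hR, hR'⟩ := L09.Gerb.objAt hF y.2
  obtain ⟨x, g, hg⟩ := hR' _ (covering_id hR)
  exact ⟨⟨x, L09.Gerb.proj_obj (F := F) g (f := 𝟙 (Over.mk t))⟩, g, hg⟩

theorem fiber_iso {𝒵 : AlgSt.Cat S} (h : FibCat.IsFibGrpd 𝒵.p) {U : Over S} (a b : 𝒵.p.Fiber U) (g : a.1 ⟶ b.1)
    [𝒵.p.IsHomLift (𝟙 U) g] : Nonempty (a ≅ b) := by
  have := L09.Fib.isGroupoid_fiber_of_isFibGrpd 𝒵.p h U
  exact ⟨asIso (⟨g, inferInstance⟩ : a ⟶ b)⟩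

theorem sec_eq {C : Type*} [Category C] {P : Cᵒᵖ ⥤ Type*} {p q : Stk.EltObj P} (m : p ⟶ q) {U : C}
    (hp : p.base = U) (hq : q.base = U) (hm : (Stk.ofPsh P).p.IsHomLift (𝟙 U) m) :
    P.map (eqToHom hp.symm).op p.sec = P.map (eqToHom hq.symm).op q.sec := by
  obtain ⟨pb, ps⟩ := p
  obtain ⟨qb, qs⟩ := q
  obtain rfl : pb = U := hp
  obtain rfl : qb = pb := hq
  have h : m.hom = 𝟙 qb := by
    have := @IsHomLift.fac' _ _ _ _ (Stk.ofPsh P).p _ _ _ _ (𝟙 qb) m hm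
    exact this.trans (by simp)
  have e := m.map_sec
  rw [h] at e
  simp only [op_id, Functor.map_id_apply, eqToHom_refl] at e ⊢
  exact e.symm

theorem fibSec_congr {M : AlgSp.Sp S} {π π' : 𝒳 ⥤ᵇ ofSp M} (e : π ≅ π') {U : Over S} (x : 𝒳.p.Fiber U) :
    fibSec π x = fibSec π' x :=
  sec_eq (e.hom.toNatTrans.app x.1) ((π.w_obj x.1).trans x.2) ((π'.w_obj x.1).trans x.2) (BasedNatTrans.isHomLift e.hom x.2)

theorem fibSec_comp {M : AlgSp.Sp S} (π : 𝒴 ⥤ᵇ ofSp M) (F : 𝒳 ⥤ᵇ 𝒴) {U : Over S} (x : 𝒳.p.Fiber U) :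
    fibSec (BasedFunctor.comp F π) x = fibSec π ⟨F.obj x.1, (F.w_obj x.1).trans x.2⟩ := rfl

theorem fibSec_iso {M : AlgSp.Sp S} (π : 𝒳 ⥤ᵇ ofSp M) {U : Over S} (a b : 𝒳.p.Fiber U) (g : a.1 ⟶ b.1)
    (hg : 𝒳.p.IsHomLift (𝟙 U) g) : fibSec π a = fibSec π b :=
  sec_eq (π.map g) ((π.w_obj a.1).trans a.2) ((π.w_obj b.1).trans b.2) (@BasedFunctor.preserves_isHomLift _ _ _ _ π _ _ _ _ (𝟙 U) g hg)

variable (h𝒳 : FibCat.IsFibGrpd 𝒳.p) (h𝒴 : FibCat.IsFibGrpd 𝒴.p) (hF : Gerb.IsGerbeOver (QuotSh.J Scheme.fppfPrecoverage S) F)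
include h𝒳 h𝒴 hF

theorem geomPtBij_comp_iff {M : AlgSp.Sp S} (π : 𝒴 ⥤ᵇ ofSp M) :
    GeomPtBij (BasedFunctor.comp F π) ↔ GeomPtBij π := by
  refine forall_congr' fun Ω => forall_congr' fun _ => forall_congr' fun _ => forall_congr' fun t => ?_
  constructor
  · rintro ⟨h₁, h₂⟩
    refine ⟨fun m => ?_, fun y y' e => ?_⟩
    · obtain ⟨x, hx⟩ := h₁ m
      exact ⟨⟨F.obj x.1, (F.w_obj x.1).trans x.2⟩, hx⟩
    · obtain ⟨x, g, hg⟩ := exists_lift_geomPt hF.1 y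
      obtain ⟨x', g', hg'⟩ := exists_lift_geomPt hF.1 y'
      have e' : fibSec (BasedFunctor.comp F π) x = fibSec (BasedFunctor.comp F π) x' := by
        rw [fibSec_comp, fibSec_comp]
        exact (fibSec_iso π _ y g hg).trans (e.trans (fibSec_iso π _ y' g' hg').symm)
      obtain ⟨i⟩ := h₂ x x' e'
      obtain ⟨j⟩ := fiber_iso h𝒴 ⟨F.obj x.1, (F.w_obj x.1).trans x.2⟩ y g
      obtain ⟨j'⟩ := fiber_iso h𝒴 ⟨F.obj x'.1, (F.w_obj x'.1).trans x'.2⟩ y' g'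
      have := i.hom.2
      obtain ⟨k⟩ := fiber_iso h𝒴 ⟨F.obj x.1, (F.w_obj x.1).trans x.2⟩ ⟨F.obj x'.1, (F.w_obj x'.1).trans x'.2⟩
        (F.map i.hom.1)
      exact ⟨j.symm ≪≫ k ≪≫ j'⟩
  · rintro ⟨h₁, h₂⟩
    refine ⟨fun m => ?_, fun x x' e => ?_⟩
    · obtain ⟨y, hy⟩ := h₁ m
      obtain ⟨x, g, hg⟩ := exists_lift_geomPt hF.1 y
      exact ⟨x, (fibSec_comp π F x).trans ((fibSec_iso π _ y g hg).trans hy)⟩
    · obtain ⟨k⟩ := h₂ ⟨F.obj x.1, (F.w_obj x.1).trans x.2⟩ ⟨F.obj x'.1, (F.w_obj x'.1).trans x'.2⟩ e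
      obtain ⟨R, hR, hR'⟩ := L09.Gerb.homAt hF.2 x.2 (x' := x'.1) k.hom.1 k.hom.2
      obtain ⟨x₀, φ, ψ, hφ, hψ, -⟩ := hR' _ (covering_id hR)
      obtain ⟨a⟩ := fiber_iso h𝒳 ⟨x₀, IsHomLift.domain_eq 𝒳.p (𝟙 (Over.mk t)) φ⟩ x φ
      obtain ⟨b⟩ := fiber_iso h𝒳 ⟨x₀, IsHomLift.domain_eq 𝒳.p (𝟙 (Over.mk t)) φ⟩ x' ψ
      exact ⟨a.symm ≪≫ b⟩

variable (huniv : ∀ (N : AlgSp.Sp S), AlgSp.IsAlgSpace N → ∀ φ : 𝒳 ⥤ᵇ ofSp N,
    ∃ ψ : 𝒴 ⥤ᵇ ofSp N, Nonempty (BasedFunctor.comp F ψ ≅ φ) ∧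
      ∀ ψ' : 𝒴 ⥤ᵇ ofSp N, Nonempty (BasedFunctor.comp F ψ' ≅ φ) → Nonempty (ψ' ≅ ψ))
include huniv

theorem isCoarseModuli_comp {M : AlgSp.Sp S} {π : 𝒴 ⥤ᵇ ofSp M} (h : IsCoarseModuli π) :
    IsCoarseModuli (BasedFunctor.comp F π) := by
  obtain ⟨⟨hM, hc⟩, hg⟩ := h
  refine ⟨⟨hM, fun N hN φ => ?_⟩, (geomPtBij_comp_iff h𝒳 h𝒴 hF π).2 hg⟩
  obtain ⟨ψ, ⟨i⟩, hψ⟩ := huniv N hN φ
  obtain ⟨g, ⟨j⟩, hgu⟩ := hc N hN ψ
  exact ⟨g, ⟨(show BasedFunctor.comp (BasedFunctor.comp F π) (ofSpMap g) ≅ BasedFunctor.comp F ψ from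
    whiskerL F j) ≪≫ i⟩, fun g' ⟨j'⟩ => hgu g' (hψ (BasedFunctor.comp π (ofSpMap g')) ⟨j'⟩)⟩

theorem exists_isCoarseModuli {M : AlgSp.Sp S} {π : 𝒳 ⥤ᵇ ofSp M} (h : IsCoarseModuli π) :
    ∃ π' : 𝒴 ⥤ᵇ ofSp M, IsCoarseModuli π' := by
  obtain ⟨⟨hM, hc⟩, hg⟩ := h
  obtain ⟨π', ⟨i⟩, -⟩ := huniv M hM π
  refine ⟨π', ⟨hM, fun N hN φ => ?_⟩, (geomPtBij_comp_iff h𝒳 h𝒴 hF π').1 fun Ω _ _ t => ?_⟩
  · obtain ⟨g, ⟨j⟩, hgu⟩ := hc N hN (BasedFunctor.comp F φ)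
    obtain ⟨ψ, -, hψ⟩ := huniv N hN (BasedFunctor.comp F φ)
    obtain ⟨a⟩ := hψ φ ⟨Iso.refl _⟩
    obtain ⟨b⟩ := hψ (BasedFunctor.comp π' (ofSpMap g))
      ⟨(show BasedFunctor.comp F (BasedFunctor.comp π' (ofSpMap g)) ≅ BasedFunctor.comp π (ofSpMap g) from
        whiskerR i (ofSpMap g)) ≪≫ j⟩
    refine ⟨g, ⟨b ≪≫ a.symm⟩, fun g' ⟨j'⟩ => hgu g' ⟨whiskerR i.symm (ofSpMap g') ≪≫ ?_⟩⟩
    exact whiskerL F j'
  · obtain ⟨h₁, h₂⟩ := hg Ω t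
    exact ⟨fun m => (h₁ m).imp fun x hx => by rw [fibSec_congr i]; exact hx,
      fun x y e => h₂ x y (by rwa [fibSec_congr i, fibSec_congr i] at e)⟩

end Groth.L09.Gerbe
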