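import Groth.Agent.L09.Gerbe.LocSurj
import Groth.Agent.L24.LocQ.Cancel
import Groth.Agent.L23.SpaceSmoothDesc

/-!
Sections along which objects lift locally: flatness, finite presentation and smoothness.
-/

set_option autoImplicit false
set_option backward.isDefEq.respectTransparency false
set_option backward.isDefEq.respectTransparency.types false

universe u

open CategoryTheory CategoryTheory.Limits AlgebraicGeometry Opposite AlgSt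

noncomputable section

namespace Groth.L09.Gerbe

open Groth.L24.St Groth.L24.LocQ

variable {S : Scheme.{u}} {𝒳 𝒴 𝒵 : AlgSt.Cat S}

local notation "Jf" => QuotSh.J Scheme.fppfPrecoverage S

/-- Flat and locally of finite presentation, read on charts. -/
def IsFF (f : 𝒳 ⥤ᵇ 𝒴) : Prop :=
  LocQ (AlgSp.LocP @Flat) f ∧ LocQ (AlgSp.LocP @LocallyOfFinitePresentation) f

theorem locQ_congr {P : MorphismProperty (AlgSp.Sp S)} {f g : 𝒳 ⥤ᵇ 𝒴} (e : f ≅ g) (h : LocQ P f) : LocQ P g := by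
  obtain ⟨U, V, x, y, h, α, h₁, h₂, h₃, h₄⟩ := h
  exact ⟨U, V, x, y, h, whiskerL x e.symm ≪≫ α, h₁, h₂, h₃, h₄⟩

theorem IsFF.congr {f g : 𝒳 ⥤ᵇ 𝒴} (e : f ≅ g) (h : IsFF f) : IsFF g :=
  ⟨locQ_congr e h.1, locQ_congr e h.2⟩

variable (h𝒳 : IsAlgStack Scheme.fppfPrecoverage 𝒳) (h𝒴 : IsAlgStack Scheme.fppfPrecoverage 𝒴)

theorem locQ_comp_locP {Q : MorphismProperty Scheme.{u}} (hQ : Groth.L23.EtLocal Q)
    (hP : AlgSp.IsSmoothLocalST (AlgSp.LocP Q : MorphismProperty (AlgSp.Sp S)))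
    (h𝒳 : IsAlgStack Scheme.fppfPrecoverage 𝒳) (h𝒴 : IsAlgStack Scheme.fppfPrecoverage 𝒴)
    (h𝒵 : IsAlgStack Scheme.fppfPrecoverage 𝒵) {f : 𝒳 ⥤ᵇ 𝒴} {g : 𝒴 ⥤ᵇ 𝒵}
    (hf : LocQ (AlgSp.LocP Q) f) (hg : LocQ (AlgSp.LocP Q) g) : LocQ (AlgSp.LocP Q) (BasedFunctor.comp f g) :=
  locQ_comp hP (fun _ _ _ hX hY hZ _ _ ha hb => Groth.L23.locP_comp hQ hX hY hZ ha hb) h𝒳 h𝒴 h𝒵 hf hg

include h𝒳 h𝒴

theorem IsFF.comp (h𝒵 : IsAlgStack Scheme.fppfPrecoverage 𝒵) {f : 𝒳 ⥤ᵇ 𝒴} {g : 𝒴 ⥤ᵇ 𝒵} (hf : IsFF f)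
    (hg : IsFF g) : IsFF (BasedFunctor.comp f g) :=
  ⟨locQ_comp_locP Groth.L23.etLocal_flat isSmoothLocalST_flat h𝒳 h𝒴 h𝒵 hf.1 hg.1,
    locQ_comp_locP Groth.L23.etLocal_lfp isSmoothLocalST_lfp h𝒳 h𝒴 h𝒵 hf.2 hg.2⟩

theorem IsFF.fpFst (h𝒵 : IsAlgStack Scheme.fppfPrecoverage 𝒵) {f : 𝒳 ⥤ᵇ 𝒴} (g : 𝒵 ⥤ᵇ 𝒴) (hf : IsFF f) :
    IsFF (FibCat.fpFst g f) :=
  ⟨locQ_fpFst isSmoothLocalST_flat (pBase_locP Groth.L23.etLocal_flat) h𝒳 h𝒴 h𝒵 g hf.1,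
    locQ_fpFst isSmoothLocalST_lfp (pBase_locP Groth.L23.etLocal_lfp) h𝒳 h𝒴 h𝒵 g hf.2⟩

theorem IsFF.of_smooth {f : 𝒳 ⥤ᵇ 𝒴} (h : RepByAlgSpWith (AlgSp.LocP @Smooth) f) : IsFF f :=
  ⟨locQ_of_repWith_locP Groth.L23.etLocal_flat h𝒳 h𝒴 (repWith_mono (fun _ _ _ _ h' => Groth.L23.locP_mono
      (fun φ (hφ : Smooth φ) => have := hφ; (inferInstance : Flat φ)) h') h),
    locQ_of_repWith_locP Groth.L23.etLocal_lfp h𝒳 h𝒴 (repWith_mono (fun _ _ _ _ h' => Groth.L23.locP_mono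
      (fun φ (hφ : Smooth φ) => have := hφ; (inferInstance : LocallyOfFinitePresentation φ)) h') h)⟩

theorem IsFF.of_isEquivOver {f : 𝒳 ⥤ᵇ 𝒴} (h : FibCat.IsEquivOver f) : IsFF f :=
  IsFF.of_smooth h𝒳 h𝒴 (repWith_of_isEquivOver
    (fun _ _ _ _ _ ha => have := ha; locP_etale_smooth (Groth.L23.repWith_of_isIso _)) h)

omit h𝒴 in
theorem IsFF.id : IsFF (BasedFunctor.id 𝒳) := IsFF.of_isEquivOver h𝒳 h𝒳 (isEquivOver_id 𝒳)

theorem IsFF.overMap_comp {V W : Over S} (c : V ⟶ W) [Flat c.left] [LocallyOfFinitePresentation c.left]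
    {y : FibCat.overCat W ⥤ᵇ 𝒴} (hy : IsFF y) : IsFF (BasedFunctor.comp (overMap c) y) := by
  have hV := isAlgStack_overCat V
  have hW := isAlgStack_overCat W
  refine IsFF.comp hV hW h𝒴 ⟨?_, ?_⟩ hy
  · exact locQ_of_repWith_locP Groth.L23.etLocal_flat hV hW (repWith_mono
      (fun _ _ _ _ h => Groth.L23.locP_of_repWith Groth.L23.etLocal_flat h)
      (repWith_overMap (R := @Flat) inferInstance))
  · exact locQ_of_repWith_locP Groth.L23.etLocal_lfp hV hW (repWith_mono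
      (fun _ _ _ _ h => Groth.L23.locP_of_repWith Groth.L23.etLocal_lfp h)
      (repWith_overMap (R := @LocallyOfFinitePresentation) inferInstance))

theorem IsFF.locSurjObj {f : 𝒳 ⥤ᵇ 𝒴} (hf : IsFF f) (hs : IsSurjective f) : Gerb.LocSurjObj Jf f :=
  locSurjObj_of_flat_lfp h𝒳 h𝒴 hf.1 hf.2 hs

/-- Source descent along a functor along which objects lift locally, for flatness and finite presentation. -/
theorem isFF_of_locSurj_comp (h𝒵 : IsAlgStack Scheme.fppfPrecoverage 𝒵) {p : 𝒳 ⥤ᵇ 𝒴} {g : 𝒴 ⥤ᵇ 𝒵}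
    (hp : Gerb.LocSurjObj Jf p) (hpg : IsFF (BasedFunctor.comp p g)) : IsFF g := by
  obtain ⟨W, z, hz, hzs⟩ := h𝒵.atlas
  obtain ⟨V, m, k, hm, hms, ⟨j⟩, hy, -, hys⟩ := exists_chart h𝒴 h𝒵 g z hz
  obtain ⟨U, ℓ, h, hℓ, hℓs, ⟨i⟩, -, -, -⟩ := exists_chart h𝒳 h𝒴 p _ hy
  obtain ⟨N, hN, ⟨e⟩⟩ := exists_chart_comp h𝒳 h𝒴 h𝒵 hm j hℓ i
  obtain ⟨T, c, d, h₁, h₂, h₃, hd⟩ := exists_section_of_locSurjObj (locSurjObj_congr i (locSurjObj_comp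
    (locSurjObj_of_smooth (isAlgStack_overCat U) (isAlgStack_fp h𝒳 (isAlgStack_overCat V) h𝒴 p _) hℓ hℓs)
    (locSurjObj_fpSnd h𝒳.isStack.1 h𝒴.isStack.1 (overCat_isFibGrpd V) _ hp)))
  have hd' : d.left ≫ h.left = c.left := by rw [← Over.comp_left, hd]
  have hF : Flat (h.left ≫ k.left) := prop_of_locP_map (P := @Flat)
    (prop_of_chart isSmoothLocalST_flat h𝒳.isStack.1 h𝒵.isStack.1 hpg.1 hz hN e)
  have hL : LocallyOfFinitePresentation (h.left ≫ k.left) := prop_of_locP_map (P := @LocallyOfFinitePresentation)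
    (prop_of_chart isSmoothLocalST_lfp h𝒳.isStack.1 h𝒵.isStack.1 hpg.2 hz hN e)
  exact ⟨locQ_of_chart h𝒴 h𝒵 hz hzs hm hms j
      ((locP_map_iff Groth.L23.etLocal_flat k).2 (flat_of_section c.left d.left h.left k.left hd' hF)),
    locQ_of_chart h𝒴 h𝒵 hz hzs hm hms j
      ((locP_map_iff Groth.L23.etLocal_lfp k).2 (lfp_of_section c.left d.left h.left k.left hd' hL))⟩

omit h𝒳 in
theorem isFF_of_fpFst (h𝒳 : IsAlgStack Scheme.fppfPrecoverage 𝒳) (h𝒵 : IsAlgStack Scheme.fppfPrecoverage 𝒵)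
    {f : 𝒳 ⥤ᵇ 𝒴} {z : 𝒵 ⥤ᵇ 𝒴} (hz : IsFF z) (hzs : IsSurjective z) (h : IsFF (FibCat.fpFst z f)) : IsFF f :=
  ⟨locQ_of_fpFst_fppf isSmoothLocalST_flat (isLocalOnBase_locP_fppf Groth.L23.etLocal_flat) h𝒳 h𝒴 h𝒵
      hz.1 hz.2 hzs h.1,
    locQ_of_fpFst_fppf isSmoothLocalST_lfp (isLocalOnBase_locP_fppf Groth.L23.etLocal_lfp) h𝒳 h𝒴 h𝒵
      hz.1 hz.2 hzs h.2⟩

theorem IsFF.right (h𝒵 : IsAlgStack Scheme.fppfPrecoverage 𝒵) {f : 𝒳 ⥤ᵇ 𝒴} {g : 𝒴 ⥤ᵇ 𝒵} (hf : IsFF f)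
    (hs : IsSurjective f) (hfg : IsFF (BasedFunctor.comp f g)) : IsFF g :=
  isFF_of_locSurj_comp h𝒳 h𝒴 h𝒵 (hf.locSurjObj h𝒳 h𝒴 hs) hfg

/-- An fppf lift of an atlas: a functor to the source of a locally surjective functor whose composite is an fppf cover. -/
theorem exists_atlas_lift {p : 𝒳 ⥤ᵇ 𝒴} (hp : Gerb.LocSurjObj Jf p) :
    ∃ (T : Over S) (s : FibCat.overCat T ⥤ᵇ 𝒳) (z : FibCat.overCat T ⥤ᵇ 𝒴),
      Nonempty (BasedFunctor.comp s p ≅ z) ∧ IsFF z ∧ IsSurjective z := by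
  obtain ⟨W, a, ha, has⟩ := h𝒴.atlas
  obtain ⟨T, c, s, h₁, h₂, h₃, ⟨i⟩⟩ := exists_fppf_lift h𝒳 h𝒴 hp a
  have hW := isAlgStack_overCat W
  have hT := isAlgStack_overCat T
  refine ⟨T, s, _, ⟨i⟩, IsFF.overMap_comp h𝒴 h𝒴 c (IsFF.of_smooth hW h𝒴 ha),
    isSurjective_comp ?_ (isSurjective_of_repWith hW.isStack.1 h𝒴.isStack.1 has)⟩
  exact isSurjective_of_repWith hT.isStack.1 hW.isStack.1 (repWith_mono
    (fun _ _ _ _ h => Groth.L23.surjective_map_of_repWith h) (repWith_overMap (R := @Surjective) h₃))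

/-- A functor with a section along which objects lift locally is flat and locally of finite presentation. -/
theorem isFF_of_section {f : 𝒳 ⥤ᵇ 𝒴} {x : 𝒴 ⥤ᵇ 𝒳} (e : BasedFunctor.comp x f ≅ BasedFunctor.id 𝒴)
    (hx : Gerb.LocSurjObj Jf x) : IsFF f :=
  isFF_of_locSurj_comp h𝒴 h𝒳 h𝒴 hx ((IsFF.id h𝒴).congr e.symm)

/-- A section along which objects lift locally is flat and locally of finite presentation. -/
theorem isFF_section {f : 𝒳 ⥤ᵇ 𝒴} {x : 𝒴 ⥤ᵇ 𝒳} (e : BasedFunctor.comp x f ≅ BasedFunctor.id 𝒴)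
    (hx : Gerb.LocSurjObj Jf x) : IsFF x := by
  obtain ⟨T, s, z, ⟨i⟩, hz, hzs⟩ := exists_atlas_lift h𝒴 h𝒳 hx
  have hT := isAlgStack_overCat T
  have hf := isFF_of_section h𝒳 h𝒴 e hx
  have hfs : IsSurjective f := fun y =>
    ⟨Points.map x y, by rw [← map_comp_apply, map_congr e, map_id_apply]⟩
  let k : BasedFunctor.comp z f ≅ s := whiskerR i.symm f ≪≫ whiskerL s e
  have hs : IsFF s := (IsFF.comp hT h𝒳 h𝒴 hz hf).congr k
  have hss : IsSurjective s := isSurjective_congr k (isSurjective_comp hzs hfs)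
  let g := FibCat.fpFst x x
  have hG := isAlgStack_fp h𝒴 h𝒴 h𝒳 x x
  have hQ := isAlgStack_fp hT hG h𝒴 s g
  have hP := isAlgStack_fp hT h𝒴 h𝒳 z x
  let M := fpMap (F := BasedFunctor.comp s x) (G := x) (F' := z) (G' := x)
    (BasedFunctor.id (FibCat.overCat T)) (BasedFunctor.id 𝒴) i (Iso.refl _)
  have hM : FibCat.IsEquivOver M := fpMap_isEquivOver (isEquivOver_id _) (isEquivOver_id _) _ _
  obtain ⟨M', hM', -, ⟨iM⟩⟩ := exists_inverse hM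
  let E := BasedFunctor.comp (fpPaste s x x) M'
  have hE : FibCat.IsEquivOver E := isEquivOver_comp (fpPaste_isEquivOver s x x) hM'
  let jE : BasedFunctor.comp E (FibCat.fpFst z x) ≅ FibCat.fpFst s g :=
    whiskerL (fpPaste s x x) (whiskerR iM (FibCat.fpFst (BasedFunctor.comp s x) x))
  let sw := fpSwap (F := g) (G := s)
  have hsw : IsFF sw := IsFF.of_isEquivOver (isAlgStack_fp hG hT h𝒴 g s) hQ fpSwap_isEquivOver
  let sw' := fpSwap (F := z) (G := x)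
  have h₁ : IsFF (FibCat.fpSnd z x) :=
    (IsFF.comp hP (isAlgStack_fp h𝒴 hT h𝒳 x z) h𝒴 (IsFF.of_isEquivOver hP (isAlgStack_fp h𝒴 hT h𝒳 x z)
      fpSwap_isEquivOver) (IsFF.fpFst hT h𝒳 h𝒴 x hz)).congr (Iso.refl (BasedFunctor.comp sw' (FibCat.fpFst x z)))
  have h₂ : IsFF (BasedFunctor.comp (FibCat.fpFst z x) s) :=
    h₁.congr (whiskerL (FibCat.fpSnd z x) e.symm ≪≫ whiskerR (FibCat.fpIso z x).symm f ≪≫
      whiskerL (FibCat.fpFst z x) k)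
  have h₃ : IsFF (BasedFunctor.comp (FibCat.fpSnd s g) g) :=
    (IsFF.comp hQ hP h𝒴 (IsFF.of_isEquivOver hQ hP hE) h₂).congr (whiskerR jE s ≪≫ FibCat.fpIso s g)
  have hsnd : IsFF (FibCat.fpSnd s g) ∧ IsSurjective (FibCat.fpSnd s g) :=
    ⟨(IsFF.comp hQ (isAlgStack_fp hG hT h𝒴 g s) hG (IsFF.of_isEquivOver hQ (isAlgStack_fp hG hT h𝒴 g s)
        fpSwap_isEquivOver) (IsFF.fpFst hT h𝒴 hG g hs)).congr
          (Iso.refl (BasedFunctor.comp (fpSwap (F := s) (G := g)) (FibCat.fpFst g s))),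
      isSurjective_congr (Iso.refl (BasedFunctor.comp (fpSwap (F := s) (G := g)) (FibCat.fpFst g s)))
        (isSurjective_comp (isSurjective_of_isEquivOver fpSwap_isEquivOver)
          (isSurjective_fpFst hT.isStack.1 h𝒴.isStack.1 hG.isStack.1 g hss))⟩
  have hg : IsFF g := IsFF.right hQ hG h𝒴 hsnd.1 hsnd.2 h₃
  obtain ⟨E', hE', -, ⟨iE⟩⟩ := exists_inverse hE
  have h₄ : IsFF (FibCat.fpFst z x) :=
    (IsFF.comp hP hQ hT (IsFF.of_isEquivOver hP hQ hE') (IsFF.fpFst hG h𝒴 hT s hg)).congr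
      (whiskerL E' jE.symm ≪≫ whiskerR iE (FibCat.fpFst z x))
  exact isFF_of_fpFst h𝒳 h𝒴 hT hz hzs h₄

end Groth.L09.Gerbe
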