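import Groth.Agent.L09.Gerbe.Main
import Groth.Agent.L24.St.QcSep
import Groth.Agent.L24.St.MapLegs

/-!
Quasi-compactness of the diagonal descends along gerbes.
-/

set_option autoImplicit false
set_option backward.isDefEq.respectTransparency false
set_option backward.isDefEq.respectTransparency.types false

universe u

open CategoryTheory CategoryTheory.Limits AlgebraicGeometry Opposite AlgSt

noncomputable section

namespace Groth.L09.Gerbe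

open Groth.L24.St Groth.L24.LocQ

variable {S : Scheme.{u}} {𝒳 𝒳' 𝒴 𝒴' 𝒯 : AlgSt.Cat S}

local notation "Jf" => QuotSh.J Scheme.fppfPrecoverage S

theorem fpMap_isFF (h𝒳 : IsAlgStack Scheme.fppfPrecoverage 𝒳) (h𝒳' : IsAlgStack Scheme.fppfPrecoverage 𝒳')
    (h𝒴 : IsAlgStack Scheme.fppfPrecoverage 𝒴) (h𝒴' : IsAlgStack Scheme.fppfPrecoverage 𝒴')
    (h𝒯 : IsAlgStack Scheme.fppfPrecoverage 𝒯) {F : 𝒳 ⥤ᵇ 𝒯} {G : 𝒴 ⥤ᵇ 𝒯} {F' : 𝒳' ⥤ᵇ 𝒯} {G' : 𝒴' ⥤ᵇ 𝒯}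
    {a : 𝒳' ⥤ᵇ 𝒳} {b : 𝒴' ⥤ᵇ 𝒴} (α : BasedFunctor.comp a F ≅ F') (β : BasedFunctor.comp b G ≅ G')
    (ha : IsFF a) (hb : IsFF b) : IsFF (fpMap a b α β) := by
  have hP := isAlgStack_fp h𝒳 h𝒴 h𝒯 F G
  have hM := isAlgStack_fp h𝒳' h𝒴 h𝒯 F' G
  have hL := isAlgStack_fp hP h𝒳' h𝒳 (FibCat.fpFst F G) a
  have hR := isAlgStack_fp hM h𝒴' h𝒴 (FibCat.fpSnd F' G) b
  have hQ := isAlgStack_fp h𝒳' h𝒴' h𝒯 F' G'
  refine (IsFF.comp hQ hM hP ?_ ?_).congr (legsIso a b α β)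
  · exact (IsFF.comp hQ hR hM (IsFF.of_isEquivOver hQ hR (legRLift_isEquivOver (F := F') b β))
      (IsFF.fpFst h𝒴' h𝒴 hM _ hb)).congr (Iso.refl _)
  · exact (IsFF.comp hM hL hP (IsFF.of_isEquivOver hM hL (legLLift_isEquivOver (G := G) a α))
      (IsFF.fpFst h𝒳' h𝒳 hP _ ha)).congr (Iso.refl _)

theorem cmpMap_isFF (h𝒳 : IsAlgStack Scheme.fppfPrecoverage 𝒳) (h𝒴 : IsAlgStack Scheme.fppfPrecoverage 𝒴)
    (h𝒯 : IsAlgStack Scheme.fppfPrecoverage 𝒯) {f : 𝒳 ⥤ᵇ 𝒴} (t : 𝒴 ⥤ᵇ 𝒯) (hf : IsFF f) (hs : IsSurjective f) :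
    IsFF (cmpMap f f t) ∧ IsSurjective (cmpMap f f t) := by
  let i : fpMap f f (Iso.refl _) (Iso.refl _) ≅ cmpMap f f t :=
    mkIso2 (fun x => fpIsoMk (Iso.refl _) (Iso.refl _) (by
        simp [cmpMap, fpMap, FibCat.fpLift, FibCat.fpIso, compApp]
        exact (Category.id_comp x.obj.iso.hom).symm))
      (fun x y m => fp_ext (show f.map m.hom.fst ≫ 𝟙 _ = 𝟙 _ ≫ f.map m.hom.fst by simp)
        (show f.map m.hom.snd ≫ 𝟙 _ = 𝟙 _ ≫ f.map m.hom.snd by simp))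
      (fun x => overId_fp _ (overId_id _))
  exact ⟨(fpMap_isFF h𝒴 h𝒳 h𝒴 h𝒳 h𝒯 _ _ hf hf).congr i, isSurjective_congr i
    (isSurjective_legs h𝒴.isStack.1 h𝒳.isStack.1 h𝒴.isStack.1 h𝒳.isStack.1 h𝒯.isStack.1 f f _ _ hs hs)⟩

theorem qc_diag_of_gerbe (h𝒳 : IsAlgStack Scheme.fppfPrecoverage 𝒳) (h𝒴 : IsAlgStack Scheme.fppfPrecoverage 𝒴)
    {f : 𝒳 ⥤ᵇ 𝒴} (hf : Gerb.IsGerbeOver Jf f)
    (hΔ : IsQuasiCompactMor Scheme.fppfPrecoverage (FibCat.diag (FibCat.toSelf 𝒳))) :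
    IsQuasiCompactMor Scheme.fppfPrecoverage (FibCat.diag (FibCat.toSelf 𝒴)) := by
  let g := FibCat.toSelf 𝒴
  rw [show FibCat.toSelf 𝒳 = BasedFunctor.comp f g from (L09.Gerb.bfExt _ _ f.w).symm] at hΔ
  have hS : IsAlgStack Scheme.fppfPrecoverage (FibCat.selfOver (Over S) : AlgSt.Cat S) := isAlgStack_selfOver
  have hR := isAlgStack_fp h𝒳 h𝒳 h𝒴 f f
  have hW := isAlgStack_fp h𝒳 h𝒳 hS (BasedFunctor.comp f g) (BasedFunctor.comp f g)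
  have h1 : IsQuasiCompactMor Scheme.fppfPrecoverage (fpPost f f g) := by
    intro 𝒲 h𝒲 hq w
    have h2 := isQuasiCompactMor_congr _ (diagCompIso f g).symm hΔ 𝒲 h𝒲 hq w
    exact isQuasiCompact_of_functor (isAlgStack_fp h𝒲 h𝒳 hW _ _) (isAlgStack_fp h𝒲 hR hW _ _)
      (isSurjective_legs (F' := w) (G' := BasedFunctor.comp (FibCat.diag f) (fpPost f f g))
        h𝒲.isStack.1 h𝒲.isStack.1 hR.isStack.1 h𝒳.isStack.1 hW.isStack.1 (BasedFunctor.id 𝒲) (FibCat.diag f)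
        (show BasedFunctor.comp (BasedFunctor.id 𝒲) w ≅ w from Iso.refl _) (Iso.refl _)
        (isSurjective_of_isEquivOver (isEquivOver_id 𝒲)) (isSurjective_diag_of_gerbe h𝒳 h𝒴.isStack.1 hf.2)) h2
  obtain ⟨E, hE, -, ⟨iE⟩⟩ := exists_inverse (cmpLift_isEquivOver f f g)
  have h2 : IsQuasiCompactMor Scheme.fppfPrecoverage (FibCat.fpFst (cmpMap f f g) (FibCat.diag g)) :=
    isQuasiCompactMor_congr _ (whiskerR iE (FibCat.fpFst (cmpMap f f g) (FibCat.diag g)))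
      (isQuasiCompactMor_precomp _ hE h1)
  obtain ⟨hz, hzs⟩ := cmpMap_isFF h𝒳 h𝒴 hS g (isFF_of_gerbe h𝒳 h𝒴 hf) (isSurjective_of_gerbe h𝒳 hf)
  exact isQuasiCompactMor_of_fpFst h𝒴 (isAlgStack_fp h𝒴 h𝒴 hS g g) hW hz.1 hz.2 hzs h2

end Groth.L09.Gerbe
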