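import Groth.Agent.L09.Gerbe.SecRep
import Groth.Agent.L09.Gerbe.Space
import Groth.Agent.S12795
import Groth.Agent.L24.St.AlgStackInv

/-!
The substack of objects locally isomorphic to a point, as a classifying stack.
-/

set_option autoImplicit false
set_option backward.isDefEq.respectTransparency false
set_option backward.isDefEq.respectTransparency.types false

universe u

open CategoryTheory Category Functor MonoidalCategory CartesianMonoidalCategory AlgebraicGeometry Opposite AlgSt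

noncomputable section

namespace Groth.L09.Gerbe.LocIso

open Groth.L24.St Groth.L09.Gerbe.Sec Groth.L24.Tors

variable {S : Scheme.{u}} {𝒳 : AlgSt.Cat S} (x : FibCat.overCat (Over.mk (𝟙 S)) ⥤ᵇ 𝒳)

/-- The objects locally isomorphic to the values of the point. -/
def locProp : 𝒳.obj → Prop := fun ξ =>
  ∃ R ∈ AlgSp.J S (𝒳.p.obj ξ), ∀ ⦃T : Over S⦄ (f : T ⟶ 𝒳.p.obj ξ), R f →
    ∃ (a : (FibCat.overCat (Over.mk (𝟙 S))).obj) (g : x.obj a ⟶ ξ), 𝒳.p.IsHomLift f g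

variable {x}

theorem base_of_lift {T : Over S} {a : (FibCat.overCat (Over.mk (𝟙 S))).obj} {ξ : 𝒳.obj} {f : T ⟶ 𝒳.p.obj ξ}
    (g : x.obj a ⟶ ξ) [𝒳.p.IsHomLift f g] : a.left = T :=
  (x.w_obj a).symm.trans (IsHomLift.domain_eq 𝒳.p f g)

theorem locProp_of_hom (h𝒳 : FibCat.IsFibGrpd 𝒳.p) {η ξ : 𝒳.obj} (φ : η ⟶ ξ) (h : locProp x ξ) : locProp x η := by
  obtain ⟨R, hR, hR'⟩ := h
  refine ⟨R.pullback (𝒳.p.map φ), (AlgSp.J S).pullback_stable _ hR, fun T f hf => ?_⟩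
  obtain ⟨a, g, hg⟩ := hR' _ hf
  obtain ⟨e⟩ : Nonempty (PLift (a.left = T)) := ⟨⟨base_of_lift g (f := f ≫ 𝒳.p.map φ)⟩⟩
  obtain ⟨χ, hχ, hc⟩ := exists_factor h𝒳 g φ (eqToHom ((x.w_obj a).trans e.down) ≫ f) (by
    rw [IsHomLift.fac' 𝒳.p (f ≫ 𝒳.p.map φ) g]
    simp)
  exact ⟨a, χ, IsHomLift.of_fac' 𝒳.p f χ ((x.w_obj a).trans e.down) rfl (by simp [hχ])⟩

theorem locProp_local (h𝒳 : FibCat.IsFibGrpd 𝒳.p) {U : Over S} (R : Sieve U) (hR : R ∈ AlgSp.J S U) (ξ : 𝒳.obj)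
    (hξ : 𝒳.p.obj ξ = U)
    (H : ∀ ⦃V : Over S⦄ (f : V ⟶ U), R f → ∀ (η : 𝒳.obj) (φ : η ⟶ ξ), 𝒳.p.IsHomLift f φ → locProp x η) :
    locProp x ξ := by
  subst hξ
  refine Groth.L09.Gerb.exists_bind hR fun V f hf => ?_
  obtain ⟨η, φ, hφ⟩ := Groth.L09.Gerb.exists_pull h𝒳 ξ rfl f
  obtain ⟨R', hR', hR''⟩ := H f hf η φ hφ
  obtain rfl : 𝒳.p.obj η = V := IsHomLift.domain_eq 𝒳.p f φ
  refine ⟨R', hR', fun W g hg => ?_⟩
  obtain ⟨a, m, hm⟩ := hR'' g hg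
  exact ⟨a, m ≫ φ, inferInstance⟩

theorem locProp_isClosedUnderIsomorphisms (h𝒳 : FibCat.IsFibGrpd 𝒳.p) :
    ObjectProperty.IsClosedUnderIsomorphisms (locProp x) :=
  ⟨fun e h => locProp_of_hom h𝒳 e.inv h⟩

theorem locProp_obj (h𝒳 : FibCat.IsFibGrpd 𝒳.p) (a : (FibCat.overCat (Over.mk (𝟙 S))).obj) : locProp x (x.obj a) := by
  refine ⟨⊤, (AlgSp.J S).top_mem _, fun T f _ => ?_⟩
  refine ⟨Over.mk ((f ≫ eqToHom (x.w_obj a)) ≫ a.hom), x.toFunctor.map (Over.homMk (f ≫ eqToHom (x.w_obj a))), ?_⟩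
  refine IsHomLift.of_fac' 𝒳.p _ _ (x.w_obj _) rfl ?_
  rw [p_map_map]
  show eqToHom _ ≫ (f ≫ eqToHom _) ≫ eqToHom _ = _
  simp

variable (h𝒳 : Stk.IsStack (AlgSp.J S) 𝒳)
include h𝒳

theorem isStack_locProp : Stk.IsStack (AlgSp.J S) (fullSub 𝒳 (locProp x)) := by
  refine Groth.Agent.S12795.result _ h𝒳 (locProp x)
    (fun η ξ φ hξ => ⟨η, Iso.refl η, locProp_of_hom h𝒳.1 φ hξ, overId_id η⟩) ?_
  intro U R hR ξ hξ H
  refine ⟨ξ, Iso.refl ξ, locProp_local h𝒳.1 R hR ξ hξ fun V f hf η φ hφ => ?_, (overId_id ξ).lift hξ⟩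
  obtain ⟨y', e, hy', -⟩ := H f hf η φ hφ
  exact locProp_of_hom h𝒳.1 e.hom hy'

/-- The point with values in the substack. -/
def locPt : FibCat.overCat (Over.mk (𝟙 S)) ⥤ᵇ fullSub 𝒳 (locProp x) where
  toFunctor := ObjectProperty.lift _ x.toFunctor fun a => locProp_obj h𝒳.1 a
  w := x.w

omit h𝒳 in
/-- The structure functor to the base. -/
def toOneSp (Q : 𝒳.obj → Prop) : fullSub 𝒳 Q ⥤ᵇ AlgSt.ofSp (one S) where
  toFunctor :=
    { obj := fun z => ⟨(fullSub 𝒳 Q).p.obj z, ⟨Over.homMk ((fullSub 𝒳 Q).p.obj z).hom (comp_id _)⟩⟩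
      map := fun {z z'} m => ⟨(fullSub 𝒳 Q).p.map m, sec_one_subsingleton _ _⟩
      map_id := fun z => Stk.EltObj.hom_ext ((fullSub 𝒳 Q).p.map_id z)
      map_comp := fun m n => Stk.EltObj.hom_ext ((fullSub 𝒳 Q).p.map_comp m n) }
  w := rfl

theorem nonempty_sectionIso :
    Nonempty (BasedFunctor.comp (secSp (locPt h𝒳 (x := x))) (toOneSp (locProp x)) ≅
      BasedFunctor.id (AlgSt.ofSp (one S))) :=
  ⟨isoOfSecAt fun _ => sec_one_subsingleton _ _⟩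

theorem locSurjObj_secSp : Gerb.LocSurjObj (AlgSp.J S) (secSp (locPt h𝒳 (x := x))) := by
  intro z
  obtain ⟨R, hR, hR'⟩ := z.property
  refine ⟨R, hR, fun T f hf => ?_⟩
  obtain ⟨a, g, hg⟩ := hR' f hf
  let a₀ : (AlgSt.ofSp (one S)).obj := ⟨a.left, ⟨a.hom⟩⟩
  refine ⟨a₀, ObjectProperty.homMk g, ?_⟩
  exact (BasedFunctor.isHomLift_iff (subIncl 𝒳 (locProp x)) f
    (ObjectProperty.homMk g : (secSp (locPt h𝒳 (x := x))).obj a₀ ⟶ z)).1 hg

theorem autMap_bijective (z : (fullSub 𝒳 (locProp x)).obj) :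
    Function.Bijective (Gerb.autMap (subIncl 𝒳 (locProp x)) z) := by
  refine ⟨fun α β h => ?_, fun α => ?_⟩
  · apply Aut.ext
    apply Functor.Fiber.hom_ext
    exact ObjectProperty.hom_ext _ (congrArg (fun t => t.hom.1) h)
  · have hl : (fullSub 𝒳 (locProp x)).p.IsHomLift (𝟙 ((fullSub 𝒳 (locProp x)).p.obj z))
        (ObjectProperty.homMk α.hom.1 : z ⟶ z) :=
      (BasedFunctor.isHomLift_iff (subIncl 𝒳 (locProp x)) _ (ObjectProperty.homMk α.hom.1 : z ⟶ z)).1 α.hom.2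
    obtain ⟨β, hβ⟩ := Groth.L09.Gerb.exists_autO (isStack_locProp h𝒳).1 (ObjectProperty.homMk α.hom.1 : z ⟶ z)
      (V := (fullSub 𝒳 (locProp x)).p.obj z)
    exact ⟨β, Aut.ext (Functor.Fiber.hom_ext (congrArg (·.hom) hβ))⟩

/-- The automorphisms of the point in the substack. -/
def locRep {G : Over S} [GrpObj G] (r : Gerb.AutRep x (Gerb.ptsGrp (Over.mk (𝟙 S)) G)) :
    Gerb.AutRep (locPt h𝒳 (x := x)) (Gerb.ptsGrp (Over.mk (𝟙 S)) G) where
  iso T := (r.iso T).trans (MulEquiv.ofBijective (Gerb.autMap (subIncl 𝒳 (locProp x)) ((locPt h𝒳).obj T))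
    (autMap_bijective h𝒳 _)).symm
  natural {T' T} h a := by
    have key : ∀ (T : Over (Over.mk (𝟙 S))) (α : Gerb.AutO (x.obj T)),
        ((MulEquiv.ofBijective (Gerb.autMap (subIncl 𝒳 (locProp x)) ((locPt h𝒳).obj T))
          (autMap_bijective h𝒳 _)).symm α).hom.1.hom = α.hom.1 := fun T α =>
      congrArg (fun t => t.hom.1) ((MulEquiv.ofBijective (Gerb.autMap (subIncl 𝒳 (locProp x)) ((locPt h𝒳).obj T))
        (autMap_bijective h𝒳 _)).apply_symm_apply α)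
    refine ObjectProperty.hom_ext _ ?_
    refine (congrArg (· ≫ x.map h) (key T' _)).trans ((r.natural h a).trans ?_)
    exact (congrArg (x.map h ≫ ·) (key T _)).symm

/-- The classifying stack of the stabilizer maps to the stack, the trivial torsor to the point. -/
theorem exists_BG_equiv {G : Over S} [GrpObj G] [IsAffineHom G.hom]
    (r : Gerb.AutRep x (Gerb.ptsGrp (Over.mk (𝟙 S)) G)) :
    ∃ c : AlgSt.BG Scheme.fppfPrecoverage G ⥤ᵇ fullSub 𝒳 (locProp x), FibCat.IsEquivOver c ∧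
      Nonempty (BasedFunctor.comp (AlgSt.quotMap Scheme.fppfPrecoverage G (AlgSt.trivAction G))
        (BasedFunctor.comp c (subIncl 𝒳 (locProp x))) ≅
        BasedFunctor.comp (AlgSt.toOverCat (Over.mk (𝟙 S))) x) := by
  have hs := isStack_locProp h𝒳 (x := x)
  have r' := locRep h𝒳 r
  obtain ⟨e⟩ := nonempty_sectionIso h𝒳 (x := x)
  have hx := locSurjObj_secSp h𝒳 (x := x)
  let tF := torsFun (secSp (locPt h𝒳 (x := x))) hs e hx
  have htF : FibCat.IsEquivOver tF := isEquivOver_torsFun e hx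
  let ψ : (schSp S).obj G ≅ gOver (x := secSp (locPt h𝒳 (x := x))) hs :=
    @asIso _ _ _ _ (repHom hs r') (isIso_repHom hs r')
  let t : ∀ Y : Over (one S), Y ⟶ (schSp S).obj (MonoidalCategory.tensorUnit (Over S)) :=
    fun Y => CartesianMonoidalCategory.toUnit Y ≫ Functor.LaxMonoidal.ε (schSp S)
  have ht : ∀ (Y : Over (one S)) (a b : Y ⟶ (schSp S).obj (MonoidalCategory.tensorUnit (Over S))), a = b :=
    fun Y a b => (cancel_mono (Functor.OplaxMonoidal.η (schSp S))).1 (CartesianMonoidalCategory.toUnit_unique _ _)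
  let aX := AlgSt.trivGAction (gOver (x := secSp (locPt h𝒳 (x := x))) hs)
  let aX' := schAction (AlgSt.trivAction G)
  let E := transFun (K := Scheme.fppfPrecoverage) ψ (repHom_mul hs r') (repHom_one hs r') (aX := aX) (aX' := aX') t ht
  have hE : FibCat.IsEquivOver E := transFun_isEquivOver (K := Scheme.fppfPrecoverage) ψ (repHom_mul hs r')
    (repHom_one hs r') (aX := aX) (aX' := aX') t ht (fun Y => CartesianMonoidalCategory.toUnit Y)
    (fun Y a b => CartesianMonoidalCategory.toUnit_unique a b)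
  let Ψ := BasedFunctor.comp tF E
  obtain ⟨Φ, hΦ, ⟨i₁⟩, -⟩ := exists_inverse (isEquivOver_comp htF hE : FibCat.IsEquivOver Ψ)
  let q := toSpQuot Scheme.fppfPrecoverage G (AlgSt.trivAction G)
  refine ⟨BasedFunctor.comp q Φ, isEquivOver_comp isEquivOver_toSpQuot_fppf hΦ, ?_⟩
  let a₁ : (AlgSt.ofSch (MonoidalCategory.tensorUnit (Over S))).obj :=
    (AlgSt.ofOverCat (Over.mk (𝟙 S))).obj (idObj (Over.mk (𝟙 S)))
  let s₁ : (one S).obj.obj (op (Over.mk (𝟙 S))) := ⟨𝟙 _⟩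
  let z₁ : (fullSub 𝒳 (locProp x)).obj := ob (secSp (locPt h𝒳 (x := x))) (Over.mk (𝟙 S)) s₁
  let A₀ := (AlgSt.quotMap Scheme.fppfPrecoverage G (AlgSt.trivAction G)).obj a₁
  let k : (fullSub 𝒳 (locProp x)).p.obj z₁ ⟶ Over.mk (𝟙 S) := eqToHom (ob_p _ _ s₁)
  let v₀ : (fullSub 𝒳 (locProp x)).p.obj z₁ ⟶ A₀.P := lift (toUnit _ ≫ MonObj.one) k
  obtain ⟨h, hb, -⟩ := exists_hom_of_point (C := Ψ.obj z₁) (A := q.obj A₀) (fun Y => ⟨ht Y⟩)
    (idSec (h𝒳s := hs) e s₁) (idSec_π e hx s₁) k (hom_one_subsingleton _ _) ((AlgSp.yon S).map v₀) (by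
      show (AlgSp.yon S).map v₀ ≫ (AlgSp.yon S).map A₀.π = _
      rw [← Functor.map_comp]
      exact congrArg _ (lift_snd _ _))
  have hp₁ : (AlgSt.SpQuotSt Scheme.fppfPrecoverage ((schSp S).obj G) aX').p.obj (Ψ.obj z₁) = Over.mk (𝟙 S) :=
    (Ψ.w_obj z₁).trans (ob_p (secSp (locPt h𝒳 (x := x))) _ s₁)
  have hh : OverId h := OverId.of_eq (𝒳 := AlgSt.SpQuotSt Scheme.fppfPrecoverage ((schSp S).obj G) aX')
    (hp₁.trans (by rfl)) hb
  have : IsIso h := by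
    have h𝒯 := Groth.L24.Tors.isStack_spQuotSt (G := (schSp S).obj G) (aX := aX')
    have := hh.lift (rfl : (AlgSt.SpQuotSt Scheme.fppfPrecoverage ((schSp S).obj G) aX').p.obj (Ψ.obj z₁) = _)
    exact Groth.L09.Fib.isIso_of_isFibGrpd (AlgSt.SpQuotSt Scheme.fppfPrecoverage ((schSp S).obj G) aX').p h𝒯.1
      (𝟙 ((AlgSt.SpQuotSt Scheme.fppfPrecoverage ((schSp S).obj G) aX').p.obj (Ψ.obj z₁))) h
  let κ : (BasedFunctor.comp (BasedFunctor.comp (AlgSt.ofOverCat (Over.mk (𝟙 S)))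
      (BasedFunctor.comp (AlgSt.quotMap Scheme.fppfPrecoverage G (AlgSt.trivAction G)) (BasedFunctor.comp q Φ)))
      (subIncl 𝒳 (locProp x))).obj (idObj (Over.mk (𝟙 S))) ≅ x.obj (idObj (Over.mk (𝟙 S))) :=
    (subIncl 𝒳 (locProp x)).toFunctor.mapIso (Φ.toFunctor.mapIso (asIso h).symm ≪≫ appIso i₁ z₁)
  have hh' : OverId (asIso h).inv := OverId.inv (i := asIso h) hh
  have hκ : OverId κ.hom := OverId.map (subIncl 𝒳 (locProp x))
    ((OverId.map Φ hh').comp (overId_app i₁.hom z₁))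
  obtain ⟨i, -⟩ := exists_iso_of_evalId h𝒳.1 κ hκ
  refine ⟨?_ ≪≫ whiskerL (AlgSt.toOverCat (Over.mk (𝟙 S))) i⟩
  exact eqToIso ((congrArg (fun t => BasedFunctor.comp t (BasedFunctor.comp
    (AlgSt.quotMap Scheme.fppfPrecoverage G (AlgSt.trivAction G))
    (BasedFunctor.comp (BasedFunctor.comp q Φ) (subIncl 𝒳 (locProp x))))) (toOverCat_ofOverCat _)).symm.trans rfl)

end Groth.L09.Gerbe.LocIso
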