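import Groth.Agent.L09.Gerbe.SecAut
import Groth.Agent.L09.Gerbe.Space
import Groth.Agent.L09.Gerbe.Aut
import Groth.Agent.L24.St.Bootstrap2

/-!
The automorphisms of a section of a gerbe form a flat, locally finitely presented algebraic space over the base.
-/

set_option autoImplicit false
set_option backward.isDefEq.respectTransparency false
set_option backward.isDefEq.respectTransparency.types false

universe u

open CategoryTheory CategoryTheory.Limits AlgebraicGeometry Opposite AlgSt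

noncomputable section

namespace Groth.L09.Gerbe.Sec

open Groth.L24.St Groth.L24.LocQ

variable {S : Scheme.{u}} {U : AlgSp.Space S} {𝒳 : AlgSt.Cat S} {x : ofSp U.obj ⥤ᵇ 𝒳}
  (h𝒳s : Stk.IsStack (AlgSp.J S) 𝒳)

/-- The tautological automorphism. -/
def gIso : BasedFunctor.comp (ofSpMap (gHom (x := x) h𝒳s)) x ≅ BasedFunctor.comp (ofSpMap (gHom (x := x) h𝒳s)) x :=
  mkIso2 (fun a => Functor.Fiber.fiberInclusion.mapIso (show GPt x a.base from a.sec).α)
    (fun a b m => by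
      have h : Rel m.hom (show GPt x a.base from a.sec) (show GPt x b.base from b.sec) := by
        rw [← m.map_sec]; exact rel_res h𝒳s.1 m.hom _
      exact h.comm.symm)
    (fun a => (show GPt x a.base from a.sec).α.hom.2)

/-- The comparison with the self fibre product of the section. -/
abbrev gFun : ofSp (gSp (x := x) h𝒳s) ⥤ᵇ FibCat.fp x x :=
  FibCat.fpLift (ofSpMap (gHom h𝒳s)) (ofSpMap (gHom h𝒳s)) (gIso h𝒳s)

theorem gFun_isEquivOver {π : 𝒳 ⥤ᵇ ofSp U.obj} (e : BasedFunctor.comp x π ≅ BasedFunctor.id (ofSp U.obj)) :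
    FibCat.IsEquivOver (gFun (x := x) h𝒳s) := by
  have : (gFun (x := x) h𝒳s).toFunctor.Faithful := ⟨fun {a b m m'} h => by
    have h' : (ofSpMap (gHom (x := x) h𝒳s)).map m = (ofSpMap (gHom h𝒳s)).map m' :=
      congrArg (fun t => t.hom.fst) h
    exact Stk.EltObj.hom_ext (congrArg Stk.EltObj.Hom.hom h' :)⟩
  have : (gFun (x := x) h𝒳s).toFunctor.Full := ⟨fun {a b} M => by
    let μ : (ofSpMap (gHom (x := x) h𝒳s)).obj a ⟶ (ofSpMap (gHom h𝒳s)).obj b := M.hom.fst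
    have hl := L09.Fib.fp_snd_lift _ M (IsHomLift.map (FibCat.fp x x).p M)
    have hs : M.hom.snd = μ := by
      apply Stk.EltObj.hom_ext
      have := IsHomLift.fac' (ofSp U.obj).p ((FibCat.fp x x).p.map M) M.hom.snd
      exact this.trans ((Category.id_comp _).trans (Category.comp_id _))
    have sq := M.hom.w
    rw [hs] at sq
    have h : Rel μ.hom (show GPt x a.base from a.sec) (show GPt x b.base from b.sec) :=
      ⟨μ.map_sec, sq.symm⟩
    exact ⟨⟨μ.hom, Rel.unique h𝒳s.1 (rel_res h𝒳s.1 μ.hom _) h⟩, fp_ext (Stk.EltObj.hom_ext rfl)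
      (hs.symm ▸ Stk.EltObj.hom_ext rfl)⟩⟩
  refine isEquivOver_of_overId _ fun η => ?_
  let T₁ : (ofSp U.obj).obj := η.obj.fst
  let T₂ : (ofSp U.obj).obj := η.obj.snd
  let k : x.obj T₁ ≅ x.obj T₂ := η.obj.iso
  have hk : OverId k.hom := fp_overId η
  let c : T₁ ≅ T₂ := (appIso e T₁).symm ≪≫ π.toFunctor.mapIso k ≪≫ appIso e T₂
  have hc : OverId c.hom := (overId_app e.inv T₁).comp ((hk.map π).comp (overId_app e.hom T₂))
  let α : Gerb.AutO (x.obj T₁) :=
    { hom := ⟨k.hom ≫ x.map c.inv, hk.comp ((OverId.inv hc).map x)⟩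
      inv := ⟨x.map c.hom ≫ k.inv, (hc.map x).comp (OverId.inv hk)⟩
      hom_inv_id := by
        apply Functor.Fiber.hom_ext
        show (k.hom ≫ x.map c.inv) ≫ x.map c.hom ≫ k.inv = 𝟙 (x.obj T₁)
        simp [← Functor.map_comp_assoc]
      inv_hom_id := by
        apply Functor.Fiber.hom_ext
        show (x.map c.hom ≫ k.inv) ≫ k.hom ≫ x.map c.inv = 𝟙 (x.obj T₁)
        simp [← Functor.map_comp] }
  let a : (ofSp (gSp (x := x) h𝒳s)).obj := ⟨T₁.base, (⟨T₁.sec, α⟩ : GPt x T₁.base)⟩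
  refine ⟨a, fpIsoMk (Iso.refl T₁) c ?_, overId_fp _ ?_⟩
  · show x.map (𝟙 T₁) ≫ k.hom = (k.hom ≫ x.map c.inv) ≫ x.map c.hom
    simp [← Functor.map_comp]
  · exact OverId.of_eq (𝒳 := ofSp U.obj) rfl rfl

theorem gSp_space (h𝒳 : IsAlgStack Scheme.fppfPrecoverage 𝒳) {π : 𝒳 ⥤ᵇ ofSp U.obj}
    (hπ : Gerb.LocSurjHom (QuotSh.J Scheme.fppfPrecoverage S) π)
    (e : BasedFunctor.comp x π ≅ BasedFunctor.id (ofSp U.obj)) :
    AlgSp.IsAlgSpace (gSp (x := x) h𝒳.isStack) ∧ AlgSp.LocP @Flat (gHom (x := x) h𝒳.isStack) ∧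
      AlgSp.LocP @LocallyOfFinitePresentation (gHom (x := x) h𝒳.isStack) := by
  have hU := isAlgStack_ofSp U
  have hQ := isAlgStack_fp hU hU h𝒳 x x
  have hset : FibCat.IsFibSetoid (ofSp U.obj : AlgSt.Cat S).p :=
    isFibSetoid_of_repByAlgSp (𝒳 := ofSp U.obj) ⟨U, _, isEquivOver_id _⟩
  have hE := gFun_isEquivOver h𝒳.isStack e
  obtain ⟨F, c, hc⟩ := repByAlgSp_of_setoid_atlas hQ.isStack
    (fp_isFibSetoid_of_setoids hset hset h𝒳.isStack.1 x x) hQ.atlas
  obtain ⟨d, hd, -, -⟩ := exists_inverse hE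
  have hcd : FibCat.IsEquivOver (BasedFunctor.comp c d) := isEquivOver_comp hc hd
  have := isIso_spMap hcd
  have hsp : AlgSp.IsAlgSpace (gSp (x := x) h𝒳.isStack) :=
    ObjectProperty.prop_of_iso (AlgSp.IsAlgSpace (S := S)) (asIso (spMap (BasedFunctor.comp c d))) F.property
  have hx := isFF_section h𝒳 hU e (locSurjObj_section h𝒳.isStack.1 hU.isStack.1 hπ e)
  have hG : IsAlgStack Scheme.fppfPrecoverage (ofSp (gSp (x := x) h𝒳.isStack) : AlgSt.Cat S) :=
    isAlgStack_ofSp ⟨_, hsp⟩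
  have h : IsFF (ofSpMap (gHom (x := x) h𝒳.isStack)) :=
    (IsFF.comp hG hQ hU (IsFF.of_isEquivOver hG hQ hE) (IsFF.fpFst hU h𝒳 hU x hx)).congr
      (Iso.refl (BasedFunctor.comp (gFun h𝒳.isStack) (FibCat.fpFst x x)))
  exact ⟨hsp, (locQ_ofSpMap_iff isSmoothLocalST_flat ⟨_, hsp⟩ U _).1 h.1,
    (locQ_ofSpMap_iff isSmoothLocalST_lfp ⟨_, hsp⟩ U _).1 h.2⟩

end Groth.L09.Gerbe.Sec
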