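import Groth.Agent.L09.Gerbe.LocIso
import Groth.Agent.L09.Gerbe.SecSpace
import Groth.Agent.L09.Gerbe.CoarseSpace
import Groth.Agent.L09.FieldPt.Basic
import Groth.Agent.L24.Boot.QuotFlat

/-!
The substack of objects locally isomorphic to a point with flat stabilizer of finite presentation is a
monomorphism into the stack.
-/

set_option autoImplicit false
set_option backward.isDefEq.respectTransparency false
set_option backward.isDefEq.respectTransparency.types false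

universe u

open CategoryTheory CategoryTheory.Limits AlgebraicGeometry Opposite AlgSt

noncomputable section

namespace Groth.L09.Gerbe.LocIso

open Groth.L24.St Groth.L24.LocQ Groth.L24.Tors Groth.L09.Gerbe.Sec

variable {S : Scheme.{u}} {𝒳 : AlgSt.Cat S}

/-- The structure functor to the sheaf of the base. -/
def toOne (𝒳 : AlgSt.Cat S) : 𝒳 ⥤ᵇ AlgSt.ofSp (one S) where
  toFunctor :=
    { obj := fun z => ⟨𝒳.p.obj z, ⟨Over.homMk (𝒳.p.obj z).hom (Category.comp_id _)⟩⟩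
      map := fun {z z'} m => ⟨𝒳.p.map m, Groth.L24.Tors.sec_one_subsingleton _ _⟩
      map_id := fun z => Stk.EltObj.hom_ext (𝒳.p.map_id z)
      map_comp := fun m n => Stk.EltObj.hom_ext (𝒳.p.map_comp m n) }
  w := rfl

variable {x : FibCat.overCat (Over.mk (𝟙 S)) ⥤ᵇ 𝒳}

/-- The self fibre product of the point is flat and locally of finite presentation over the base. -/
theorem isFF_fpFst_self (h𝒳 : IsAlgStack Scheme.fppfPrecoverage 𝒳) {G : Over S} [GrpObj G] [Flat G.hom]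
    [LocallyOfFinitePresentation G.hom] (r : Gerb.AutRep x (Gerb.ptsGrp (Over.mk (𝟙 S)) G)) :
    IsFF (FibCat.fpFst x x) := by
  let e : BasedFunctor.comp (secSp x) (toOne 𝒳) ≅ BasedFunctor.id (AlgSt.ofSp (one S)) :=
    isoOfSecAt fun _ => Groth.L24.Tors.sec_one_subsingleton _ _
  have hg := gFun_isEquivOver (U := ⟨one S, AlgSp.IsAlgSpace.yon_obj _⟩) (x := secSp x) h𝒳.isStack
    (π := toOne 𝒳) e
  let ψ := repHom h𝒳.isStack r
  have : IsIso ψ := isIso_repHom _ r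
  have : IsIso ψ.left := inferInstanceAs (IsIso ((Over.forget (one S)).map ψ))
  let M : FibCat.fp (secSp x) (secSp x) ⥤ᵇ FibCat.fp x x :=
    fpMap (AlgSt.toOverCat _) (AlgSt.toOverCat _) (Iso.refl _) (Iso.refl _)
  have hM : FibCat.IsEquivOver M :=
    fpMap_isEquivOver (toOverCat_isEquivOver _) (toOverCat_isEquivOver _) _ _
  let Θ : AlgSt.ofSp ((AlgSp.yon S).obj G) ⥤ᵇ FibCat.fp x x :=
    BasedFunctor.comp (AlgSt.ofSpMap ψ.left) (BasedFunctor.comp
      (gFun (U := ⟨one S, AlgSp.IsAlgSpace.yon_obj _⟩) (x := secSp x) h𝒳.isStack) M)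
  have hΘ : FibCat.IsEquivOver Θ :=
    isEquivOver_comp (ofSpMap_isEquivOver _) (isEquivOver_comp hg hM)
  let g : G ⟶ Over.mk (𝟙 S) := Over.homMk G.hom (Category.comp_id _)
  have hw : ψ.left ≫ gHom (x := secSp x) h𝒳.isStack = (AlgSp.yon S).map g :=
    Groth.L24.Tors.hom_yon_one_subsingleton _ _
  have i₁ : BasedFunctor.comp (AlgSt.ofSpMap ψ.left) (AlgSt.ofSpMap (gHom (x := secSp x) h𝒳.isStack)) ≅
      AlgSt.ofSpMap ((AlgSp.yon S).map g) :=
    isoOfSpMapEq (by rw [spMap_comp, spMap_ofSpMap, spMap_ofSpMap, spMap_ofSpMap, hw])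
  have i : BasedFunctor.comp Θ (FibCat.fpFst x x) ≅
      BasedFunctor.comp (AlgSt.ofSpMap ((AlgSp.yon S).map g)) (AlgSt.toOverCat (Over.mk (𝟙 S))) :=
    (show BasedFunctor.comp Θ (FibCat.fpFst x x) ≅ BasedFunctor.comp
      (BasedFunctor.comp (AlgSt.ofSpMap ψ.left) (AlgSt.ofSpMap (gHom (x := secSp x) h𝒳.isStack)))
      (AlgSt.toOverCat (Over.mk (𝟙 S))) from Iso.refl _) ≪≫ whiskerR i₁ _
  obtain ⟨Θ', hΘ', -, ⟨j⟩⟩ := exists_inverse hΘ
  let Gs : AlgSp.Space S := ⟨(AlgSp.yon S).obj G, AlgSp.IsAlgSpace.yon_obj G⟩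
  let Os : AlgSp.Space S := ⟨one S, AlgSp.IsAlgSpace.yon_obj _⟩
  have hG := isAlgStack_ofSp Gs
  have hO := isAlgStack_ofSp Os
  have hU := isAlgStack_overCat (Over.mk (𝟙 S))
  have hP := isAlgStack_fp hU hU h𝒳 x x
  have h₀ : IsFF (AlgSt.ofSpMap ((AlgSp.yon S).map g)) :=
    ⟨(locQ_ofSpMap_iff isSmoothLocalST_flat Gs Os _).2
        ((locP_map_iff Groth.L23.etLocal_flat g).2 ‹Flat G.hom›),
      (locQ_ofSpMap_iff isSmoothLocalST_lfp Gs Os _).2
        ((locP_map_iff Groth.L23.etLocal_lfp g).2 ‹LocallyOfFinitePresentation G.hom›)⟩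
  have h₁ : IsFF (BasedFunctor.comp Θ (FibCat.fpFst x x)) :=
    (h₀.comp hG hO hU (IsFF.of_isEquivOver hO hU (toOverCat_isEquivOver _))).congr i.symm
  exact ((IsFF.of_isEquivOver hP hG hΘ').comp hP hG hU h₁).congr (whiskerR j (FibCat.fpFst x x))

theorem isMono_subIncl (h𝒳 : IsAlgStack Scheme.fppfPrecoverage 𝒳) {G : Over S} [GrpObj G] [Flat G.hom]
    [LocallyOfFinitePresentation G.hom] (r : Gerb.AutRep x (Gerb.ptsGrp (Over.mk (𝟙 S)) G)) :
    AlgSt.IsMono (subIncl 𝒳 (locProp x)) := by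
  intro U y
  have hs := isStack_locProp h𝒳.isStack (x := x)
  let incl := subIncl 𝒳 (locProp x)
  haveI : incl.toFunctor.Full := inferInstanceAs (ObjectProperty.ι (locProp x)).Full
  haveI : incl.toFunctor.Faithful := inferInstanceAs (ObjectProperty.ι (locProp x)).Faithful
  let q := locPt h𝒳.isStack (x := x)
  obtain ⟨FI, eI, heI⟩ := Groth.L09.FieldPt.rep1_overCat h𝒳 x U y
  have hU := isAlgStack_overCat U
  have h1 := isAlgStack_overCat (Over.mk (𝟙 S))
  have hFI := isAlgStack_ofSp FI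
  have hUs := isFibSetoid_of_repByAlgSp (overCat_repByAlgSp U)
  -- the sheaf of the fibre product
  have hst : Stk.IsStack (AlgSp.J S) (FibCat.fp y incl) :=
    isStack_fp (isStack_overCat U) hs (isPrestack_of_isStack h𝒳.isStack)
  have hset : FibCat.IsFibSetoid (FibCat.fp y incl).p := by
    refine ⟨hst.1, fun V a b => ⟨fun φ ψ => Functor.Fiber.hom_ext ?_⟩⟩
    have := (L09.Fib.fp_isHomLift_iff _ _).1 φ.2
    have := (L09.Fib.fp_isHomLift_iff _ _).1 ψ.2
    have h1 : φ.1.hom.fst = ψ.1.hom.fst := L09.Fib.setoid_ext hUs (𝟙 V)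
    refine fp_ext h1 (incl.toFunctor.map_injective ?_)
    have e1 := φ.1.hom.w
    have e2 := ψ.1.hom.w
    rw [h1] at e1
    exact (cancel_epi a.1.obj.iso.hom).1 (e1.symm.trans e2)
  have hQ := toClassPsh_isEquivOver (h := hst.1) hset
  let F : AlgSp.Sp S := ⟨classPsh hst.1, (isSheaf_iff_isSheaf_of_type _ _).2
    ((isStack_ofPsh_iff _).1 ((L09.Fib.isStack_iff _ hQ).1 hst))⟩
  let c : FibCat.fp y incl ⥤ᵇ AlgSt.ofSp F := toClassPsh (h := hst.1)
  have hc : FibCat.IsEquivOver c := hQ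
  obtain ⟨eF', heF', ⟨iF'⟩, -⟩ : ∃ d : AlgSt.ofSp F ⥤ᵇ FibCat.fp y incl, FibCat.IsEquivOver d ∧
      Nonempty (BasedFunctor.comp c d ≅ BasedFunctor.id _) ∧ Nonempty (BasedFunctor.comp d c ≅ BasedFunctor.id _) :=
    exists_inverse hc
  -- the comparison
  let M : FibCat.fp y x ⥤ᵇ FibCat.fp y incl :=
    fpMap (BasedFunctor.id _) q (Iso.refl _) (show BasedFunctor.comp q incl ≅ x from Iso.refl _)
  have hqL : Gerb.LocSurjObj (AlgSp.J S) q :=
    locSurjObj_comp (F := AlgSt.ofOverCat (Over.mk (𝟙 S))) (G := secSp q)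
      (locSurjObj_of_isEquivOver (isAlgStack_ofSp ⟨one S, AlgSp.IsAlgSpace.yon_obj _⟩).isStack.1
        h1.isStack.1 (ofOverCat_isEquivOver _)) (locSurjObj_secSp h𝒳.isStack (x := x))
  have hML : Gerb.LocSurjObj (AlgSp.J S) M := by
    intro η
    obtain ⟨R, hR, hR'⟩ := L09.Gerb.objAt hqL ((FibCat.fpSnd y incl).w_obj η)
    refine ⟨R, hR, fun V f hf => ?_⟩
    obtain ⟨a, g, hg⟩ := hR' f hf
    obtain ⟨y', π, hπ⟩ := hU.isStack.1.exists_lift (x := η.obj.fst) f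
    have hy' := IsHomLift.domain_eq (FibCat.overCat U).p f π
    have hl : 𝒳.p.IsHomLift f (incl.map g) :=
      @BasedFunctor.preserves_isHomLift _ _ _ _ incl _ _ _ _ f g hg
    have hη : 𝒳.p.IsHomLift (𝟙 ((FibCat.overCat U).p.obj η.obj.fst)) η.obj.iso.hom := η.property
    have hl' : 𝒳.p.IsHomLift f (y.map π) := @BasedFunctor.preserves_isHomLift _ _ _ _ y _ _ _ _ f π hπ
    have hl₂ : 𝒳.p.IsHomLift f (y.map π ≫ η.obj.iso.hom) :=
      @IsHomLift.comp_lift_id_right _ _ _ _ 𝒳.p _ _ _ _ _ f (y.map π) hl' η.obj.iso.hom hη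
    obtain ⟨i, hi, hiw⟩ := L09.Gerb.connect h𝒳.isStack.1 f (y.map π ≫ η.obj.iso.hom) (incl.map g)
    refine ⟨⟨⟨y', a, i⟩, show 𝒳.p.IsHomLift (𝟙 ((FibCat.overCat U).p.obj y')) i.hom by rw [hy']; exact hi⟩,
      fpHom π g (hiw.symm.trans (congrArg (· ≫ incl.map g)
        ((Category.id_comp _).trans (Category.comp_id _)).symm)), ?_⟩
    exact (L09.Fib.fp_isHomLift_iff _ _).2 hπ
  let Φ : AlgSt.ofSp FI.obj ⥤ᵇ AlgSt.ofSp F := BasedFunctor.comp (BasedFunctor.comp eI M) c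
  let g := spMap Φ
  have : Epi g := epi_of_locSurjObj g (locSurjObj_congr (isoOfSpMap Φ)
    (locSurjObj_comp (locSurjObj_comp
      (locSurjObj_of_isEquivOver (L09.Fib.fp_isFibGrpd hU.isStack.1 h1.isStack.1 h𝒳.isStack.1) hFI.isStack.1 heI)
      hML) (locSurjObj_of_isEquivOver (ofSp_isFibGrpd F) hst.1 hc)))
  let p := spMapOfOver (BasedFunctor.comp eF' (FibCat.fpFst y incl))
  let π := spMapOfOver (BasedFunctor.comp eI (FibCat.fpFst y x))
  have hgp : g ≫ p = π := by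
    rw [← spMapOfOver_comp]
    exact (spMapOfOver_congr (whiskerR (whiskerL (BasedFunctor.comp eI M) iF') (FibCat.fpFst y incl))).trans
      (spMapOfOver_congr (Iso.refl (BasedFunctor.comp eI (FibCat.fpFst y x))))
  -- monomorphism
  have : Mono p := by
    obtain ⟨_, _⟩ := eqv_fullFaithful heF'
    haveI : (FibCat.fpFst y incl).toFunctor.Full := ⟨fun {a b} m => by
      obtain ⟨m2, hm2⟩ := incl.toFunctor.map_surjective (a.obj.iso.inv ≫ y.map m ≫ b.obj.iso.hom)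
      exact ⟨fpHom m m2 (by rw [hm2, Iso.hom_inv_id_assoc]), rfl⟩⟩
    let Φ' := BasedFunctor.comp eF' (FibCat.fpFst y incl)
    haveI : Φ'.toFunctor.Full := inferInstanceAs (eF'.toFunctor ⋙ (FibCat.fpFst y incl).toFunctor).Full
    apply (sheafToPresheaf _ _).mono_of_mono_map
    haveI : ∀ T, Mono ((AlgSt.spMapOfOver Φ').hom.app T) := fun T => by
      rw [mono_iff_injective]
      intro s s' h
      let a : (AlgSt.ofSp F).obj := ⟨T.unop, s⟩
      let a' : (AlgSt.ofSp F).obj := ⟨T.unop, s'⟩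
      have h' : AlgSt.secHom Φ' a = AlgSt.secHom Φ' a' := congrArg ULift.down h
      let m : Φ'.obj a ⟶ Φ'.obj a' := Over.homMk (eqToHom ((Φ'.w_obj a).trans (Φ'.w_obj a').symm)) (by
        have h₂ := eqToHom (Φ'.w_obj a) ≫= h'
        simpa [AlgSt.secHom] using h₂.symm)
      obtain ⟨μ, hμ⟩ := Φ'.toFunctor.map_surjective m
      have hw : μ.hom = 𝟙 _ := by
        have h₁ := Functor.congr_hom Φ'.w μ
        change (Φ'.map μ).left = _ at h₁
        rw [hμ] at h₁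
        simp only [m, Over.homMk_left] at h₁
        change eqToHom _ = _ ≫ μ.hom ≫ _ at h₁
        rw [← cancel_epi (eqToHom (Φ'.w_obj a)), ← cancel_mono (eqToHom (Φ'.w_obj a').symm), Category.assoc, ← h₁]
        simp
      have h₃ := μ.map_sec
      rw [hw] at h₃
      change F.obj.map (𝟙 _) s' = s at h₃
      rw [F.obj.map_id] at h₃
      exact h₃.symm
    exact @NatTrans.mono_of_mono_app _ _ _ _ _ _ _ this
  refine ⟨⟨F, ?_⟩, eF', heF', this⟩
  -- the kernel pair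
  let R : AlgSp.Sp S := pullback π π
  let t : R ⟶ FI.obj := pullback.fst π π
  have sqπ : IsPullback t (pullback.snd π π) π π := IsPullback.of_hasPullback π π
  have hR : AlgSp.IsAlgSpace R :=
    isAlgSpace_pullback FI.property FI.property (AlgSp.IsAlgSpace.yon_obj U) π π
  have sqg : IsPullback t (pullback.snd π π) g g := by
    have hk : IsKernelPair (g ≫ p) t (pullback.snd π π) := hgp.symm ▸ sqπ
    exact hk.cancel_right_of_mono
  let Φ₀ := BasedFunctor.comp eI (FibCat.fpFst y x)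
  let π' := BasedFunctor.comp (AlgSt.ofSpMap π) (AlgSt.toOverCat U)
  have iπ : Φ₀ ≅ π' :=
    (show Φ₀ ≅ BasedFunctor.comp (BasedFunctor.comp Φ₀ (AlgSt.ofOverCat U)) (AlgSt.toOverCat U) from Iso.refl _) ≪≫
      whiskerR (isoOfSpMap (BasedFunctor.comp Φ₀ (AlgSt.ofOverCat U))) (AlgSt.toOverCat U)
  let b := BasedFunctor.comp eI (FibCat.fpSnd y x)
  have sqP := sqπ.map (sheafToPresheaf _ _)
  let G₀ := pshFp sqP.w
  let G₁ := fpPost (AlgSt.ofSpMap π) (AlgSt.ofSpMap π) (AlgSt.toOverCat U)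
  let G₂ : FibCat.fp π' π' ⥤ᵇ FibCat.fp Φ₀ (FibCat.fpFst y x) :=
    fpMap (BasedFunctor.id _) eI iπ iπ
  let G₃ := fpPaste Φ₀ y x
  let G₄ : FibCat.fp (BasedFunctor.comp Φ₀ y) x ⥤ᵇ FibCat.fp (BasedFunctor.comp b x) x :=
    fpMap (BasedFunctor.id _) (BasedFunctor.id _) (whiskerL eI (FibCat.fpIso y x)).symm (Iso.refl _)
  obtain ⟨G₅, hG₅, -, ⟨i₅⟩⟩ := exists_inverse (fpPaste_isEquivOver b x x)
  let G' : AlgSt.ofSp R ⥤ᵇ FibCat.fp b (FibCat.fpFst x x) :=
    BasedFunctor.comp G₀ (BasedFunctor.comp G₁ (BasedFunctor.comp G₂ (BasedFunctor.comp G₃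
      (BasedFunctor.comp G₄ G₅))))
  have hG' : FibCat.IsEquivOver G' :=
    isEquivOver_comp (pshFp_isEquivOver sqP) (isEquivOver_comp (fpPost_isEquivOver _ _ (toOverCat_isEquivOver U))
      (isEquivOver_comp (fpMap_isEquivOver (isEquivOver_id _) heI _ _) (isEquivOver_comp
        (fpPaste_isEquivOver Φ₀ y x) (isEquivOver_comp
          (fpMap_isEquivOver (isEquivOver_id _) (isEquivOver_id _) _ _) hG₅))))
  have e₅ : BasedFunctor.comp G₅ (FibCat.fpFst b (FibCat.fpFst x x)) ≅ FibCat.fpFst (BasedFunctor.comp b x) x :=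
    whiskerR i₅ (FibCat.fpFst (BasedFunctor.comp b x) x)
  have eG : BasedFunctor.comp G' (FibCat.fpFst b (FibCat.fpFst x x)) ≅ AlgSt.ofSpMap t :=
    whiskerL G₀ (whiskerL G₁ (whiskerL G₂ (whiskerL G₃ (whiskerL G₄ e₅)))) ≪≫
      (show BasedFunctor.comp G₀ (BasedFunctor.comp G₁ (BasedFunctor.comp G₂ (BasedFunctor.comp G₃
        (BasedFunctor.comp G₄ (FibCat.fpFst _ _))))) ≅ AlgSt.ofSpMap t from Iso.refl _)
  have hP := isAlgStack_fp h1 h1 h𝒳 x x
  have hN := isAlgStack_fp hFI hP h1 b (FibCat.fpFst x x)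
  have hRa := isAlgStack_ofSp (⟨R, hR⟩ : AlgSp.Space S)
  have ht : IsFF (AlgSt.ofSpMap t) :=
    ((IsFF.of_isEquivOver hRa hN hG').comp hRa hN hFI
      (IsFF.fpFst hP h1 hFI b (isFF_fpFst_self h𝒳 r))).congr eG
  exact Groth.L24.Boot.isAlgSpace_of_kernelPair sqg hR FI.property
    ((locQ_ofSpMap_iff isSmoothLocalST_flat ⟨R, hR⟩ FI _).1 ht.1)
    ((locQ_ofSpMap_iff isSmoothLocalST_lfp ⟨R, hR⟩ FI _).1 ht.2)

end Groth.L09.Gerbe.LocIso
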