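import Groth.Prelude.Def_StGerb
import Groth.Agent.L09.GerbBasic
import Groth.Agent.L09.Gerbe.Scheme
import Groth.Agent.L24.LocQ.RepDescent
import Groth.Agent.L24.St.DiagSpace
import Groth.Agent.L24.Boot.LqfBase

/-!
Functors of algebraic stacks along which objects lift fppf locally.
-/

set_option autoImplicit false
set_option backward.isDefEq.respectTransparency false
set_option backward.isDefEq.respectTransparency.types false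

universe u

open CategoryTheory CategoryTheory.Limits AlgebraicGeometry Opposite AlgSt

noncomputable section

namespace Groth.L09.Gerbe

open Groth.L24.St Groth.L24.LocQ

variable {S : Scheme.{u}} {𝒳 𝒴 𝒵 : AlgSt.Cat S}

local notation "Jf" => QuotSh.J Scheme.fppfPrecoverage S

theorem locSurjObj_comp {F : 𝒳 ⥤ᵇ 𝒴} {G : 𝒴 ⥤ᵇ 𝒵} (hF : Gerb.LocSurjObj Jf F) (hG : Gerb.LocSurjObj Jf G) :
    Gerb.LocSurjObj Jf (BasedFunctor.comp F G) := fun z => by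
  obtain ⟨R, hR, hR'⟩ := hG z
  refine L09.Gerb.exists_bind hR fun V f hf => ?_
  obtain ⟨y, g, hg⟩ := hR' f hf
  obtain ⟨R', hR₁, hR₂⟩ := L09.Gerb.objAt hF (L09.Gerb.proj_obj (F := G) g (f := f))
  refine ⟨R', hR₁, fun W g' hg' => ?_⟩
  obtain ⟨x, k, hk⟩ := hR₂ g' hg'
  exact ⟨x, G.map k ≫ g, inferInstanceAs (𝒵.p.IsHomLift (g' ≫ f) (G.map k ≫ g))⟩

theorem locSurjObj_congr {F G : 𝒳 ⥤ᵇ 𝒴} (e : F ≅ G) (hF : Gerb.LocSurjObj Jf F) : Gerb.LocSurjObj Jf G := fun y => by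
  obtain ⟨R, hR, hR'⟩ := hF y
  refine ⟨R, hR, fun V f hf => ?_⟩
  obtain ⟨x, g, hg⟩ := hR' f hf
  have hV : 𝒳.p.obj x = V := L09.Gerb.proj_obj (F := F) g (f := f)
  have := BasedNatTrans.isHomLift e.inv hV
  exact ⟨x, e.inv.toNatTrans.app x ≫ g, IsHomLift.comp_lift_id_left' 𝒴.p V _ f g⟩

theorem locSurjObj_of_isEquivOver (h𝒴 : FibCat.IsFibGrpd 𝒴.p) (h𝒳 : FibCat.IsFibGrpd 𝒳.p) {F : 𝒳 ⥤ᵇ 𝒴}
    (h : FibCat.IsEquivOver F) : Gerb.LocSurjObj Jf F :=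
  (L09.Gerb.of_isEquivOver h𝒳 h𝒴 h).1

theorem locSurjObj_fpFst (h𝒴 : FibCat.IsFibGrpd 𝒴.p) (h𝒵 : FibCat.IsFibGrpd 𝒵.p) {F : 𝒳 ⥤ᵇ 𝒴}
    (G : 𝒵 ⥤ᵇ 𝒴) (hF : Gerb.LocSurjObj Jf F) : Gerb.LocSurjObj Jf (FibCat.fpFst G F) := fun y => by
  obtain ⟨R, hR, hR'⟩ := L09.Gerb.objAt hF (G.w_obj y)
  refine ⟨R, hR, fun V f hf => ?_⟩
  obtain ⟨x, g, hg⟩ := hR' f hf
  obtain ⟨y', π, hπ⟩ := h𝒵.exists_lift (x := y) f
  obtain ⟨i, hi, -⟩ := L09.Gerb.connect h𝒴 f (G.map π) g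
  have hy' := IsHomLift.domain_eq 𝒵.p f π
  exact ⟨⟨⟨y', x, i⟩, show 𝒴.p.IsHomLift (𝟙 (𝒵.p.obj y')) i.hom by rw [hy']; exact hi⟩, π, hπ⟩

theorem locSurjObj_fpSnd (h𝒳 : FibCat.IsFibGrpd 𝒳.p) (h𝒴 : FibCat.IsFibGrpd 𝒴.p) (h𝒵 : FibCat.IsFibGrpd 𝒵.p)
    {F : 𝒳 ⥤ᵇ 𝒴} (G : 𝒵 ⥤ᵇ 𝒴) (hF : Gerb.LocSurjObj Jf F) : Gerb.LocSurjObj Jf (FibCat.fpSnd F G) :=
  locSurjObj_comp (F := fpSwap (F := F) (G := G)) (G := FibCat.fpFst G F)
    (locSurjObj_of_isEquivOver (L09.Fib.fp_isFibGrpd h𝒵 h𝒳 h𝒴) (L09.Fib.fp_isFibGrpd h𝒳 h𝒵 h𝒴) fpSwap_isEquivOver)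
    (locSurjObj_fpFst h𝒴 h𝒵 G hF)

/-- Objects lift along a functor as soon as they do along one fppf covering morphism. -/
theorem locSurjObj_of_exists_fppf (h𝒴 : FibCat.IsFibGrpd 𝒴.p) (g : 𝒵 ⥤ᵇ 𝒴)
    (H : ∀ (U : Over S) (y : FibCat.overCat U ⥤ᵇ 𝒴), ∃ (T : Over S) (c : T ⟶ U) (s : FibCat.overCat T ⥤ᵇ 𝒵),
      Flat c.left ∧ LocallyOfFinitePresentation c.left ∧ Surjective c.left ∧
        Nonempty (BasedFunctor.comp s g ≅ BasedFunctor.comp (overMap c) y)) :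
    Gerb.LocSurjObj Jf g := fun y₀ => by
  obtain ⟨G, φ, hφ⟩ := exists_overCat_functor h𝒴 y₀ rfl
  obtain ⟨T, c, s, h₁, h₂, h₃, ⟨i⟩⟩ := H _ G
  refine ⟨_, Groth.L24.Boot.fppf_mem_J c, fun V e he => ?_⟩
  obtain ⟨_, a, _, ⟨_⟩, rfl⟩ := he
  let toId : Over.mk (a ≫ c) ⟶ idObj (𝒴.p.obj y₀) := Over.homMk (a ≫ c) (Category.comp_id _)
  have l₁ : 𝒴.p.IsHomLift (𝟙 V) (i.hom.toNatTrans.app (Over.mk a)) :=
    BasedNatTrans.isHomLift i.hom (show (FibCat.overCat T).p.obj (Over.mk a) = V from rfl)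
  have l₂ : 𝒴.p.IsHomLift (a ≫ c) (G.map toId) :=
    @BasedFunctor.preserves_isHomLift _ _ _ _ G _ _ _ _ (a ≫ c) toId
      (IsHomLift.map (FibCat.overCat (𝒴.p.obj y₀)).p toId)
  have l₃ : 𝒴.p.IsHomLift (𝟙 (𝒴.p.obj y₀)) φ.hom := hφ.lift (G.w_obj _)
  have l₄ : 𝒴.p.IsHomLift (a ≫ c) (G.map toId ≫ φ.hom) :=
    @IsHomLift.comp_lift_id_right _ _ _ _ 𝒴.p _ _ _ _ _ (a ≫ c) (G.map toId) l₂ φ.hom l₃
  exact ⟨s.obj (Over.mk a), i.hom.toNatTrans.app (Over.mk a) ≫ G.map toId ≫ φ.hom,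
    IsHomLift.comp_lift_id_left' 𝒴.p V (i.hom.toNatTrans.app (Over.mk a)) (a ≫ c) (G.map toId ≫ φ.hom)⟩

/-- Surjective functors that are flat and locally of finite presentation lift objects fppf locally. -/
theorem locSurjObj_of_flat_lfp (h𝒵 : IsAlgStack Scheme.fppfPrecoverage 𝒵)
    (h𝒴 : IsAlgStack Scheme.fppfPrecoverage 𝒴) {g : 𝒵 ⥤ᵇ 𝒴} (h₁ : LocQ (AlgSp.LocP @Flat) g)
    (h₂ : LocQ (AlgSp.LocP @LocallyOfFinitePresentation) g) (h₃ : IsSurjective g) :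
    Gerb.LocSurjObj Jf g := by
  refine locSurjObj_of_exists_fppf h𝒴.isStack.1 g fun U y => ?_
  have hU := isAlgStack_overCat U
  have hfp := isAlgStack_fp hU h𝒵 h𝒴 y g
  have hid : RepByAlgSpWith (AlgSp.LocP @Smooth) (overMap (𝟙 U)) :=
    repWith_mono (fun _ _ _ _ h => Groth.L23.locP_of_repWith Groth.L23.etLocal_smooth h)
      (repWith_overMap (R := @Smooth) (show Smooth (𝟙 U.left) from inferInstance))
  obtain ⟨V, ℓ, h, hℓ, hℓs, ⟨j⟩, -, ⟨α⟩, -⟩ := exists_chart hfp hU (FibCat.fpFst y g) (overMap (𝟙 U)) hid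
  have hflat : Flat h.left := prop_of_locP_map (prop_of_chart isSmoothLocalST_flat hfp.isStack.1 hU.isStack.1
    (locQ_fpFst isSmoothLocalST_flat (pBase_locP Groth.L23.etLocal_flat) h𝒵 h𝒴 hU y h₁) hid hℓ j)
  have hlfp : LocallyOfFinitePresentation h.left := prop_of_locP_map (prop_of_chart isSmoothLocalST_lfp
    hfp.isStack.1 hU.isStack.1
    (locQ_fpFst isSmoothLocalST_lfp (pBase_locP Groth.L23.etLocal_lfp) h𝒵 h𝒴 hU y h₂) hid hℓ j)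
  have hs := surjective_chart hU.isStack.1 hfp.isStack.1
    (isSurjective_fpFst h𝒵.isStack.1 h𝒴.isStack.1 hU.isStack.1 y h₃) hℓs j
  obtain ⟨β⟩ := exists_overMap_comp h (𝟙 U)
  rw [Category.comp_id] at β
  let x := BasedFunctor.comp ℓ (FibCat.fpFst (FibCat.fpFst y g) (overMap (𝟙 U)))
  exact ⟨V, h, BasedFunctor.comp x (FibCat.fpSnd y g), hflat, hlfp, ⟨hs⟩,
    ⟨whiskerL x (FibCat.fpIso y g).symm ≪≫ whiskerR (α ≪≫ β) y⟩⟩

theorem locSurjObj_of_smooth (h𝒵 : IsAlgStack Scheme.fppfPrecoverage 𝒵)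
    (h𝒴 : IsAlgStack Scheme.fppfPrecoverage 𝒴) {g : 𝒵 ⥤ᵇ 𝒴} (h : RepByAlgSpWith (AlgSp.LocP @Smooth) g)
    (hs : RepByAlgSpWith AlgSp.IsSurjectiveMor g) : Gerb.LocSurjObj Jf g :=
  locSurjObj_of_flat_lfp h𝒵 h𝒴
    (locQ_of_repWith_locP Groth.L23.etLocal_flat h𝒵 h𝒴 (repWith_mono (fun _ _ _ _ h' => Groth.L23.locP_mono
      (fun φ (hφ : Smooth φ) => have := hφ; (inferInstance : Flat φ)) h') h))
    (locQ_of_repWith_locP Groth.L23.etLocal_lfp h𝒵 h𝒴 (repWith_mono (fun _ _ _ _ h' => Groth.L23.locP_mono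
      (fun φ (hφ : Smooth φ) => have := hφ; (inferInstance : LocallyOfFinitePresentation φ)) h') h))
    (isSurjective_of_repWith h𝒵.isStack.1 h𝒴.isStack.1 hs)

/-- A map of schemes along which objects lift locally has a section over an fppf covering. -/
theorem exists_section_of_locSurjObj {U V : Over S} {h : U ⟶ V} (hh : Gerb.LocSurjObj Jf (overMap h)) :
    ∃ (T : Over S) (c : T ⟶ V) (d : T ⟶ U), Flat c.left ∧ LocallyOfFinitePresentation c.left ∧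
      Surjective c.left ∧ d ≫ h = c := by
  obtain ⟨R, hR, hR'⟩ := L09.Gerb.objAt hh (show (FibCat.overCat V).p.obj (idObj V) = V from rfl)
  refine exists_fppf_section h hR fun T e he => ?_
  obtain ⟨x, g, hg⟩ := hR' e he
  have hx : x.left = T := L09.Gerb.proj_obj (F := overMap h) g (f := e)
  have hge : g.left = eqToHom hx ≫ e := by
    have := IsHomLift.fac' (FibCat.overCat V).p e g
    change g.left = _ at this
    rw [this]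
    exact congrArg _ (Category.comp_id _)
  refine ⟨eqToHom hx.symm ≫ x.hom, ?_⟩
  have hw : g.left ≫ 𝟙 V = x.hom ≫ h := Over.w g
  calc (eqToHom hx.symm ≫ x.hom) ≫ h = eqToHom hx.symm ≫ (x.hom ≫ h) := Category.assoc _ _ _
    _ = eqToHom hx.symm ≫ g.left := congrArg _ (hw.symm.trans (Category.comp_id _))
    _ = eqToHom hx.symm ≫ eqToHom hx ≫ e := congrArg _ hge
    _ = e := by simp

/-- An fppf local lifting of a morphism from a scheme. -/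
theorem exists_fppf_lift (h𝒳 : IsAlgStack Scheme.fppfPrecoverage 𝒳) (h𝒴 : IsAlgStack Scheme.fppfPrecoverage 𝒴)
    {p : 𝒳 ⥤ᵇ 𝒴} (hp : Gerb.LocSurjObj Jf p) {W : Over S} (a : FibCat.overCat W ⥤ᵇ 𝒴) :
    ∃ (T : Over S) (c : T ⟶ W) (s : FibCat.overCat T ⥤ᵇ 𝒳), Flat c.left ∧
      LocallyOfFinitePresentation c.left ∧ Surjective c.left ∧
        Nonempty (BasedFunctor.comp s p ≅ BasedFunctor.comp (overMap c) a) := by
  have hW := isAlgStack_overCat W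
  have hfp := isAlgStack_fp hW h𝒳 h𝒴 a p
  obtain ⟨V, ℓ, hℓ, hℓs⟩ := hfp.atlas
  obtain ⟨h, ⟨i⟩, -⟩ := exists_overMap_iso (BasedFunctor.comp ℓ (FibCat.fpFst a p))
  obtain ⟨T, c, d, h₁, h₂, h₃, hd⟩ := exists_section_of_locSurjObj (locSurjObj_congr i (locSurjObj_comp
    (locSurjObj_of_smooth (isAlgStack_overCat V) hfp hℓ hℓs) (locSurjObj_fpFst h𝒴.isStack.1 hW.isStack.1 a hp)))
  subst hd
  obtain ⟨k⟩ := exists_overMap_comp d h
  exact ⟨T, d ≫ h, BasedFunctor.comp (BasedFunctor.comp (overMap d) ℓ) (FibCat.fpSnd a p), h₁, h₂, h₃,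
    ⟨whiskerL (BasedFunctor.comp (overMap d) ℓ) (FibCat.fpIso a p).symm ≪≫
      whiskerR (whiskerL (overMap d) i ≪≫ k) a⟩⟩

/-- A functor along which objects lift locally is surjective on points. -/
theorem isSurjective_of_locSurjObj (h𝒳 : FibCat.IsFibGrpd 𝒳.p) {g : 𝒳 ⥤ᵇ 𝒴} (hg : Gerb.LocSurjObj Jf g) :
    IsSurjective g := by
  intro z
  obtain ⟨q, rfl⟩ := Points.mk_surjective z
  obtain ⟨R, hR, hR'⟩ := L09.Gerb.objAt hg q.lies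
  obtain ⟨W, v, hv, -, -, hs⟩ := exists_cover_of_mem_J hR
  let t₀ : ↥(Spec (CommRingCat.of q.K)) := default
  obtain ⟨w, -⟩ := hs t₀
  obtain ⟨x, φ, hφ⟩ := hR' (v t₀) (hv t₀)
  have hx : 𝒳.p.obj x = W t₀ := L09.Gerb.proj_obj (F := g) φ (f := v t₀)
  obtain ⟨x', hx', ψ, -⟩ := exists_over h𝒳 hx
    (Over.homMk ((W t₀).left.fromSpecResidueField w) rfl :
      Over.mk ((W t₀).left.fromSpecResidueField w ≫ (W t₀).hom) ⟶ W t₀)
  exact ⟨Points.mk { K := _, str := _, obj := x', lies := hx' }, mk_eq_of_hom (g.map ψ ≫ φ)⟩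

end Groth.L09.Gerbe
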