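import Groth.Agent.L09.Gerbe.SecGlue
import Groth.Agent.L09.Gerbe.Band
import Groth.Prelude.Def_AlgSpGpd
import Groth.Agent.L24.St.StackSp

/-!
The sheaf of automorphisms of a section and its group law over the base.
-/

set_option autoImplicit false
set_option backward.isDefEq.respectTransparency false
set_option backward.isDefEq.respectTransparency.types false

universe u

open CategoryTheory Category Functor MonoidalCategory CartesianMonoidalCategory AlgebraicGeometry Opposite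

noncomputable section

namespace Groth.L09.Gerbe.Sec

variable {S : Scheme.{u}} {U : AlgSp.Sp S} {𝒳 : AlgSt.Cat S} (x : AlgSt.ofSp U ⥤ᵇ 𝒳)

/-- A point of the sheaf of automorphisms of the section. -/
structure GPt (T : Over S) : Type (u + 1) where
  /-- the point of the base -/
  s : U.obj.obj (op T)
  /-- the automorphism -/
  α : Gerb.AutO (ob x T s)

variable {x}

theorem aut_lift {T : Over S} {s : U.obj.obj (op T)} (α : Gerb.AutO (ob x T s)) :
    𝒳.p.IsHomLift (𝟙 T) α.hom.1 :=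
  Band.lift_id_of_eq (ob_p x T s) _ α.hom.2

/-- The automorphism of a point, at an equal point of the base. -/
def GPt.at {T : Over S} (p : GPt x T) (s : U.obj.obj (op T)) (h : p.s = s) : Gerb.AutO (ob x T s) :=
  h ▸ p.α

theorem GPt.eta {T : Over S} (p : GPt x T) (s : U.obj.obj (op T)) (h : p.s = s) : ⟨s, p.at s h⟩ = p := by
  subst h; rfl

theorem GPt.ext_at {T : Over S} {p q : GPt x T} (s : U.obj.obj (op T)) (hp : p.s = s) (hq : q.s = s)
    (h : p.at s hp = q.at s hq) : p = q := by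
  rw [← p.eta s hp, ← q.eta s hq, h]

/-- A point restricts to another along a map. -/
structure Rel {T T' : Over S} (k : T' ⟶ T) (p' : GPt x T') (p : GPt x T) : Prop where
  eq : U.obj.map k.op p.s = p'.s
  comm : p'.α.hom.1 ≫ xm x k eq = xm x k eq ≫ p.α.hom.1

theorem Rel.at {T T' : Over S} {k : T' ⟶ T} {p' : GPt x T'} {p : GPt x T} (h : Rel k p' p)
    {s : U.obj.obj (op T)} {s' : U.obj.obj (op T')} (hs : p.s = s) (hs' : p'.s = s')
    (e : U.obj.map k.op s = s') :
    (p'.at s' hs').hom.1 ≫ xm x k e = xm x k e ≫ (p.at s hs).hom.1 := by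
  subst hs; subst hs'; exact h.comm

theorem Rel.of_at {T T' : Over S} {k : T' ⟶ T} {p' : GPt x T'} {p : GPt x T}
    (s : U.obj.obj (op T)) (s' : U.obj.obj (op T')) (hs : p.s = s) (hs' : p'.s = s')
    (e : U.obj.map k.op s = s') (h : (p'.at s' hs').hom.1 ≫ xm x k e = xm x k e ≫ (p.at s hs).hom.1) :
    Rel k p' p := by
  subst hs; subst hs'; exact ⟨e, h⟩

variable (h𝒳 : FibCat.IsFibGrpd 𝒳.p)
include h𝒳

theorem Rel.unique {T T' : Over S} {k : T' ⟶ T} {p' q' : GPt x T'} {p : GPt x T} (h : Rel k p' p)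
    (h' : Rel k q' p) : p' = q' := by
  have hs : q'.s = p'.s := h'.eq.symm.trans h.eq
  refine GPt.ext_at p'.s rfl hs (Band.autO_ext h𝒳 (xm x k h.eq) ?_)
  exact (h.at rfl rfl h.eq).trans (h'.at rfl hs h.eq).symm

theorem exists_rel {T T' : Over S} (k : T' ⟶ T) (p : GPt x T) : ∃ p' : GPt x T', Rel k p' p := by
  obtain ⟨ρ, hρ⟩ := Band.exists_restr h𝒳 (xm x k (s := p.s) rfl) p.α
  exact ⟨⟨U.obj.map k.op p.s, ρ⟩, rfl, hρ⟩

/-- Restriction of points. -/
def GPt.res {T T' : Over S} (k : T' ⟶ T) (p : GPt x T) : GPt x T' := (exists_rel h𝒳 k p).choose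

theorem rel_res {T T' : Over S} (k : T' ⟶ T) (p : GPt x T) : Rel k (p.res h𝒳 k) p :=
  (exists_rel h𝒳 k p).choose_spec

omit h𝒳 in
theorem Rel.refl {T : Over S} (p : GPt x T) : Rel (𝟙 T) p p :=
  ⟨by simp, by rw [xm_id, id_comp, comp_id]⟩

omit h𝒳 in
theorem Rel.trans {T T' T'' : Over S} {k : T' ⟶ T} {l : T'' ⟶ T'} {p'' : GPt x T''} {p' : GPt x T'}
    {p : GPt x T} (h' : Rel l p'' p') (h : Rel k p' p) : Rel (l ≫ k) p'' p := by
  have e : U.obj.map (l ≫ k).op p.s = p''.s := by rw [op_comp, Functor.map_comp_apply, h.eq, h'.eq]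
  refine ⟨e, ?_⟩
  rw [← xm_comp x h.eq h'.eq rfl e, reassoc_of% h'.comm, h.comm, assoc]

/-- The presheaf of automorphisms of the section. -/
def gPsh : AlgSp.PSp S where
  obj T := GPt x T.unop
  map k := ↾fun p => p.res h𝒳 k.unop
  map_id T := by
    ext p
    exact Rel.unique h𝒳 (rel_res h𝒳 _ p) (Rel.refl p)
  map_comp k l := by
    ext p
    exact Rel.unique h𝒳 (rel_res h𝒳 _ p) ((rel_res h𝒳 l.unop _).trans (rel_res h𝒳 k.unop p))

theorem gPsh_s {T T' : Over S} (k : T' ⟶ T) (p : GPt x T) : U.obj.map k.op p.s = (p.res h𝒳 k).s :=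
  (rel_res h𝒳 k p).eq

omit h𝒳

variable (h𝒳s : Stk.IsStack (AlgSp.J S) 𝒳)

theorem isSheaf_gPsh : Presieve.IsSheaf (AlgSp.J S) (gPsh (x := x) h𝒳s.1) := by
  intro T R hR fam hcompat
  have hc : ∀ ⦃T'' T' : Over S⦄ (k : T'' ⟶ T') (g : T' ⟶ T) (hg : R g),
      Rel k (fam (k ≫ g) (R.downward_closed hg k)) (fam g hg) := fun T'' T' k g hg => by
    have e := hcompat.to_sieveCompatible g k hg
    rw [e]
    exact rel_res h𝒳s.1 k (fam g hg)
  have hU := (isSheaf_iff_isSheaf_of_type _ _).1 U.property R hR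
  obtain ⟨s, hs, hs'⟩ := hU (fun T' g hg => (fam g hg).s) (by
    rw [Presieve.compatible_iff_sieveCompatible]
    exact fun T' T'' g k hg => (hc k g hg).eq.symm)
  let m : ∀ ⦃T' : Over S⦄ (g : T' ⟶ T), R g → (ob x T' (U.obj.map g.op s) ⟶ ob x T s) := fun T' g hg =>
    ((fam g hg).at (U.obj.map g.op s) (hs g hg).symm).hom.1 ≫ xm x g rfl
  obtain ⟨μ, hμ, hμ'⟩ := exists_glue (x := x) h𝒳s s (b := ob x T s) (eqToHom (ob_p x T s).symm) hR m
    (fun T' g hg => by
      have := xm_lift x g (s := s) rfl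
      have := aut_lift ((fam g hg).at (U.obj.map g.op s) (hs g hg).symm)
      have h1 : 𝒳.p.IsHomLift g (m g hg) := IsHomLift.comp_lift_id_left' 𝒳.p T' _ g _
      exact (IsHomLift.lift_comp_eqToHom_iff 𝒳.p g (m g hg) (ob_p x T s).symm).2 h1)
    (fun T'' T' k g g' hg hg' e => by
      subst e
      have e1 : U.obj.map k.op (U.obj.map g.op s) = U.obj.map (k ≫ g).op s := by
        rw [op_comp, Functor.map_comp_apply]
      have h2 := (hc k g hg).at (hs g hg).symm (hs (k ≫ g) hg').symm e1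
      simp only [m]
      rw [← assoc, ← h2, assoc, xm_comp x rfl e1 rfl rfl])
  have hμT : 𝒳.p.IsHomLift (𝟙 T) μ := by
    have h1 : 𝒳.p.IsHomLift (𝟙 T ≫ eqToHom (ob_p x T s).symm) μ := by rwa [id_comp]
    exact (IsHomLift.lift_comp_eqToHom_iff 𝒳.p (𝟙 T) μ (ob_p x T s).symm).1 h1
  obtain ⟨α, hα⟩ := Groth.L09.Gerb.exists_autO h𝒳s.1 μ (V := T)
  refine ⟨⟨s, α⟩, fun T' g hg => ?_, fun q hq => ?_⟩
  · exact (Rel.unique h𝒳s.1 (Rel.of_at s (U.obj.map g.op s) rfl (hs g hg).symm rfl (by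
      show _ = xm x g rfl ≫ α.hom.1
      rw [hα, hμ' g hg])) (rel_res h𝒳s.1 g ⟨s, α⟩)).symm
  · have hqs : q.s = s := hs' q.s fun T' g hg =>
      (gPsh_s h𝒳s.1 g q).trans (congrArg GPt.s (hq g hg))
    refine GPt.ext_at s hqs rfl (Iso.ext (Functor.Fiber.hom_ext ?_))
    show (q.at s hqs).hom.1 = α.hom.1
    have hl₁ : 𝒳.p.IsHomLift (eqToHom (ob_p x T s).symm) (q.at s hqs).hom.1 := by
      have h1 := aut_lift (q.at s hqs)
      have := (IsHomLift.lift_comp_eqToHom_iff 𝒳.p (𝟙 T) _ (ob_p x T s).symm).2 h1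
      rwa [id_comp] at this
    rw [hα]
    refine hom_ext_locally h𝒳s (eqToHom (ob_p x T s).symm) hR _ _ fun T' g hg => ?_
    rw [hμ' g hg]
    have h2 := rel_res h𝒳s.1 g q
    rw [show q.res h𝒳s.1 g = fam g hg from hq g hg] at h2
    exact (h2.at hqs (hs g hg).symm rfl).symm

/-- The sheaf of automorphisms of the section. -/
def gSp : AlgSp.Sp S := ⟨gPsh (x := x) h𝒳s.1, (isSheaf_iff_isSheaf_of_type _ _).2 (isSheaf_gPsh h𝒳s)⟩

/-- Its map to the base. -/
def gHom : gSp (x := x) h𝒳s ⟶ U :=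
  ObjectProperty.homMk
    { app := fun _ => ↾fun p => p.s
      naturality := fun T T' k => by ext p; exact (gPsh_s h𝒳s.1 k.unop p).symm }

/-- The automorphisms of the section as an object over the base. -/
def gOver : Over U := Over.mk (gHom (x := x) h𝒳s)

variable {h𝒳s} {Z : Over U}

/-- The value of a point of the group at a point of its source. -/
def val (a : Z ⟶ gOver (x := x) h𝒳s) {T : Over S} (v : Z.left.obj.obj (op T)) : GPt x T :=
  a.left.hom.app (op T) v

theorem val_s (a : Z ⟶ gOver (x := x) h𝒳s) {T : Over S} (v : Z.left.obj.obj (op T)) :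
    (val a v).s = Z.hom.hom.app (op T) v :=
  congrArg (fun t => t.hom.app (op T) v) (Over.w a)

/-- The automorphism given by a point of the group. -/
def valAt (a : Z ⟶ gOver (x := x) h𝒳s) {T : Over S} (v : Z.left.obj.obj (op T)) :
    Gerb.AutO (ob x T (Z.hom.hom.app (op T) v)) :=
  (val a v).at _ (val_s a v)

theorem sec_natural (Z : Over U) {T T' : Over S} (k : T' ⟶ T) (v : Z.left.obj.obj (op T)) :
    U.obj.map k.op (Z.hom.hom.app (op T) v) = Z.hom.hom.app (op T') (Z.left.obj.map k.op v) :=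
  (NatTrans.naturality_apply Z.hom.hom k.op v).symm

theorem valAt_natural (a : Z ⟶ gOver (x := x) h𝒳s) {T T' : Over S} (k : T' ⟶ T) (v : Z.left.obj.obj (op T)) :
    (valAt a (Z.left.obj.map k.op v)).hom.1 ≫ xm x k (sec_natural Z k v) =
      xm x k (sec_natural Z k v) ≫ (valAt a v).hom.1 := by
  refine Rel.at ?_ _ _ _
  rw [show val a (Z.left.obj.map k.op v) = (val a v).res h𝒳s.1 k from NatTrans.naturality_apply a.left.hom k.op v]
  exact rel_res h𝒳s.1 k _

theorem valAt_comp {Z' : Over U} (f : Z' ⟶ Z) (a : Z ⟶ gOver (x := x) h𝒳s) {T : Over S}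
    (v : Z'.left.obj.obj (op T)) :
    (⟨_, valAt (f ≫ a) v⟩ : GPt x T) = ⟨_, valAt a (f.left.hom.app (op T) v)⟩ := by
  rw [valAt, valAt, GPt.eta, GPt.eta]
  rfl

theorem val_ext {a b : Z ⟶ gOver (x := x) h𝒳s}
    (h : ∀ (T : Over S) (v : Z.left.obj.obj (op T)), valAt a v = valAt b v) : a = b := by
  ext1
  apply ObjectProperty.hom_ext
  ext T v
  exact GPt.ext_at _ (val_s a v) (val_s b v) (h T.unop v)

/-- A point of the group from automorphisms. -/
def ofVal (γ : ∀ (T : Over S) (v : Z.left.obj.obj (op T)), Gerb.AutO (ob x T (Z.hom.hom.app (op T) v)))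
    (hγ : ∀ (T T' : Over S) (k : T' ⟶ T) (v : Z.left.obj.obj (op T)),
      (γ T' (Z.left.obj.map k.op v)).hom.1 ≫ xm x k (sec_natural Z k v) =
        xm x k (sec_natural Z k v) ≫ (γ T v).hom.1) : Z ⟶ gOver (x := x) h𝒳s :=
  Over.homMk (ObjectProperty.homMk
    { app := fun T => ↾fun v => (⟨_, γ T.unop v⟩ : GPt x T.unop)
      naturality := fun T T' k => by
        ext v
        have h : Rel k.unop (⟨_, γ T'.unop (Z.left.obj.map k v)⟩ : GPt x T'.unop) ⟨_, γ T.unop v⟩ :=
          ⟨sec_natural Z k.unop v, hγ T.unop T'.unop k.unop v⟩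
        exact Rel.unique h𝒳s.1 h (rel_res h𝒳s.1 k.unop _) })
    rfl

theorem valAt_ofVal (γ : ∀ (T : Over S) (v : Z.left.obj.obj (op T)), Gerb.AutO (ob x T (Z.hom.hom.app (op T) v)))
    (hγ) {T : Over S} (v : Z.left.obj.obj (op T)) : valAt (ofVal (h𝒳s := h𝒳s) γ hγ) v = γ T v := rfl

/-- The product of two points of the group. -/
def mulHom (a b : Z ⟶ gOver (x := x) h𝒳s) : Z ⟶ gOver (x := x) h𝒳s :=
  ofVal (fun T v => valAt a v * valAt b v) fun T T' k v => by
    show ((valAt b _).hom.1 ≫ (valAt a _).hom.1) ≫ _ = _ ≫ (valAt b v).hom.1 ≫ (valAt a v).hom.1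
    rw [assoc, valAt_natural, reassoc_of% (valAt_natural b k v)]

/-- The trivial point of the group. -/
def oneHom : Z ⟶ gOver (x := x) h𝒳s :=
  ofVal (fun T v => 1) fun T T' k v => (id_comp _).trans (comp_id _).symm

/-- The inverse of a point of the group. -/
def invHom (a : Z ⟶ gOver (x := x) h𝒳s) : Z ⟶ gOver (x := x) h𝒳s :=
  ofVal (fun T v => (valAt a v)⁻¹) fun T T' k v => by
    show (valAt a _).inv.1 ≫ _ = _ ≫ (valAt a v).inv.1
    have h1 : (valAt a v).hom.1 ≫ (valAt a v).inv.1 = 𝟙 _ := congrArg Subtype.val (valAt a v).hom_inv_id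
    have h2 : (valAt a (Z.left.obj.map k.op v)).inv.1 ≫ (valAt a (Z.left.obj.map k.op v)).hom.1 = 𝟙 _ :=
      congrArg Subtype.val (valAt a _).inv_hom_id
    calc (valAt a _).inv.1 ≫ xm x k (sec_natural Z k v)
        = (valAt a _).inv.1 ≫ (xm x k (sec_natural Z k v) ≫ (valAt a v).hom.1) ≫ (valAt a v).inv.1 := by
          rw [assoc, h1, comp_id]
      _ = _ := by rw [← valAt_natural, assoc, reassoc_of% h2]

theorem at_cast {T : Over S} (p : GPt x T) (s s' : U.obj.obj (op T)) (h : p.s = s) (e : s = s') :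
    p.at s' (h.trans e) = (e ▸ p.at s h : Gerb.AutO (ob x T s')) := by subst e; rfl

theorem valAt_comp' {Z' : Over U} (f : Z' ⟶ Z) (a : Z ⟶ gOver (x := x) h𝒳s) {T : Over S}
    (v : Z'.left.obj.obj (op T)) (e : Z.hom.hom.app (op T) (f.left.hom.app (op T) v) = Z'.hom.hom.app (op T) v) :
    valAt (f ≫ a) v = (e ▸ valAt a (f.left.hom.app (op T) v) : Gerb.AutO (ob x T _)) :=
  at_cast _ _ _ (val_s a _) e

theorem valAt_mulHom (a b : Z ⟶ gOver (x := x) h𝒳s) {T : Over S} (v : Z.left.obj.obj (op T)) :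
    valAt (mulHom a b) v = valAt a v * valAt b v := rfl

theorem valAt_oneHom {T : Over S} (v : Z.left.obj.obj (op T)) :
    valAt (oneHom : Z ⟶ gOver (x := x) h𝒳s) v = 1 := rfl

theorem valAt_invHom (a : Z ⟶ gOver (x := x) h𝒳s) {T : Over S} (v : Z.left.obj.obj (op T)) :
    valAt (invHom a) v = (valAt a v)⁻¹ := rfl

theorem at_mul {T : Over S} (s s' : U.obj.obj (op T)) (e : s = s') (α β : Gerb.AutO (ob x T s)) :
    (e ▸ (α * β) : Gerb.AutO (ob x T s')) = (e ▸ α) * (e ▸ β) := by subst e; rfl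

theorem comp_mulHom {Z' : Over U} (f : Z' ⟶ Z) (a b : Z ⟶ gOver (x := x) h𝒳s) :
    f ≫ mulHom a b = mulHom (f ≫ a) (f ≫ b) := by
  refine val_ext fun T v => ?_
  have e : Z.hom.hom.app (op T) (f.left.hom.app (op T) v) = Z'.hom.hom.app (op T) v :=
    congrArg (fun t => t.hom.app (op T) v) (Over.w f)
  rw [valAt_comp' f _ v e, valAt_mulHom, valAt_mulHom, valAt_comp' f a v e, valAt_comp' f b v e]
  exact at_mul _ _ e _ _

theorem comp_oneHom {Z' : Over U} (f : Z' ⟶ Z) : f ≫ (oneHom : Z ⟶ gOver (x := x) h𝒳s) = oneHom := by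
  refine val_ext fun T v => ?_
  have key : ∀ (s s' : U.obj.obj (op T)) (e : s = s'), (e ▸ (1 : Gerb.AutO (ob x T s)) : Gerb.AutO (ob x T s')) = 1 := by
    intro s s' e; subst e; rfl
  exact key _ _ _

theorem comp_invHom {Z' : Over U} (f : Z' ⟶ Z) (a : Z ⟶ gOver (x := x) h𝒳s) :
    f ≫ invHom a = invHom (f ≫ a) := by
  refine val_ext fun T v => ?_
  have key : ∀ (s s' : U.obj.obj (op T)) (e : s = s') (α : Gerb.AutO (ob x T s)),
      (e ▸ α⁻¹ : Gerb.AutO (ob x T s')) = (e ▸ α)⁻¹ := by intro s s' e α; subst e; rfl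
  have e : Z.hom.hom.app (op T) (f.left.hom.app (op T) v) = Z'.hom.hom.app (op T) v :=
    congrArg (fun t => t.hom.app (op T) v) (Over.w f)
  rw [valAt_comp' f _ v e, valAt_invHom, valAt_invHom, valAt_comp' f a v e]
  exact key _ _ e _

/-- The group law on the automorphisms of the section. -/
abbrev gGrp : GrpObj (gOver (x := x) h𝒳s) where
  one := oneHom
  mul := mulHom (fst _ _) (snd _ _)
  one_mul := by
    rw [comp_mulHom, whiskerRight_fst, whiskerRight_snd, comp_oneHom]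
    exact val_ext fun T v => (one_mul _)
  mul_one := by
    rw [comp_mulHom, whiskerLeft_fst, whiskerLeft_snd, comp_oneHom]
    exact val_ext fun T v => (mul_one _)
  mul_assoc := by
    simp only [comp_mulHom, whiskerLeft_fst, whiskerLeft_snd, whiskerRight_fst, whiskerRight_snd,
      associator_hom_fst, associator_hom_snd_fst, associator_hom_snd_snd]
    exact val_ext fun T v => (mul_assoc _ _ _)
  inv := invHom (𝟙 _)
  left_inv := by
    rw [comp_mulHom, comp_oneHom, lift_fst, lift_snd]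
    exact val_ext fun T v => (inv_mul_cancel _)
  right_inv := by
    rw [comp_mulHom, comp_oneHom, lift_fst, lift_snd]
    exact val_ext fun T v => (mul_inv_cancel _)

end Groth.L09.Gerbe.Sec
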