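import Groth.Agent.L09.Gerbe.SecFun
import Groth.Agent.L09.StkLift
import Groth.Agent.L09.GerbFull
import Groth.Agent.L24.Tors.Points
import Groth.Agent.L24.Tors.StackProof
import Groth.Prelude.Def_W4stkstmgerbesQuotBase

/-!
The functor to the classifying stack of the automorphisms of a section is an equivalence.
-/

set_option autoImplicit false
set_option backward.isDefEq.respectTransparency false
set_option backward.isDefEq.respectTransparency.types false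

universe u

open CategoryTheory Category Functor MonoidalCategory CartesianMonoidalCategory AlgebraicGeometry Opposite

noncomputable section

namespace Groth.L09.Gerbe.Sec

open Groth.L24.St

variable {S : Scheme.{u}} {U : AlgSp.Sp S} {𝒳 : AlgSt.Cat S} {x : AlgSt.ofSp U ⥤ᵇ 𝒳}
  {h𝒳s : Stk.IsStack (AlgSp.J S) 𝒳} {π : 𝒳 ⥤ᵇ AlgSt.ofSp U}
  (e : BasedFunctor.comp x π ≅ BasedFunctor.id (AlgSt.ofSp U)) (hx : Gerb.LocSurjObj (AlgSp.J S) x)

theorem faithful_torsFun : (torsFun x h𝒳s e hx).toFunctor.Faithful := ⟨fun {z z' m m'} h => by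
  have hp : 𝒳.p.map m = 𝒳.p.map m' := congrArg (fun t => t.base) h
  have htop : ∀ {T : Over S} (q : Pt x z T), q.φ ≫ m = q.φ ≫ m' := fun {T} q => by
    have h1 : Pt.push q m = Pt.push q m' := congrArg (fun t => t.top.left.hom.app (op T) q) h
    have key : ∀ (r : Pt x z' T) (e : r = q.push m') (h : r.s = q.s), r.at q.s h = q.φ ≫ m' := by
      rintro r rfl h; exact rfl
    exact key _ h1 rfl
  obtain ⟨R, hR, hR'⟩ := exists_points (x := x) e hx z
  have : 𝒳.p.IsHomLift (𝒳.p.map m) m' := by rw [hp]; infer_instance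
  obtain ⟨χ, hχ, hχ'⟩ := Groth.L09.Gerb.connect h𝒳s.1 (𝒳.p.map m) m m'
  have : (Stk.resSieve R 𝒳).IsEquivalence := h𝒳s.2 R hR
  suffices χ.hom = 𝟙 z by rw [← hχ', this, id_comp]
  refine Groth.L09.Stk.eq_of_locally h𝒳s.1 (R := R) inferInstance χ.hom (𝟙 z) fun T f hf => ?_
  obtain ⟨q, hq⟩ := hR' f hf
  have hl := q.lift_φ
  rw [hq] at hl
  refine ⟨_, q.φ, hl, ?_⟩
  rw [comp_id]
  have : 𝒳.p.IsHomLift f (q.φ ≫ χ.hom) := IsHomLift.comp_lift_id_right 𝒳.p f _ _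
  have := Fib.stronglyCartesian_of_isFibGrpd 𝒳.p h𝒳s.1 (𝒳.p.map m) m'
  refine IsStronglyCartesian.ext 𝒳.p (𝒳.p.map m) m' f ?_
  rw [assoc, hχ']
  exact htop q⟩

include e in
theorem sec_ob_eq {T : Over S} (s : U.obj.obj (op T)) :
    U.obj.map (eqToHom (ob_p x T s)).op s = secAt π (ob x T s) := by
  have h := congrArg (fun t => U.obj.map (eqToHom (ob_p x T s)).op t) (secAt_ob e s)
  simp only [map_eqToHom_trans] at h
  exact h.symm.trans (by simp)

/-- The identity point of a value of the section. -/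
def idPt {T : Over S} (s : U.obj.obj (op T)) : Pt x (ob x T s) (𝒳.p.obj (ob x T s)) :=
  ⟨secAt π (ob x T s), xm x (eqToHom (ob_p x T s)) (sec_ob_eq e s)⟩

theorem idPt_base {T : Over S} (s : U.obj.obj (op T)) : (idPt e s).base = 𝟙 _ := by
  show eqToHom (ob_p x (𝒳.p.obj (ob x T s)) (secAt π (ob x T s))).symm ≫ 𝒳.p.map (xm x (eqToHom (ob_p x T s)) (sec_ob_eq e s)) = _
  rw [p_xm]
  simp

theorem idPt_push {T : Over S} (s : U.obj.obj (op T)) {z : 𝒳.obj} (g : ob x T s ⟶ z) :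
    (idPt e s).push g = (⟨s, g⟩ : Pt x z T).res (eqToHom (ob_p x T s)) := by
  refine Pt.ext_at (secAt π (ob x T s)) rfl (sec_ob_eq e s) ?_
  rw [Pt.res_at _ _ rfl (sec_ob_eq e s) _]
  rfl

/-- The identity section of the torsor of a value of the section. -/
def idSec {T : Over S} (s : U.obj.obj (op T)) :
    (AlgSp.yon S).obj (𝒳.p.obj (ob x T s)) ⟶ pSp x h𝒳s (ob x T s) :=
  ((AlgSp.J S).uliftYonedaEquiv).symm (idPt e s)

theorem idSec_π {T : Over S} (s : U.obj.obj (op T)) :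
    idSec (h𝒳s := h𝒳s) e s ≫ ((torsFun x h𝒳s e hx).obj (ob x T s)).π.left = 𝟙 _ := by
  apply ObjectProperty.hom_ext
  ext T' k
  obtain ⟨k⟩ := k
  show ULift.up ((idPt e s).res k).base = ULift.up k
  rw [Pt.res_base, idPt_base]
  exact congrArg ULift.up (comp_id k)

theorem locSurjHom_torsFun : Gerb.LocSurjHom (AlgSp.J S) (torsFun x h𝒳s e hx) := by
  intro z z' b hb
  have hbb : ∃ he : 𝒳.p.obj z = 𝒳.p.obj z', b.base = eqToHom he := by
    refine ⟨(IsHomLift.codomain_eq (AlgSt.SpBG Scheme.fppfPrecoverage (gOver (x := x) h𝒳s)).p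
      (𝟙 (𝒳.p.obj z)) b).symm, ?_⟩
    have h1 := IsHomLift.fac' (AlgSt.SpBG Scheme.fppfPrecoverage (gOver (x := x) h𝒳s)).p (𝟙 (𝒳.p.obj z)) b
    change b.base = _ at h1
    rw [h1]
    simp
  obtain ⟨he, hbb⟩ := hbb
  obtain ⟨R, hR, hR'⟩ := exists_points (x := x) e hx z
  refine ⟨R, hR, fun T f hf => ?_⟩
  obtain ⟨⟨s, g⟩, hp⟩ := hR' f hf
  let ψ : Pt x z' T := b.top.left.hom.app (op T) (⟨s, g⟩ : Pt x z T)
  have hψs : ψ.s = s := congrArg (fun t => t.hom.app (op T) (⟨s, g⟩ : Pt x z T)) (Over.w b.top)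
  have hψb : ψ.base = f ≫ eqToHom he := by
    have := congrArg (fun t => (t.left.hom.app (op T) (⟨s, g⟩ : Pt x z T))) b.cart.w
    change ULift.up ψ.base = ULift.up ((⟨s, g⟩ : Pt x z T).base ≫ b.base) at this
    refine (congrArg ULift.down this).trans ?_
    show (⟨s, g⟩ : Pt x z T).base ≫ b.base = f ≫ eqToHom he
    rw [hbb, hp]
  have hg : 𝒳.p.IsHomLift f g := by
    have := (⟨s, g⟩ : Pt x z T).lift_φ
    rwa [hp] at this
  have hg' : 𝒳.p.IsHomLift f (ψ.at s hψs) := by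
    have := Pt.lift_at ψ s hψs
    rw [hψb] at this
    exact (IsHomLift.lift_comp_eqToHom_iff 𝒳.p f _ he).1 this
  refine ⟨ob x T s, g, ψ.at s hψs, hg, hg', ?_⟩
  refine Groth.L24.Tors.hom_eq_of_section (idSec (h𝒳s := h𝒳s) e s) (idSec_π e hx s) ?_ ?_
  · show 𝒳.p.map g ≫ b.base = 𝒳.p.map (ψ.at s hψs)
    rw [hbb, IsHomLift.fac' 𝒳.p f g, IsHomLift.fac' 𝒳.p f (ψ.at s hψs)]
    simp
  · apply ((AlgSp.J S).uliftYonedaEquiv).injective
    show b.top.left.hom.app (op _) (((idPt e s).res (𝟙 _)).push g) = ((idPt e s).res (𝟙 _)).push (ψ.at s hψs)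
    have hid : (idPt e s).res (𝟙 (𝒳.p.obj (ob x T s))) = idPt e s :=
      Functor.map_id_apply (pPsh x (ob x T s)) _ (idPt e s)
    rw [hid, idPt_push, idPt_push]
    rw [show (⟨s, ψ.at s hψs⟩ : Pt x z' T) = ψ from ψ.eta s hψs]
    exact NatTrans.naturality_apply b.top.left.hom (eqToHom (ob_p x T s)).op (⟨s, g⟩ : Pt x z T)

theorem hom_terminal_subsingleton (Y : Over U) : Subsingleton (Y ⟶ 𝟙_ (Over U)) := ⟨fun a b => toUnit_unique a b⟩

theorem isEquivOver_torsFun : FibCat.IsEquivOver (torsFun x h𝒳s e hx) := by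
  have := faithful_torsFun (h𝒳s := h𝒳s) e hx
  have h𝒯 := Groth.L24.Tors.isStack_spQuotSt (G := gOver (x := x) h𝒳s)
    (aX := AlgSt.trivGAction (gOver (x := x) h𝒳s))
  have := Groth.L09.Gerb.full_of_faithful_locSurjHom h𝒳s h𝒯 (torsFun x h𝒳s e hx) (locSurjHom_torsFun e hx)
  refine Groth.L09.Stk.isEquivOver_of_locally (AlgSp.J S) h𝒳s h𝒯 (torsFun x h𝒳s e hx) fun A => ?_
  obtain ⟨R₀, hR₀, hsec⟩ := A.loc
  have hmem : (Sieve.overEquiv A.base).symm (Sieve.generate R₀) ∈ AlgSp.J S A.base := by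
    exact (GrothendieckTopology.mem_over_iff _ _).2 (((Sieve.overEquiv A.base).apply_symm_apply
      (Sieve.generate R₀)).symm ▸ Precoverage.generate_mem_toGrothendieck hR₀)
  refine ⟨(Sieve.overEquiv A.base).symm (Sieve.generate R₀), hmem, fun T (f : T ⟶ A.base) hf => ?_⟩
  obtain ⟨T'', k, f', hf', hkf⟩ := (Sieve.overEquiv_symm_iff (Y := A.base) (Sieve.generate R₀) f).1 hf
  obtain ⟨s₁, hs₁⟩ := hsec f' hf'
  let j : T ⟶ Over.mk (f' ≫ A.base.hom) := Over.homMk k (by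
    show k ≫ f' ≫ A.base.hom = T.hom
    rw [← assoc, hkf, Over.w f])
  let v : (AlgSp.yon S).obj T ⟶ A.P.left := (AlgSp.yon S).map j ≫ s₁
  have hv : v ≫ A.π.left = (AlgSp.yon S).map f := by
    show ((AlgSp.yon S).map j ≫ s₁) ≫ A.π.left = _
    rw [assoc, hs₁, ← Functor.map_comp]
    exact congrArg _ (Over.OverMorphism.ext hkf)
  let s : U.obj.obj (op T) := ((AlgSp.J S).uliftYonedaEquiv) ((AlgSp.yon S).map f ≫ A.b)
  let k₀ : 𝒳.p.obj (ob x T s) ⟶ A.base := eqToHom (ob_p x T s) ≫ f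
  have hv' : ((AlgSp.yon S).map (eqToHom (ob_p x T s)) ≫ v) ≫ A.π.left = (AlgSp.yon S).map k₀ := by
    rw [assoc, hv, ← Functor.map_comp]
  have wb : (AlgSp.yon S).map k₀ ≫ A.b = bHomSec π (ob x T s) := by
    rw [Functor.map_comp, assoc, bHomSec, ← sec_ob_eq e s]
    have := GrothendieckTopology.uliftYonedaEquiv_symm_map.{u + 1} (AlgSp.J S) (eqToHom (ob_p x T s)).op (F := U) s
    rw [this]
    congr 1
    exact (((AlgSp.J S).uliftYonedaEquiv).symm_apply_apply _).symm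
  obtain ⟨h, hbase, -⟩ := Groth.L24.Tors.exists_hom_of_point (C := (torsFun x h𝒳s e hx).obj (ob x T s)) (A := A)
    (fun Y => hom_terminal_subsingleton Y) (idSec (h𝒳s := h𝒳s) e s) (idSec_π e hx s) k₀ wb
    ((AlgSp.yon S).map (eqToHom (ob_p x T s)) ≫ v) hv'
  refine ⟨ob x T s, h, IsHomLift.of_fac' _ _ _ (ob_p x T s) rfl ?_⟩
  show h.base = _
  rw [hbase]
  simp [k₀]

theorem torsFun_toBase :
    Nonempty (BasedFunctor.comp (torsFun x h𝒳s e hx)
      (W4stkstmgerbes.spQuotToBase Scheme.fppfPrecoverage (gOver (x := x) h𝒳s)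
        (AlgSt.trivGAction (gOver (x := x) h𝒳s))) ≅ π) := by
  refine ⟨isoOfSecAt fun z => ?_⟩
  show U.obj.map (eqToHom (rfl : 𝒳.p.obj z = 𝒳.p.obj z)).op (U.obj.map (𝟙 (𝒳.p.obj z)).op (secAt π z)) = secAt π z
  simp

include e hx in
/-- A stack with a section, along which objects are locally isomorphic, is a classifying stack. -/
theorem exists_spBG_equiv : ∃ c : AlgSt.SpBG Scheme.fppfPrecoverage (gOver (x := x) h𝒳s) ⥤ᵇ 𝒳,
    FibCat.IsEquivOver c ∧ Nonempty (BasedFunctor.comp c π ≅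
      W4stkstmgerbes.spQuotToBase Scheme.fppfPrecoverage (gOver (x := x) h𝒳s)
        (AlgSt.trivGAction (gOver (x := x) h𝒳s))) := by
  obtain ⟨c, hc, -, ⟨i⟩⟩ := exists_inverse (isEquivOver_torsFun (h𝒳s := h𝒳s) e hx)
  obtain ⟨j⟩ := torsFun_toBase (h𝒳s := h𝒳s) e hx
  exact ⟨c, hc, ⟨(whiskerL c j).symm ≪≫ Groth.L09.Stk.compRightIso i
    (W4stkstmgerbes.spQuotToBase Scheme.fppfPrecoverage (gOver (x := x) h𝒳s)
      (AlgSt.trivGAction (gOver (x := x) h𝒳s)))⟩⟩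

end Groth.L09.Gerbe.Sec
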