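import Groth.Agent.L09.Gerbe.SecTors

/-!
The functor to the classifying stack of the automorphisms of a section.
-/

set_option autoImplicit false
set_option backward.isDefEq.respectTransparency false
set_option backward.isDefEq.respectTransparency.types false

universe u

open CategoryTheory Category Functor MonoidalCategory CartesianMonoidalCategory AlgebraicGeometry Opposite

noncomputable section

namespace Groth.L09.Gerbe.Sec

open Groth.L24.St

variable {S : Scheme.{u}} {U : AlgSp.Sp S} {𝒳 : AlgSt.Cat S} {x : AlgSt.ofSp U ⥤ᵇ 𝒳}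
  {h𝒳s : Stk.IsStack (AlgSp.J S) 𝒳} {z z' : 𝒳.obj} {Z Z' : Over U}

theorem pvalAt_ofPVal (γ : ∀ (T : Over S) (v : Z.left.obj.obj (op T)), ob x T (Z.hom.hom.app (op T) v) ⟶ z) (hγ)
    {T : Over S} (v : Z.left.obj.obj (op T)) : pvalAt (ofPVal (h𝒳s := h𝒳s) γ hγ) v = γ T v := rfl

theorem pat_cast {T : Over S} (p : Pt x z T) (s s' : U.obj.obj (op T)) (h : p.s = s) (e : s = s') :
    p.at s' (h.trans e) = (e ▸ p.at s h : ob x T s' ⟶ z) := by subst e; rfl

theorem pvalAt_comp (f : Z' ⟶ Z) (q : Z ⟶ pOver x h𝒳s z) {T : Over S} (v : Z'.left.obj.obj (op T))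
    (e : Z.hom.hom.app (op T) (f.left.hom.app (op T) v) = Z'.hom.hom.app (op T) v) :
    pvalAt (f ≫ q) v = (e ▸ pvalAt q (f.left.hom.app (op T) v) : ob x T _ ⟶ z) :=
  pat_cast _ _ _ (pval_s q _) e

theorem app_hom (f : Z' ⟶ Z) {T : Over S} (v : Z'.left.obj.obj (op T)) :
    Z.hom.hom.app (op T) (f.left.hom.app (op T) v) = Z'.hom.hom.app (op T) v :=
  congrArg (fun t => t.hom.app (op T) v) (Over.w f)

/-- A point of the group applied to a point of the total sheaf. -/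
def smul (a : Z ⟶ gOver (x := x) h𝒳s) (q : Z ⟶ pOver x h𝒳s z) : Z ⟶ pOver x h𝒳s z :=
  ofPVal (fun T v => (valAt a v).inv.1 ≫ pvalAt q v) fun T T' k v => by
    rw [pvalAt_natural, ← assoc, ← assoc]
    congr 1
    show (valAt a (Z.left.obj.map k.op v)).inv.1 ≫ _ = _
    have h := valAt_natural (invHom a) k v
    rw [valAt_invHom, valAt_invHom] at h
    exact h

theorem pvalAt_smul (a : Z ⟶ gOver (x := x) h𝒳s) (q : Z ⟶ pOver x h𝒳s z) {T : Over S}
    (v : Z.left.obj.obj (op T)) : pvalAt (smul a q) v = (valAt a v).inv.1 ≫ pvalAt q v := rfl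

theorem comp_smul (f : Z' ⟶ Z) (a : Z ⟶ gOver (x := x) h𝒳s) (q : Z ⟶ pOver x h𝒳s z) :
    f ≫ smul a q = smul (f ≫ a) (f ≫ q) := by
  refine pval_ext fun T v => ?_
  have key : ∀ (s s' : U.obj.obj (op T)) (e : s = s') (α : Gerb.AutO (ob x T s)) (φ : ob x T s ⟶ z),
      (e ▸ (α.inv.1 ≫ φ) : ob x T s' ⟶ z) = (e ▸ α : Gerb.AutO (ob x T s')).inv.1 ≫ (e ▸ φ : ob x T s' ⟶ z) := by
    intro s s' e α φ; subst e; rfl
  rw [pvalAt_comp f _ v (app_hom f v), pvalAt_smul, pvalAt_smul, pvalAt_comp f q v (app_hom f v),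
    valAt_comp' f a v (app_hom f v)]
  exact key _ _ (app_hom f v) _ _

variable (x h𝒳s)

/-- The group of automorphisms of the section as a group object. -/
scoped instance gGrpInst : GrpObj (gOver (x := x) h𝒳s) := gGrp

variable {x h𝒳s}

theorem smul_one (q : Z ⟶ pOver x h𝒳s z) : smul oneHom q = q :=
  pval_ext fun T v => id_comp _

theorem smul_mul (a b : Z ⟶ gOver (x := x) h𝒳s) (q : Z ⟶ pOver x h𝒳s z) :
    smul (mulHom a b) q = smul a (smul b q) :=
  pval_ext fun T v => assoc (valAt a v).inv.1 (valAt b v).inv.1 (pvalAt q v)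

/-- The action on the total sheaf. -/
def gAct (z : 𝒳.obj) : AlgSp.GAction (gOver (x := x) h𝒳s) (pOver x h𝒳s z) where
  act := smul (fst _ _) (snd _ _)
  one_act := by
    rw [comp_smul, whiskerRight_fst, whiskerRight_snd]
    show smul (fst _ _ ≫ oneHom) _ = _
    rw [comp_oneHom, smul_one]
    rfl
  mul_act := by
    simp only [comp_smul, whiskerRight_fst, whiskerRight_snd, whiskerLeft_fst, whiskerLeft_snd,
      associator_hom_fst, associator_hom_snd_fst, associator_hom_snd_snd]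
    show smul (fst _ _ ≫ mulHom (fst _ _) (snd _ _)) _ = _
    rw [comp_mulHom, smul_mul]

theorem comp_gAct (a : Z ⟶ gOver (x := x) h𝒳s) (q : Z ⟶ pOver x h𝒳s z) :
    lift a q ≫ (gAct z).act = smul a q := by
  show lift a q ≫ smul (fst _ _) (snd _ _) = _
  rw [comp_smul, lift_fst, lift_snd]

variable {π : 𝒳 ⥤ᵇ AlgSt.ofSp U} (e : BasedFunctor.comp x π ≅ BasedFunctor.id (AlgSt.ofSp U))

theorem pProj_app (q : Z ⟶ pOver x h𝒳s z) {T : Over S} (v : Z.left.obj.obj (op T)) :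
    (q ≫ pProj x h𝒳s e z).left.hom.app (op T) v = ⟨(pval q v).base⟩ := rfl

theorem pvalAt_lift (q : Z ⟶ pOver x h𝒳s z) {T : Over S} (v : Z.left.obj.obj (op T)) :
    𝒳.p.IsHomLift (pval q v).base (pvalAt q v) :=
  Pt.lift_at (pval q v) _ (pval_s q v)

theorem pval_smul_base (a : Z ⟶ gOver (x := x) h𝒳s) (q : Z ⟶ pOver x h𝒳s z) {T : Over S}
    (v : Z.left.obj.obj (op T)) : (pval (smul a q) v).base = (pval q v).base := by
  have h1 := pvalAt_lift q v
  have h2 : 𝒳.p.IsHomLift (𝟙 T) (valAt a v).inv.1 := Band.lift_id_of_eq (ob_p x T _) _ (valAt a v).inv.2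
  have : 𝒳.p.IsHomLift (pval q v).base (pval (smul a q) v).φ :=
    IsHomLift.comp_lift_id_left' 𝒳.p T (valAt a v).inv.1 (pval q v).base (pvalAt q v)
  exact Pt.base_eq _ _

include e in
theorem smul_proj (a : Z ⟶ gOver (x := x) h𝒳s) (q : Z ⟶ pOver x h𝒳s z) :
    smul a q ≫ pProj x h𝒳s e z = q ≫ pProj x h𝒳s e z := by
  ext1
  apply ObjectProperty.hom_ext
  ext T v
  exact congrArg ULift.up (pval_smul_base a q v)

theorem valAt_inj {a b : Z ⟶ gOver (x := x) h𝒳s} {q : Z ⟶ pOver x h𝒳s z} (h : smul a q = smul b q) : a = b := by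
  refine val_ext fun T v => ?_
  have h' : (valAt a v).inv.1 ≫ pvalAt q v = (valAt b v).inv.1 ≫ pvalAt q v :=
    congrArg (fun r => pvalAt r v) h
  exact inv_injective (Band.autO_ext h𝒳s.1 (a := (valAt a v)⁻¹) (b := (valAt b v)⁻¹) (pvalAt q v) h')

include e in
theorem exists_smul (p q : Z ⟶ pOver x h𝒳s z) (h : p ≫ pProj x h𝒳s e z = q ≫ pProj x h𝒳s e z) :
    ∃ a : Z ⟶ gOver (x := x) h𝒳s, smul a q = p := by
  have hb : ∀ (T : Over S) (v : Z.left.obj.obj (op T)), (pval p v).base = (pval q v).base := fun T v =>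
    congrArg ULift.down (congrArg (fun r => r.left.hom.app (op T) v) h)
  have key : ∀ (T : Over S) (v : Z.left.obj.obj (op T)),
      ∃ α : Gerb.AutO (ob x T (Z.hom.hom.app (op T) v)), α.inv.1 ≫ pvalAt q v = pvalAt p v := by
    intro T v
    have h1 := pvalAt_lift p v
    have h2 := pvalAt_lift q v
    rw [← hb T v] at h2
    obtain ⟨χ, hχ, hχ'⟩ := Groth.L09.Gerb.connect h𝒳s.1 (pval p v).base (pvalAt p v) (pvalAt q v)
    obtain ⟨β, hβ⟩ := Groth.L09.Gerb.exists_autO h𝒳s.1 χ.hom (V := T)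
    exact ⟨β⁻¹, (congrArg (· ≫ pvalAt q v) hβ).trans hχ'⟩
  choose γ hγ using key
  refine ⟨ofVal γ fun T T' k v => ?_, pval_ext fun T v => hγ T v⟩
  obtain ⟨ρ, hρ⟩ := Band.exists_restr h𝒳s.1 (xm x k (sec_natural Z k v)) (γ T v)
  suffices γ T' (Z.left.obj.map k.op v) = ρ by rw [this]; exact hρ
  refine inv_injective (Band.autO_ext h𝒳s.1 (a := (γ T' (Z.left.obj.map k.op v))⁻¹) (b := ρ⁻¹)
    (pvalAt q (Z.left.obj.map k.op v)) ?_)
  show (γ T' (Z.left.obj.map k.op v)).inv.1 ≫ _ = ρ.inv.1 ≫ _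
  have e1 : ρ.inv.1 ≫ ρ.hom.1 = 𝟙 _ := congrArg Subtype.val ρ.inv_hom_id
  have e2 : (γ T v).hom.1 ≫ (γ T v).inv.1 = 𝟙 _ := congrArg Subtype.val (γ T v).hom_inv_id
  have hρ' : ρ.inv.1 ≫ xm x k (sec_natural Z k v) = xm x k (sec_natural Z k v) ≫ (γ T v).inv.1 :=
    calc ρ.inv.1 ≫ xm x k (sec_natural Z k v)
        = ρ.inv.1 ≫ (xm x k (sec_natural Z k v) ≫ (γ T v).hom.1) ≫ (γ T v).inv.1 := by rw [assoc, e2, comp_id]
      _ = _ := by rw [← hρ, assoc, reassoc_of% e1]
  rw [hγ, pvalAt_natural, pvalAt_natural, ← assoc, hρ', assoc, hγ]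

include e in
theorem isPullback_gAct (z : 𝒳.obj) :
    IsPullback (gAct (x := x) (h𝒳s := h𝒳s) z).act (snd _ _) (pProj x h𝒳s e z) (pProj x h𝒳s e z) := by
  have w : (gAct (x := x) (h𝒳s := h𝒳s) z).act ≫ pProj x h𝒳s e z = snd _ _ ≫ pProj x h𝒳s e z := smul_proj e _ _
  refine ⟨⟨w⟩, ⟨Limits.PullbackCone.IsLimit.mk w
    (fun c => lift (exists_smul e c.fst c.snd c.condition).choose c.snd)
    (fun c => (comp_gAct _ _).trans (exists_smul e c.fst c.snd c.condition).choose_spec)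
    (fun c => lift_snd _ _) (fun c m h1 h2 => ?_)⟩⟩
  apply CartesianMonoidalCategory.hom_ext
  · rw [lift_fst]
    refine valAt_inj (q := c.snd) ?_
    rw [(exists_smul e c.fst c.snd c.condition).choose_spec, ← h1, ← comp_gAct]
    congr 1
    exact CartesianMonoidalCategory.hom_ext _ _ (lift_fst _ _) ((lift_snd _ _).trans h2.symm)
  · rw [lift_snd, h2]

include e in
theorem bHomSec_natural (m : z ⟶ z') :
    (AlgSp.yon S).map (𝒳.p.map m) ≫ bHomSec π z' = bHomSec π z := by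
  apply ObjectProperty.hom_ext
  ext T f
  obtain ⟨f⟩ := f
  show U.obj.map (f ≫ 𝒳.p.map m).op (secAt π z') = U.obj.map f.op (secAt π z)
  rw [op_comp, Functor.map_comp_apply, secAt_natural π m]

/-- Points pushed along a morphism. -/
def pushHom (m : z ⟶ z') : pOver x h𝒳s z ⟶ pOver x h𝒳s z' :=
  Over.homMk (ObjectProperty.homMk
    { app := fun _ => ↾fun p => Pt.push p m
      naturality := fun T T' k => by
        ext p
        exact Pt.ext_at _ rfl rfl (assoc _ _ _) })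
    rfl

theorem pvalAt_push (q : Z ⟶ pOver x h𝒳s z) (m : z ⟶ z') {T : Over S} (v : Z.left.obj.obj (op T)) :
    pvalAt (q ≫ pushHom m) v = pvalAt q v ≫ m :=
  Pt.push_at (pval q v) m (pval_s q v)

theorem smul_push (a : Z ⟶ gOver (x := x) h𝒳s) (q : Z ⟶ pOver x h𝒳s z) (m : z ⟶ z') :
    smul a q ≫ pushHom m = smul a (q ≫ pushHom m) :=
  pval_ext fun T v => by rw [pvalAt_push, pvalAt_smul, pvalAt_smul, pvalAt_push, assoc]

include e in
theorem isPullback_push (m : z ⟶ z') :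
    IsPullback (pushHom (x := x) (h𝒳s := h𝒳s) m) (pProj x h𝒳s e z) (pProj x h𝒳s e z')
      (AlgSt.bHom (𝒳.p.map m) (bHomSec_natural e m)) := by
  have w : pushHom (x := x) (h𝒳s := h𝒳s) m ≫ pProj x h𝒳s e z' =
      pProj x h𝒳s e z ≫ AlgSt.bHom (𝒳.p.map m) (bHomSec_natural e m) := by
    ext1
    apply ObjectProperty.hom_ext
    ext T p
    exact congrArg ULift.up (Pt.push_base p m)
  have uniq : ∀ {W : Over U} (p q : W ⟶ pOver x h𝒳s z), p ≫ pushHom m = q ≫ pushHom m →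
      p ≫ pProj x h𝒳s e z = q ≫ pProj x h𝒳s e z → p = q := by
    intro W p q h1 h2
    refine pval_ext fun T v => ?_
    have e1 := congrArg (fun r => pvalAt r v) h1
    simp only [pvalAt_push] at e1
    have e2 : (pval p v).base = (pval q v).base :=
      congrArg ULift.down (congrArg (fun r => r.left.hom.app (op T) v) h2)
    have hp := pvalAt_lift p v
    have hq := pvalAt_lift q v
    rw [← e2] at hq
    have := Fib.stronglyCartesian_of_isFibGrpd 𝒳.p h𝒳s.1 (𝒳.p.map m) m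
    exact IsStronglyCartesian.ext 𝒳.p (𝒳.p.map m) m (pval p v).base e1
  have exi : ∀ {W : Over U} (r : W ⟶ pOver x h𝒳s z') (f : W ⟶ Over.mk (bHomSec π z)),
      r ≫ pProj x h𝒳s e z' = f ≫ AlgSt.bHom (𝒳.p.map m) (bHomSec_natural e m) →
      ∃ p : W ⟶ pOver x h𝒳s z, p ≫ pushHom m = r ∧ p ≫ pProj x h𝒳s e z = f := by
    intro W r f h
    have := Fib.stronglyCartesian_of_isFibGrpd 𝒳.p h𝒳s.1 (𝒳.p.map m) m
    let fv : ∀ {T : Over S}, W.left.obj.obj (op T) → (T ⟶ 𝒳.p.obj z) := fun {T} v =>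
      ((f.left.hom.app (op T) v).down : T ⟶ 𝒳.p.obj z)
    have hb : ∀ (T : Over S) (v : W.left.obj.obj (op T)), (pval r v).base = fv v ≫ 𝒳.p.map m :=
      fun T v => congrArg ULift.down (congrArg (fun r => r.left.hom.app (op T) v) h)
    have key : ∀ (T : Over S) (v : W.left.obj.obj (op T)), ∃ φ : ob x T (W.hom.hom.app (op T) v) ⟶ z,
        𝒳.p.IsHomLift (fv v) φ ∧ φ ≫ m = pvalAt r v := by
      intro T v
      have hr := pvalAt_lift r v
      rw [hb T v] at hr
      exact ⟨IsStronglyCartesian.map 𝒳.p (𝒳.p.map m) m (rfl : fv v ≫ 𝒳.p.map m = _) (pvalAt r v),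
        inferInstance, IsStronglyCartesian.fac 𝒳.p (𝒳.p.map m) m _ _⟩
    choose γ hγl hγ using key
    have hfv : ∀ (T T' : Over S) (k : T' ⟶ T) (v : W.left.obj.obj (op T)),
        fv (W.left.obj.map k.op v) = k ≫ fv v := fun T T' k v =>
      congrArg ULift.down (NatTrans.naturality_apply f.left.hom k.op v)
    let p : W ⟶ pOver x h𝒳s z := ofPVal γ fun T T' k v => by
      have h1 := hγl T' (W.left.obj.map k.op v)
      rw [hfv T T' k v] at h1
      have h2 := hγl T v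
      have h3 := xm_lift x k (sec_natural W k v)
      refine IsStronglyCartesian.ext 𝒳.p (𝒳.p.map m) m (k ≫ fv v) ?_
      rw [hγ, pvalAt_natural, assoc, hγ]
    refine ⟨p, pval_ext fun T v => (pvalAt_push p m v).trans (hγ T v), ?_⟩
    ext1
    apply ObjectProperty.hom_ext
    ext T v
    have : 𝒳.p.IsHomLift (fv v) (pval p v).φ := hγl T.unop v
    show ULift.up (pval p v).base = _
    exact congrArg ULift.up (Pt.base_eq (pval p v) (fv v))
  exact ⟨⟨w⟩, ⟨Limits.PullbackCone.IsLimit.mk w (fun c => (exi c.fst c.snd c.condition).choose)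
    (fun c => (exi c.fst c.snd c.condition).choose_spec.1) (fun c => (exi c.fst c.snd c.condition).choose_spec.2)
    (fun c q h1 h2 => uniq _ _ (h1.trans (exi c.fst c.snd c.condition).choose_spec.1.symm)
      (h2.trans (exi c.fst c.snd c.condition).choose_spec.2.symm))⟩⟩

variable (hx : Gerb.LocSurjObj (AlgSp.J S) x)

include e hx in
theorem exists_points (z : 𝒳.obj) : ∃ R ∈ AlgSp.J S (𝒳.p.obj z), ∀ ⦃T : Over S⦄ (f : T ⟶ 𝒳.p.obj z), R f →
    ∃ p : Pt x z T, p.base = f := by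
  obtain ⟨R, hR, hR'⟩ := hx z
  refine ⟨R, hR, fun T f hf => ?_⟩
  obtain ⟨⟨T₀, s⟩, g, hg⟩ := hR' f hf
  obtain rfl : T₀ = T := Groth.L09.Gerb.proj_obj (F := x) g (f := f)
  exact ⟨⟨s, g⟩, Pt.base_eq (⟨s, g⟩ : Pt x z T₀) f⟩

include e hx in
theorem hasSecLoc (z : 𝒳.obj) : AlgSt.HasSecLoc Scheme.fppfPrecoverage (pProj x h𝒳s e z).left := by
  obtain ⟨R, hR, hR'⟩ := exists_points e hx z
  obtain ⟨W, v, hv, hfl, hfp, hs⟩ := exists_cover_of_mem_J hR
  refine ⟨Presieve.ofArrows (fun i => (W i).left) (fun i => (v i).left),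
    (Scheme.ofArrows_mem_precoverage_iff _).2 ⟨fun t => ⟨t, hs t⟩, fun i => ⟨hfl i, hfp i⟩⟩, ?_⟩
  rintro T' f ⟨i⟩
  let j : Over.mk ((v i).left ≫ (𝒳.p.obj z).hom) ⟶ W i := Over.homMk (𝟙 _) (by simp)
  let g : Over.mk ((v i).left ≫ (𝒳.p.obj z).hom) ⟶ 𝒳.p.obj z := Over.homMk (v i).left
  have hg : R g := by
    have : j ≫ v i = g := Over.OverMorphism.ext (Category.id_comp _)
    rw [← this]
    exact R.downward_closed (hv i) _
  obtain ⟨p, hp⟩ := hR' g hg
  refine ⟨((AlgSp.J S).uliftYonedaEquiv).symm p, ?_⟩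
  apply ObjectProperty.hom_ext
  ext T k
  obtain ⟨k⟩ := k
  show ULift.up (p.res k).base = ULift.up (k ≫ g)
  rw [Pt.res_base, hp]

variable (x h𝒳s)

/-- The torsor of an object. -/
def torsObj (z : 𝒳.obj) :
    AlgSt.SpQuotObj Scheme.fppfPrecoverage (gOver (x := x) h𝒳s) (AlgSt.trivGAction (gOver (x := x) h𝒳s)) where
  base := 𝒳.p.obj z
  b := bHomSec π z
  P := pOver x h𝒳s z
  act := gAct z
  π := pProj x h𝒳s e z
  cart := isPullback_gAct e z
  loc := hasSecLoc e hx z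
  φ := toUnit _
  eqv := toUnit_unique _ _

/-- The functor to the classifying stack. -/
def torsFun : 𝒳 ⥤ᵇ AlgSt.SpBG Scheme.fppfPrecoverage (gOver (x := x) h𝒳s) where
  toFunctor :=
    { obj := torsObj x h𝒳s e hx
      map := fun {z z'} m =>
        { base := 𝒳.p.map m
          wb := bHomSec_natural e m
          top := pushHom m
          eqv := by
            show smul (fst _ _) (snd _ _) ≫ pushHom m = (_ ◁ pushHom m) ≫ smul (fst _ _) (snd _ _)
            rw [smul_push, comp_smul, whiskerLeft_fst, whiskerLeft_snd]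
          cart := isPullback_push e m
          wφ := toUnit_unique _ _ }
      map_id := fun z => AlgSt.SpQuotObj.hom_ext (𝒳.p.map_id z) (by
        show pushHom (𝟙 z) = 𝟙 _
        refine pval_ext (Z := pOver x h𝒳s z) fun T v => ?_
        rw [← Category.id_comp (pushHom (𝟙 z)), pvalAt_push, comp_id])
      map_comp := fun {z z' z''} m n => AlgSt.SpQuotObj.hom_ext (𝒳.p.map_comp m n) (by
        show pushHom (m ≫ n) = pushHom m ≫ pushHom n
        refine pval_ext (Z := pOver x h𝒳s z) fun T v => ?_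
        rw [pvalAt_push, ← Category.id_comp (pushHom (m ≫ n)), ← Category.id_comp (pushHom m), pvalAt_push,
          pvalAt_push, assoc]) }
  w := rfl

end Groth.L09.Gerbe.Sec
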