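import Groth.Prelude.Def_AlgSt2
import Groth.Agent.L09.GerbFull
import Groth.Agent.L24.St.OfPsh

/-!
Gluing morphisms out of the values of a section over a covering sieve.
-/

set_option autoImplicit false
set_option backward.isDefEq.respectTransparency false
set_option backward.isDefEq.respectTransparency.types false

universe v u

open CategoryTheory Category Functor AlgebraicGeometry Opposite

noncomputable section

namespace Groth.L09.Gerbe.Sec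

variable {C : Type u} [Category.{v} C] {J : GrothendieckTopology C} {F : Cᵒᵖ ⥤ Type (max u v)}
  {𝒳 : BasedCategory.{v, max u v} C} (x : Stk.ofPsh F ⥤ᵇ 𝒳)

/-- The value of the section at a point. -/
abbrev ob (T : C) (s : F.obj (op T)) : 𝒳.obj := x.obj ⟨T, s⟩

theorem ob_p (T : C) (s : F.obj (op T)) : 𝒳.p.obj (ob x T s) = T := x.w_obj _

/-- The transition maps of the section. -/
abbrev xm {T T' : C} (k : T' ⟶ T) {s : F.obj (op T)} {s' : F.obj (op T')} (h : F.map k.op s = s') :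
    ob x T' s' ⟶ ob x T s :=
  x.map (⟨k, h⟩ : (⟨T', s'⟩ : Stk.EltObj F) ⟶ ⟨T, s⟩)

theorem xm_lift {T T' : C} (k : T' ⟶ T) {s : F.obj (op T)} {s' : F.obj (op T')} (h : F.map k.op s = s') :
    𝒳.p.IsHomLift k (xm x k h) := by
  have : (Stk.ofPsh F).p.IsHomLift k (⟨k, h⟩ : (⟨T', s'⟩ : Stk.EltObj F) ⟶ ⟨T, s⟩) :=
    IsHomLift.map (Stk.EltObj.forget F) (⟨k, h⟩ : (⟨T', s'⟩ : Stk.EltObj F) ⟶ ⟨T, s⟩)
  infer_instance

theorem p_xm {T T' : C} (k : T' ⟶ T) {s : F.obj (op T)} {s' : F.obj (op T')} (h : F.map k.op s = s') :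
    𝒳.p.map (xm x k h) = eqToHom (ob_p x T' s') ≫ k ≫ eqToHom (ob_p x T s).symm := by
  have := xm_lift x k h
  exact IsHomLift.fac' 𝒳.p k (xm x k h)

theorem xm_comp {T T' T'' : C} {k : T' ⟶ T} {l : T'' ⟶ T'} {m : T'' ⟶ T} {s : F.obj (op T)}
    {s' : F.obj (op T')} {s'' : F.obj (op T'')} (h : F.map k.op s = s') (h' : F.map l.op s' = s'')
    (e : l ≫ k = m) (h'' : F.map m.op s = s'') : xm x l h' ≫ xm x k h = xm x m h'' :=
  (x.toFunctor.map_comp _ _).symm.trans (congrArg x.map (Stk.EltObj.hom_ext e))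

theorem xm_id {T : C} {s : F.obj (op T)} (h : F.map (𝟙 T : T ⟶ T).op s = s) : xm x (𝟙 T) h = 𝟙 _ :=
  (congrArg x.map (Stk.EltObj.hom_ext rfl)).trans (x.toFunctor.map_id _)

/-- A point, as a functor from the slice. -/
def ptFun {T : C} (s : F.obj (op T)) : FibCat.overCat T ⥤ᵇ Stk.ofPsh F where
  toFunctor :=
    { obj := fun g => ⟨g.left, F.map g.hom.op s⟩
      map := fun {g h} φ => ⟨φ.left, by
        show F.map φ.left.op (F.map h.hom.op s) = F.map g.hom.op s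
        rw [← Functor.map_comp_apply, ← op_comp, Over.w φ]⟩ }
  w := rfl

variable {x}

/-- A morphism out of a value of the section is determined locally. -/
theorem hom_ext_locally (h𝒳 : Stk.IsStack J 𝒳) {T : C} {s : F.obj (op T)} {b : 𝒳.obj} (f : T ⟶ 𝒳.p.obj b)
    {R : Sieve T} (hR : R ∈ J T) (μ μ' : ob x T s ⟶ b) [𝒳.p.IsHomLift f μ] [𝒳.p.IsHomLift f μ']
    (h : ∀ ⦃T' : C⦄ (g : T' ⟶ T), R g → xm x g rfl ≫ μ = xm x g rfl ≫ μ') : μ = μ' := by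
  obtain ⟨χ, hχ, hχ'⟩ := Groth.L09.Gerb.connect h𝒳.1 f μ μ'
  have : (Stk.resSieve R 𝒳).IsEquivalence := h𝒳.2 R hR
  have : 𝒳.p.IsHomLift (𝟙 T) (𝟙 (ob x T s)) := IsHomLift.id (ob_p x T s)
  suffices χ.hom = 𝟙 _ by rw [← hχ', this, id_comp]
  refine Groth.L09.Stk.eq_of_locally h𝒳.1 (R := R) inferInstance χ.hom (𝟙 _) fun T' g hg => ?_
  have := xm_lift x g (s := s) rfl
  refine ⟨_, xm x g rfl, this, ?_⟩
  rw [comp_id]
  have : 𝒳.p.IsHomLift g (xm x g (s := s) rfl ≫ χ.hom) := IsHomLift.comp_lift_id_right 𝒳.p g _ _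
  have := Fib.stronglyCartesian_of_isFibGrpd 𝒳.p h𝒳.1 f μ'
  refine IsStronglyCartesian.ext 𝒳.p f μ' g ?_
  rw [assoc, hχ']
  exact h g hg

/-- Morphisms out of the values of the section glue. -/
theorem exists_glue (h𝒳 : Stk.IsStack J 𝒳) {T : C} (s : F.obj (op T)) {b : 𝒳.obj} (f : T ⟶ 𝒳.p.obj b)
    {R : Sieve T} (hR : R ∈ J T) (m : ∀ ⦃T' : C⦄ (g : T' ⟶ T), R g → (ob x T' (F.map g.op s) ⟶ b))
    (hl : ∀ ⦃T' : C⦄ (g : T' ⟶ T) (hg : R g), 𝒳.p.IsHomLift (g ≫ f) (m g hg))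
    (hc : ∀ ⦃T'' T' : C⦄ (k : T'' ⟶ T') (g : T' ⟶ T) (g' : T'' ⟶ T) (hg : R g) (hg' : R g') (e : k ≫ g = g'),
      xm x k (by rw [← e, op_comp, Functor.map_comp_apply]) ≫ m g hg = m g' hg') :
    ∃ μ : ob x T s ⟶ b, 𝒳.p.IsHomLift f μ ∧ ∀ ⦃T' : C⦄ (g : T' ⟶ T) (hg : R g), xm x g rfl ≫ μ = m g hg := by
  have := Fib.isFibered_of_isFibGrpd _ h𝒳.1
  obtain ⟨b', πb, hπb⟩ := h𝒳.1.exists_lift f
  have hb' : 𝒳.p.obj b' = T := IsHomLift.domain_eq 𝒳.p f πb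
  let Gx : FibCat.overCat T ⥤ᵇ 𝒳 := BasedFunctor.comp (ptFun s) x
  let Gy : FibCat.overCat T ⥤ᵇ 𝒳 := Fib.ofObj hb'
  have hGy := Fib.preservesStronglyCartesian_of_isFibGrpd Gy h𝒳.1
  obtain ⟨ey⟩ := Fib.evalAtId_ofObj (U := T) (⟨b', hb'⟩ : 𝒳.p.Fiber T)
  have hey : 𝒳.p.IsHomLift (𝟙 T) ey.hom.1 := ey.hom.2
  let e₁ : Gy.obj (Over.mk (𝟙 T)) ⟶ b := ey.hom.1 ≫ πb
  have he₁ : 𝒳.p.IsHomLift f e₁ := IsHomLift.comp_lift_id_left' 𝒳.p T ey.hom.1 f πb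
  let py : ∀ c : Over T, Gy.obj c ⟶ b := fun c => Gy.map (Fib.toTerm c) ≫ e₁
  have hpy : ∀ c : Over T, 𝒳.p.IsHomLift (c.hom ≫ f) (py c) := fun c => by
    have := (Fib.map_toTerm_sc Gy hGy c).toIsHomLift
    show 𝒳.p.IsHomLift (c.hom ≫ f) (Gy.map (Fib.toTerm c) ≫ e₁)
    infer_instance
  have key : ∀ k : (Stk.sieveCat R).obj, ∃ χ : Gx.obj k.obj ⟶ Gy.obj k.obj,
      𝒳.p.IsHomLift (𝟙 k.obj.left) χ ∧ χ ≫ py k.obj = m k.obj.hom k.property := fun k => by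
    have := hpy k.obj
    have := hl k.obj.hom k.property
    obtain ⟨χ, h1, h2⟩ := Groth.L09.Gerb.connect h𝒳.1 (k.obj.hom ≫ f) (m k.obj.hom k.property) (py k.obj)
    exact ⟨χ.hom, h1, h2⟩
  choose χ hχ hχm using key
  let γ : (Stk.resSieve R 𝒳).obj Gx ⟶ (Stk.resSieve R 𝒳).obj Gy :=
    { app := χ
      naturality := fun k l n => by
        show Gx.map n.hom ≫ χ l = χ k ≫ Gy.map n.hom
        have := hpy l.obj
        have := hχ k
        have := hχ l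
        have hn : (FibCat.overCat T).p.IsHomLift n.hom.left n.hom := IsHomLift.map (Over.forget T) n.hom
        have := Fib.stronglyCartesian_of_isFibGrpd 𝒳.p h𝒳.1 (l.obj.hom ≫ f) (py l.obj)
        have : 𝒳.p.IsHomLift n.hom.left (Gx.map n.hom ≫ χ l) :=
          IsHomLift.comp_lift_id_right 𝒳.p n.hom.left _ _
        have : 𝒳.p.IsHomLift n.hom.left (χ k ≫ Gy.map n.hom) :=
          IsHomLift.comp_lift_id_left' 𝒳.p k.obj.left (χ k) n.hom.left _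
        refine IsStronglyCartesian.ext 𝒳.p (l.obj.hom ≫ f) (py l.obj) n.hom.left ?_
        have hy : Gy.map n.hom ≫ py l.obj = py k.obj :=
          (assoc _ _ _).symm.trans (congrArg (· ≫ e₁) ((Gy.toFunctor.map_comp _ _).symm.trans
            (congrArg Gy.map (Over.OverMorphism.ext (Over.w n.hom) : n.hom ≫ Fib.toTerm l.obj = Fib.toTerm k.obj))))
        rw [assoc, assoc, hy, hχm, hχm]
        exact hc n.hom.left l.obj.hom k.obj.hom l.property k.property (Over.w n.hom)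
      isHomLift' := hχ }
  haveI : (Stk.resSieve R 𝒳).IsEquivalence := h𝒳.2 R hR
  obtain ⟨t, ht⟩ := (Stk.resSieve R 𝒳).map_surjective γ
  let c₀ : Over T := Over.mk (𝟙 T)
  have h0 : F.map (𝟙 T : T ⟶ T).op (F.map (𝟙 T : T ⟶ T).op s) = s := by simp
  let μ : ob x T s ⟶ b := xm x (𝟙 T) h0 ≫ t.toNatTrans.app c₀ ≫ e₁
  have := xm_lift x (𝟙 T) h0
  have ht0 : 𝒳.p.IsHomLift (𝟙 T) (t.toNatTrans.app c₀) := t.isHomLift' c₀
  have : 𝒳.p.IsHomLift f (t.toNatTrans.app c₀ ≫ e₁) := IsHomLift.comp_lift_id_left' 𝒳.p T _ f e₁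
  refine ⟨μ, IsHomLift.comp_lift_id_left' 𝒳.p T (xm x (𝟙 T) h0) f _, fun T' g hg => ?_⟩
  let k : (Stk.sieveCat R).obj := ⟨Over.mk g, hg⟩
  have hk : t.toNatTrans.app k.obj = χ k := congrArg (fun t => t.toNatTrans.app k) ht
  have ex : xm x g rfl ≫ xm x (𝟙 T) h0 = Gx.map (Fib.toTerm k.obj) :=
    (x.toFunctor.map_comp _ _).symm.trans (congrArg x.map (Stk.EltObj.hom_ext (comp_id g)))
  calc xm x g rfl ≫ μ = (xm x g rfl ≫ xm x (𝟙 T) h0) ≫ t.toNatTrans.app c₀ ≫ e₁ := (assoc _ _ _).symm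
    _ = (Gx.map (Fib.toTerm k.obj) ≫ t.toNatTrans.app c₀) ≫ e₁ :=
        (congrArg (· ≫ t.toNatTrans.app c₀ ≫ e₁) ex).trans (assoc _ _ _).symm
    _ = (t.toNatTrans.app k.obj ≫ Gy.map (Fib.toTerm k.obj)) ≫ e₁ :=
        congrArg (· ≫ e₁) (t.toNatTrans.naturality (Fib.toTerm k.obj))
    _ = χ k ≫ py k.obj := (assoc _ _ _).trans (congrArg (· ≫ py k.obj) hk)
    _ = m g hg := hχm k

end Groth.L09.Gerbe.Sec
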