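import Groth.Agent.L09.Gerbe.SecEquiv
import Groth.Agent.L09.Gerbe.BGTransfer
import Groth.Agent.L24.Tors.SchemeTors
import Groth.Agent.L24.Tors.QuotTransfer
import Groth.Prelude.Def_StGerb2

/-!
A scheme representing the automorphisms of a section, as the group sheaf of automorphisms.
-/

set_option autoImplicit false
set_option backward.isDefEq.respectTransparency false
set_option backward.isDefEq.respectTransparency.types false

universe u

open CategoryTheory Category Functor MonoidalCategory CartesianMonoidalCategory MonObj AlgebraicGeometry Opposite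

noncomputable section

namespace Groth.L09.Gerbe.Sec

open Groth.L24.Tors

variable {S : Scheme.{u}} {𝒳 : AlgSt.Cat S} (x : FibCat.overCat (Over.mk (𝟙 S)) ⥤ᵇ 𝒳)
  (h𝒳s : Stk.IsStack (AlgSp.J S) 𝒳)

/-- The section as a functor from the sheaf of the base. -/
abbrev secSp : AlgSt.ofSp (one S) ⥤ᵇ 𝒳 := BasedFunctor.comp (AlgSt.toOverCat (Over.mk (𝟙 S))) x

variable {x} {G : Over S} [GrpObj G] (r : Gerb.AutRep x (Gerb.ptsGrp (Over.mk (𝟙 S)) G))

theorem one_left_eq {T : Over S} (s : (one S).obj.obj (op T)) : (s.down : T ⟶ Over.mk (𝟙 S)).left = T.hom :=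
  (comp_id _).symm.trans (Over.w (s.down : T ⟶ Over.mk (𝟙 S)))

/-- A map to the group scheme as a point over the base. -/
def schPt {T : Over S} (s : (one S).obj.obj (op T)) (k : T ⟶ G) :
    (Gerb.ptsGrp (Over.mk (𝟙 S)) G).obj (op (Over.mk (s.down : T ⟶ Over.mk (𝟙 S)))) :=
  Over.homMk (U := (Over.iteratedSliceForward (Over.mk (𝟙 S))).obj (Over.mk (s.down : T ⟶ Over.mk (𝟙 S)))) k.left
    ((Over.w k).trans (one_left_eq s).symm)

/-- A point over the base as a map to the group scheme. -/
def ptSch {T : Over S} (s : (one S).obj.obj (op T))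
    (q : (Gerb.ptsGrp (Over.mk (𝟙 S)) G).obj (op (Over.mk (s.down : T ⟶ Over.mk (𝟙 S))))) : T ⟶ G :=
  let q' : (Over.iteratedSliceForward (Over.mk (𝟙 S))).obj (Over.mk (s.down : T ⟶ Over.mk (𝟙 S))) ⟶ G := q
  Over.homMk q'.left ((Over.w q').trans (one_left_eq s))

theorem schPt_natural {T T' : Over S} (k : T' ⟶ T) (s : (one S).obj.obj (op T)) (s' : (one S).obj.obj (op T'))
    (e : (one S).obj.map k.op s = s') (f : T ⟶ G) :
    (Gerb.ptsGrp (Over.mk (𝟙 S)) G).map
      (Over.homMk k (congrArg ULift.down e) :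
        Over.mk (s'.down : T' ⟶ Over.mk (𝟙 S)) ⟶ Over.mk (s.down : T ⟶ Over.mk (𝟙 S))).op (schPt s f) =
      schPt s' (k ≫ f) :=
  Over.OverMorphism.ext rfl

theorem schPt_mul {T : Over S} (s : (one S).obj.obj (op T)) (f g : T ⟶ G) :
    schPt s (f * g) = schPt s f * schPt s g := by
  let i : (Over.iteratedSliceForward (Over.mk (𝟙 S))).obj (Over.mk (s.down : T ⟶ Over.mk (𝟙 S))) ⟶ T :=
    Over.homMk (𝟙 T.left) ((id_comp _).trans (one_left_eq s).symm)
  have h : ∀ f : T ⟶ G, schPt s f = i ≫ f := fun f => Over.OverMorphism.ext (id_comp _).symm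
  rw [h, h, h]
  exact MonObj.comp_mul i f g

/-- The point of the group of automorphisms given by the tautological point of the group scheme. -/
def repHom : (schSp S).obj G ⟶ gOver (x := secSp x) h𝒳s :=
  ofVal (fun T v => r.iso _ (schPt (((schSp S).obj G).hom.hom.app (op T) v) (v.down : T ⟶ G)))
    fun T T' k v => by
      have hn := r.natural (Over.homMk k (congrArg ULift.down (sec_natural ((schSp S).obj G) k v)) :
        Over.mk ((((schSp S).obj G).hom.hom.app (op T') (((schSp S).obj G).left.obj.map k.op v)).down :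
            T' ⟶ Over.mk (𝟙 S)) ⟶
          Over.mk ((((schSp S).obj G).hom.hom.app (op T) v).down : T ⟶ Over.mk (𝟙 S)))
        (schPt (((schSp S).obj G).hom.hom.app (op T) v) (v.down : T ⟶ G))
      rw [schPt_natural k _ _ (sec_natural ((schSp S).obj G) k v)] at hn
      exact hn

instance isIso_repHom : IsIso (repHom h𝒳s r) := by
  have : IsIso ((Over.forget (one S)).map (repHom h𝒳s r)) := by
    have : IsIso ((sheafToPresheaf _ _).map ((Over.forget (one S)).map (repHom h𝒳s r))) := by
      rw [NatTrans.isIso_iff_isIso_app]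
      intro T
      rw [CategoryTheory.isIso_iff_bijective]
      refine ⟨fun v v' h => ?_, fun p => ?_⟩
      · have key : ∀ (s s' : (one S).obj.obj T) (f f' : T.unop ⟶ G),
            (⟨s, r.iso _ (schPt s f)⟩ : GPt (secSp x) T.unop) = ⟨s', r.iso _ (schPt s' f')⟩ → f = f' := by
          intro s s' f f' h
          injection h with h1 h2
          subst h1
          exact Over.OverMorphism.ext (congrArg CommaMorphism.left ((r.iso _).injective (eq_of_heq h2)) :)
        exact congrArg ULift.up (key _ _ _ _ h)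
      · refine ⟨⟨ptSch (GPt.s p) ((r.iso _).symm (GPt.α p))⟩, ?_⟩
        refine GPt.ext_at (x := secSp x) (GPt.s p) (sec_one_subsingleton _ _) rfl ?_
        have key : ∀ (s : (one S).obj.obj T) (e : s = GPt.s p),
            (⟨s, r.iso _ (schPt s (ptSch (GPt.s p) ((r.iso _).symm (GPt.α p))))⟩ : GPt (secSp x) T.unop).at _ e =
              GPt.α p := by
          rintro s rfl
          show r.iso _ _ = _
          rw [show schPt (GPt.s p) (ptSch (GPt.s p) ((r.iso _).symm (GPt.α p))) = (r.iso _).symm (GPt.α p) from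
            Over.OverMorphism.ext rfl]
          exact (r.iso _).apply_symm_apply _
        exact key _ _
    exact isIso_of_reflects_iso _ (sheafToPresheaf _ _)
  exact isIso_of_reflects_iso _ (Over.forget (one S))

theorem repHom_map_mul {Y : Over S} (f g : Y ⟶ G) :
    (schSp S).map (f * g) ≫ repHom h𝒳s r =
      mulHom ((schSp S).map f ≫ repHom h𝒳s r) ((schSp S).map g ≫ repHom h𝒳s r) := by
  refine val_ext fun T v => ?_
  rw [valAt_mulHom]
  have key : ∀ (f : Y ⟶ G) (s : (one S).obj.obj (op T)) (hs : ((schSp S).obj Y).hom.hom.app (op T) v = s),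
      valAt ((schSp S).map f ≫ repHom h𝒳s r) v = hs.symm ▸ r.iso _ (schPt s ((v.down : T ⟶ Y) ≫ f)) := by
    intro f s hs
    subst hs
    refine (valAt_comp' ((schSp S).map f) (repHom h𝒳s r) v (app_hom _ v)).trans ?_
    have key2 : ∀ (w : ((schSp S).obj G).left.obj.obj (op T)) (s' : (one S).obj.obj (op T))
        (e : ((schSp S).obj G).hom.hom.app (op T) w = s') (k : T ⟶ G), w.down = k →
        (e ▸ valAt (repHom h𝒳s r) w : Gerb.AutO (ob (secSp x) T s')) = r.iso _ (schPt s' k) := by
      intro w s' e k hk; subst e; subst hk; rfl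
    exact key2 _ _ _ _ rfl
  rw [key (f * g) _ rfl, key f _ rfl, key g _ rfl, MonObj.comp_mul, schPt_mul, map_mul]

theorem repHom_mul : μ[(schSp S).obj G] ≫ repHom h𝒳s r =
    (repHom h𝒳s r ⊗ₘ repHom h𝒳s r) ≫ (gGrp (x := secSp x) (h𝒳s := h𝒳s)).mul := by
  show (Functor.LaxMonoidal.μ (schSp S) G G ≫ (schSp S).map μ[G]) ≫ repHom h𝒳s r =
    (repHom h𝒳s r ⊗ₘ repHom h𝒳s r) ≫ mulHom (fst _ _) (snd _ _)
  rw [comp_mulHom, tensorHom_fst, tensorHom_snd, ← cancel_epi (Functor.OplaxMonoidal.δ (schSp S) G G),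
    assoc, Functor.Monoidal.δ_μ_assoc, comp_mulHom]
  have h : μ[G] = fst G G * snd G G := by rw [Hom.mul_def, lift_fst_snd, id_comp]
  rw [h, repHom_map_mul]
  simp only [← assoc, Functor.OplaxMonoidal.δ_fst, Functor.OplaxMonoidal.δ_snd]

theorem repHom_one : η[(schSp S).obj G] ≫ repHom h𝒳s r = oneHom := by
  letI := gGrp (x := secSp x) (h𝒳s := h𝒳s)
  have h := repHom_mul h𝒳s r
  let a := η[(schSp S).obj G] ≫ repHom h𝒳s r
  have h1 : a * a = a := by
    rw [Hom.mul_def]
    show lift (η[(schSp S).obj G] ≫ repHom h𝒳s r) (η[(schSp S).obj G] ≫ repHom h𝒳s r) ≫ _ = a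
    rw [← lift_map, assoc]
    refine (congrArg (lift _ _ ≫ ·) h.symm).trans ?_
    rw [← assoc]
    refine congrArg (· ≫ repHom h𝒳s r) ?_
    have e : lift η[(schSp S).obj G] η[(schSp S).obj G] ≫ μ[(schSp S).obj G] =
        η[(schSp S).obj G] * η[(schSp S).obj G] := rfl
    rw [e]
    have e1 : (η[(schSp S).obj G] : _ ⟶ _) = 1 := by
      rw [Hom.one_def, toUnit_unique (toUnit (𝟙_ (Over (one S)))) (𝟙 _), id_comp]
    rw [e1, _root_.one_mul]
  have h2 : a = 1 := mul_left_cancel (h1.trans (_root_.mul_one a).symm)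
  exact h2.trans (val_ext fun T v => by
    rw [Hom.one_def]
    show valAt (toUnit _ ≫ oneHom) v = _
    rw [comp_oneHom])

end Groth.L09.Gerbe.Sec
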