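import Groth.Agent.L09.Gerbe.SecAut
import Groth.Agent.L09.Gerbe.Scheme
import Groth.Prelude.Def_AlgSt6

/-!
The torsor of morphisms out of a section, as a functor to the classifying stack.
-/

set_option autoImplicit false
set_option backward.isDefEq.respectTransparency false
set_option backward.isDefEq.respectTransparency.types false

universe u

open CategoryTheory Category Functor MonoidalCategory CartesianMonoidalCategory AlgebraicGeometry Opposite

noncomputable section

namespace Groth.L09.Gerbe.Sec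

open Groth.L24.St

variable {S : Scheme.{u}} {U : AlgSp.Sp S} {𝒳 : AlgSt.Cat S} (x : AlgSt.ofSp U ⥤ᵇ 𝒳)

/-- A morphism to an object out of a value of the section. -/
structure Pt (z : 𝒳.obj) (T : Over S) : Type (u + 1) where
  /-- the point of the base -/
  s : U.obj.obj (op T)
  /-- the morphism -/
  φ : ob x T s ⟶ z

variable {x} {z z' : 𝒳.obj}

/-- The morphism of base objects. -/
def Pt.base {T : Over S} (p : Pt x z T) : T ⟶ 𝒳.p.obj z := eqToHom (ob_p x T p.s).symm ≫ 𝒳.p.map p.φ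

theorem Pt.lift_φ {T : Over S} (p : Pt x z T) : 𝒳.p.IsHomLift p.base p.φ :=
  IsHomLift.of_fac' _ _ _ (ob_p x T p.s) rfl (by simp [Pt.base])

theorem Pt.base_eq {T : Over S} (p : Pt x z T) (f : T ⟶ 𝒳.p.obj z) [𝒳.p.IsHomLift f p.φ] : p.base = f := by
  have := IsHomLift.fac' 𝒳.p f p.φ
  rw [Pt.base, this]
  simp

/-- The morphism of a point, at an equal point of the base. -/
def Pt.at {T : Over S} (p : Pt x z T) (s : U.obj.obj (op T)) (h : p.s = s) : ob x T s ⟶ z := h ▸ p.φ

theorem Pt.eta {T : Over S} (p : Pt x z T) (s : U.obj.obj (op T)) (h : p.s = s) : ⟨s, p.at s h⟩ = p := by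
  subst h; rfl

theorem Pt.ext_at {T : Over S} {p q : Pt x z T} (s : U.obj.obj (op T)) (hp : p.s = s) (hq : q.s = s)
    (h : p.at s hp = q.at s hq) : p = q := by
  rw [← p.eta s hp, ← q.eta s hq, h]

theorem Pt.lift_at {T : Over S} (p : Pt x z T) (s : U.obj.obj (op T)) (h : p.s = s) :
    𝒳.p.IsHomLift p.base (p.at s h) := by
  subst h; exact p.lift_φ

/-- Restriction of points. -/
def Pt.res {T T' : Over S} (k : T' ⟶ T) (p : Pt x z T) : Pt x z T' := ⟨_, xm x k (s := p.s) rfl ≫ p.φ⟩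

theorem Pt.res_s {T T' : Over S} (k : T' ⟶ T) (p : Pt x z T) : (p.res k).s = U.obj.map k.op p.s := rfl

theorem Pt.res_base {T T' : Over S} (k : T' ⟶ T) (p : Pt x z T) : (p.res k).base = k ≫ p.base := by
  have := p.lift_φ
  have := xm_lift x k (s := p.s) rfl
  have : 𝒳.p.IsHomLift (k ≫ p.base) (p.res k).φ := show 𝒳.p.IsHomLift _ (xm x k (s := p.s) rfl ≫ p.φ) from inferInstance
  exact Pt.base_eq _ _

theorem Pt.res_at {T T' : Over S} (k : T' ⟶ T) (p : Pt x z T) {s : U.obj.obj (op T)} {s' : U.obj.obj (op T')}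
    (hs : p.s = s) (e : U.obj.map k.op s = s') (hs' : (p.res k).s = s') :
    (p.res k).at s' hs' = xm x k e ≫ p.at s hs := by
  subst hs; subst e; rfl

/-- A morphism out of an object acts on points. -/
def Pt.push {T : Over S} (p : Pt x z T) (m : z ⟶ z') : Pt x z' T := ⟨p.s, p.φ ≫ m⟩

theorem Pt.push_base {T : Over S} (p : Pt x z T) (m : z ⟶ z') : (p.push m).base = p.base ≫ 𝒳.p.map m := by
  simp [Pt.base, Pt.push]

theorem Pt.push_at {T : Over S} (p : Pt x z T) (m : z ⟶ z') {s : U.obj.obj (op T)} (h : p.s = s) :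
    (p.push m).at s h = p.at s h ≫ m := by
  subst h; rfl

variable (x) in
/-- The presheaf of morphisms out of the section. -/
def pPsh (z : 𝒳.obj) : AlgSp.PSp S where
  obj T := Pt x z T.unop
  map k := ↾fun p => p.res k.unop
  map_id T := by
    ext p
    have e : U.obj.map (𝟙 T.unop).op p.s = p.s := by simp
    refine Pt.ext_at p.s e rfl ?_
    show (p.res (𝟙 T.unop)).at p.s e = p.at p.s rfl
    rw [Pt.res_at (𝟙 T.unop) p rfl e, xm_id, id_comp]
  map_comp := fun {T₁ T₂ T₃} k l => by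
    ext p
    have e : U.obj.map (l.unop ≫ k.unop).op p.s = ((p.res k.unop).res l.unop).s := by
      rw [Pt.res_s, Pt.res_s, op_comp, Functor.map_comp_apply]
    refine Pt.ext_at _ e rfl ?_
    show (p.res (l.unop ≫ k.unop)).at _ e = ((p.res k.unop).res l.unop).φ
    rw [Pt.res_at (l.unop ≫ k.unop) p rfl e e]
    exact ((assoc _ _ _).symm.trans (congrArg (· ≫ p.φ) (xm_comp x rfl rfl rfl e))).symm

variable (h𝒳s : Stk.IsStack (AlgSp.J S) 𝒳)

include h𝒳s in
theorem isSheaf_pPsh (z : 𝒳.obj) : Presieve.IsSheaf (AlgSp.J S) (pPsh x z) := by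
  intro T R hR fam hcompat
  have hc : ∀ ⦃T'' T' : Over S⦄ (k : T'' ⟶ T') (g : T' ⟶ T) (hg : R g),
      fam (k ≫ g) (R.downward_closed hg k) = (fam g hg).res k := fun T'' T' k g hg =>
    hcompat.to_sieveCompatible g k hg
  obtain ⟨s, hs, hs'⟩ := (isSheaf_iff_isSheaf_of_type _ _).1 U.property R hR (fun T' g hg => (fam g hg).s) (by
    rw [Presieve.compatible_iff_sieveCompatible]
    exact fun T' T'' g k hg => congrArg Pt.s (hc k g hg))
  obtain ⟨f, hf, hf'⟩ := (isSheaf_iff_isSheaf_of_type _ _).1 ((AlgSp.yon S).obj (𝒳.p.obj z)).property R hR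
    (fun T' g hg => ⟨(fam g hg).base⟩) (by
    rw [Presieve.compatible_iff_sieveCompatible]
    exact fun T' T'' g k hg => congrArg ULift.up ((congrArg Pt.base (hc k g hg)).trans (Pt.res_base k _)))
  have hfg : ∀ ⦃T' : Over S⦄ (g : T' ⟶ T) (hg : R g), g ≫ f.down = (fam g hg).base := fun T' g hg =>
    congrArg ULift.down (hf g hg)
  let m : ∀ ⦃T' : Over S⦄ (g : T' ⟶ T), R g → (ob x T' (U.obj.map g.op s) ⟶ z) := fun T' g hg =>
    (fam g hg).at _ (hs g hg).symm
  obtain ⟨μ, hμ, hμ'⟩ := exists_glue (x := x) h𝒳s s (b := z) f.down hR m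
    (fun T' g hg => by rw [hfg g hg]; exact Pt.lift_at _ _ _)
    (fun T'' T' k g g' hg hg' e => by
      subst e
      simp only [m]
      have e1 : U.obj.map k.op (U.obj.map g.op s) = U.obj.map (k ≫ g).op s := by
        rw [op_comp, Functor.map_comp_apply]
      have key : ∀ (p : Pt x z T'') (hp : p = (fam g hg).res k) (h : p.s = U.obj.map (k ≫ g).op s),
          xm x k e1 ≫ (fam g hg).at _ (hs g hg).symm = p.at _ h := by
        rintro p rfl h
        exact (Pt.res_at k _ (hs g hg).symm e1 h).symm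
      exact key _ (hc k g hg) _)
  refine ⟨⟨s, μ⟩, fun T' g hg => Pt.ext_at (U.obj.map g.op s) rfl (hs g hg).symm (hμ' g hg), fun q hq => ?_⟩
  have hqs : q.s = s := hs' q.s fun T' g hg => congrArg Pt.s (hq g hg)
  have hqb : q.base = f.down := congrArg ULift.down (hf' ⟨q.base⟩ fun T' g hg =>
    congrArg ULift.up ((Pt.res_base g q).symm.trans (congrArg Pt.base (hq g hg))))
  refine Pt.ext_at s hqs rfl ?_
  have hl := Pt.lift_at q s hqs
  rw [hqb] at hl
  show q.at s hqs = μ
  refine hom_ext_locally h𝒳s f.down hR _ _ fun T' g hg => ?_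
  rw [hμ' g hg]
  have key : ∀ (p : Pt x z T') (hp : q.res g = p) (h : p.s = U.obj.map g.op s),
      xm x g rfl ≫ q.at s hqs = p.at _ h := by
    rintro p rfl h
    exact (Pt.res_at g q hqs rfl h).symm
  exact key _ (hq g hg) _

variable {π : 𝒳 ⥤ᵇ AlgSt.ofSp U} (e : BasedFunctor.comp x π ≅ BasedFunctor.id (AlgSt.ofSp U))

theorem secAt_ob (e : BasedFunctor.comp x π ≅ BasedFunctor.id (AlgSt.ofSp U)) {T : Over S}
    (s : U.obj.obj (op T)) : U.obj.map (eqToHom (ob_p x T s).symm).op (secAt π (ob x T s)) = s := by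
  have h := secAt_congr e (⟨T, s⟩ : (AlgSt.ofSp U).obj)
  simp only [secAt] at h
  simp only [secAt]
  rw [map_eqToHom_trans]
  refine Eq.trans ?_ (h.trans ?_)
  · rfl
  · show U.obj.map (eqToHom (rfl : T = T)).op s = s
    simp

include e in
theorem Pt.sec_base {T : Over S} (p : Pt x z T) : U.obj.map p.base.op (secAt π z) = p.s := by
  rw [Pt.base, op_comp, Functor.map_comp_apply, secAt_natural π p.φ, secAt_ob e p.s]

/-- The section of the base under an object, as a morphism of sheaves. -/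
def bHomSec (π : 𝒳 ⥤ᵇ AlgSt.ofSp U) (z : 𝒳.obj) : (AlgSp.yon S).obj (𝒳.p.obj z) ⟶ U :=
  ((AlgSp.J S).uliftYonedaEquiv).symm (secAt π z)

theorem bHomSec_app (π : 𝒳 ⥤ᵇ AlgSt.ofSp U) (z : 𝒳.obj) {T : Over S} (f : T ⟶ 𝒳.p.obj z) :
    (bHomSec π z).hom.app (op T) ⟨f⟩ = U.obj.map f.op (secAt π z) := rfl

variable (x)

/-- The total sheaf. -/
def pSp (z : 𝒳.obj) : AlgSp.Sp S := ⟨pPsh x z, (isSheaf_iff_isSheaf_of_type _ _).2 (isSheaf_pPsh h𝒳s z)⟩

/-- The total sheaf over the base. -/
def pOver (z : 𝒳.obj) : Over U :=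
  Over.mk (Y := pSp x h𝒳s z) (ObjectProperty.homMk
    { app := fun _ => ↾fun p => p.s
      naturality := fun T T' k => by ext p; rfl })

include e in
/-- The projection to the base object. -/
def pProj (z : 𝒳.obj) : pOver x h𝒳s z ⟶ Over.mk (bHomSec π z) :=
  Over.homMk (ObjectProperty.homMk
    { app := fun _ => ↾fun p => ⟨Pt.base p⟩
      naturality := fun T T' k => by ext p; exact congrArg ULift.up (Pt.res_base k.unop p) })
    (by
      apply ObjectProperty.hom_ext
      ext T p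
      exact Pt.sec_base e p)

variable {x} {h𝒳s} {Z : Over U}

/-- The value of a point of the total sheaf at a point of its source. -/
def pval (q : Z ⟶ pOver x h𝒳s z) {T : Over S} (v : Z.left.obj.obj (op T)) : Pt x z T :=
  q.left.hom.app (op T) v

theorem pval_s (q : Z ⟶ pOver x h𝒳s z) {T : Over S} (v : Z.left.obj.obj (op T)) :
    (pval q v).s = Z.hom.hom.app (op T) v :=
  congrArg (fun t => t.hom.app (op T) v) (Over.w q)

/-- The morphism given by a point of the total sheaf. -/
def pvalAt (q : Z ⟶ pOver x h𝒳s z) {T : Over S} (v : Z.left.obj.obj (op T)) :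
    ob x T (Z.hom.hom.app (op T) v) ⟶ z :=
  (pval q v).at _ (pval_s q v)

theorem pval_natural (q : Z ⟶ pOver x h𝒳s z) {T T' : Over S} (k : T' ⟶ T) (v : Z.left.obj.obj (op T)) :
    pval q (Z.left.obj.map k.op v) = (pval q v).res k :=
  NatTrans.naturality_apply q.left.hom k.op v

theorem pvalAt_natural (q : Z ⟶ pOver x h𝒳s z) {T T' : Over S} (k : T' ⟶ T) (v : Z.left.obj.obj (op T)) :
    pvalAt q (Z.left.obj.map k.op v) = xm x k (sec_natural Z k v) ≫ pvalAt q v := by
  have key : ∀ (p : Pt x z T') (_ : p = (pval q v).res k) (h : p.s = Z.hom.hom.app (op T') (Z.left.obj.map k.op v)),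
      p.at _ h = xm x k (sec_natural Z k v) ≫ pvalAt q v := by
    rintro p rfl h
    exact Pt.res_at k _ (pval_s q v) (sec_natural Z k v) h
  exact key _ (pval_natural q k v) _

theorem pval_ext {q r : Z ⟶ pOver x h𝒳s z}
    (h : ∀ (T : Over S) (v : Z.left.obj.obj (op T)), pvalAt q v = pvalAt r v) : q = r := by
  ext1
  apply ObjectProperty.hom_ext
  ext T v
  exact Pt.ext_at _ (pval_s q v) (pval_s r v) (h T.unop v)

/-- A point of the total sheaf from morphisms. -/
def ofPVal (γ : ∀ (T : Over S) (v : Z.left.obj.obj (op T)), ob x T (Z.hom.hom.app (op T) v) ⟶ z)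
    (hγ : ∀ (T T' : Over S) (k : T' ⟶ T) (v : Z.left.obj.obj (op T)),
      γ T' (Z.left.obj.map k.op v) = xm x k (sec_natural Z k v) ≫ γ T v) : Z ⟶ pOver x h𝒳s z :=
  Over.homMk (ObjectProperty.homMk
    { app := fun T => ↾fun v => (⟨_, γ T.unop v⟩ : Pt x z T.unop)
      naturality := fun T T' k => by
        ext v
        have h : (⟨_, γ T'.unop (Z.left.obj.map k v)⟩ : Pt x z T'.unop) =
            (⟨_, γ T.unop v⟩ : Pt x z T.unop).res k.unop :=
          Pt.ext_at (x := x) (Z.hom.hom.app (op T'.unop) (Z.left.obj.map k v)) rfl (sec_natural Z k.unop v)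
            ((hγ T.unop T'.unop k.unop v).trans (Pt.res_at (z := z) k.unop (⟨_, γ T.unop v⟩ : Pt x z T.unop) rfl
              (sec_natural Z k.unop v) (sec_natural Z k.unop v)).symm)
        exact h })
    rfl

theorem pval_at_cast {T : Over S} (p : Pt x z T) (s s' : U.obj.obj (op T)) (h : p.s = s) (e : s = s') :
    p.at s' (h.trans e) = xm x (𝟙 T) (by subst e; simp) ≫ p.at s h := by
  subst e; rw [xm_id, id_comp]

end Groth.L09.Gerbe.Sec
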