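import Groth.Agent.L09.GerbBasic
import Groth.Agent.L24.Tors.IsomLocal
import Groth.Prelude.Def_W4stkstmgerbesQuotBase

/-!
The classifying stack of sheaf torsors is a gerbe over its base sheaf.
-/

set_option autoImplicit false
set_option backward.isDefEq.respectTransparency false
set_option backward.isDefEq.respectTransparency.types false

universe v₄ u₄ v₃ u₃ v₂ u₂ v u

open CategoryTheory Category Functor MonoidalCategory CartesianMonoidalCategory AlgebraicGeometry Opposite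

noncomputable section

namespace Groth.L09.Gerbe

/-- The covering sieve of the sections of a torsor. -/
theorem exists_sieve_points {S : Scheme.{u}} {B : AlgSp.Sp S} {G : Over B} [GrpObj G] {X : Over B}
    {aX : AlgSp.GAction G X} (A : AlgSt.SpQuotObj Scheme.fppfPrecoverage G aX) :
    ∃ R ∈ AlgSp.J S A.base, ∀ ⦃T : Over S⦄ (f : T ⟶ A.base), R f →
      ∃ s : (AlgSp.yon S).obj T ⟶ A.P.left, s ≫ A.π.left = (AlgSp.yon S).map f := by
  obtain ⟨R₀, hR₀, hsec⟩ := A.loc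
  refine ⟨(Sieve.overEquiv A.base).symm (Sieve.generate R₀), ?_, fun T f hf => ?_⟩
  · exact (GrothendieckTopology.mem_over_iff _ _).2 (((Sieve.overEquiv A.base).apply_symm_apply
      (Sieve.generate R₀)).symm ▸ Precoverage.generate_mem_toGrothendieck hR₀)
  obtain ⟨T'', k, f', hf', hkf⟩ := (Sieve.overEquiv_symm_iff (Y := A.base) (Sieve.generate R₀) f).1 hf
  obtain ⟨s₁, hs₁⟩ := hsec f' hf'
  refine ⟨(AlgSp.yon S).map (Over.homMk (U := T) (V := Over.mk (f' ≫ A.base.hom)) k (by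
    show k ≫ f' ≫ A.base.hom = T.hom
    rw [← assoc, hkf, Over.w f])) ≫ s₁, ?_⟩
  rw [assoc, hs₁, ← Functor.map_comp]
  exact congrArg _ (Over.OverMorphism.ext hkf)

variable {C : Type u} [Category.{v} C] {J : GrothendieckTopology C}
  {𝒳 : BasedCategory.{v₂, u₂} C} {𝒴 : BasedCategory.{v₃, u₃} C}

theorem isGerbeOver_congr {F G : 𝒳 ⥤ᵇ 𝒴} (e : F ≅ G) (h : Gerb.IsGerbeOver J F) : Gerb.IsGerbeOver J G := by
  have hn : ∀ {a b : 𝒳.obj} (m : a ⟶ b), F.map m ≫ e.hom.toNatTrans.app b = e.hom.toNatTrans.app a ≫ G.map m :=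
    fun m => e.hom.toNatTrans.naturality m
  have hi : ∀ a : 𝒳.obj, e.inv.toNatTrans.app a ≫ e.hom.toNatTrans.app a = 𝟙 _ := fun a =>
    congrArg (fun t : G ⟶ G => t.toNatTrans.app a) e.inv_hom_id
  have hi' : ∀ a : 𝒳.obj, e.hom.toNatTrans.app a ≫ e.inv.toNatTrans.app a = 𝟙 _ := fun a =>
    congrArg (fun t : F ⟶ F => t.toNatTrans.app a) e.hom_inv_id
  refine ⟨fun y => ?_, fun x x' b hb => ?_⟩
  · obtain ⟨R, hR, hR'⟩ := h.1 y
    refine ⟨R, hR, fun V f hf => ?_⟩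
    obtain ⟨x, g, hg⟩ := hR' f hf
    have hV : 𝒳.p.obj x = V := L09.Gerb.proj_obj (F := F) g (f := f)
    have := BasedNatTrans.isHomLift e.inv hV
    exact ⟨x, e.inv.toNatTrans.app x ≫ g, IsHomLift.comp_lift_id_left' 𝒴.p V _ f g⟩
  · have hx' : 𝒳.p.obj x' = 𝒳.p.obj x :=
      (G.w_obj x').symm.trans (IsHomLift.codomain_eq 𝒴.p (𝟙 (𝒳.p.obj x)) b)
    have h1 := BasedNatTrans.isHomLift e.hom (rfl : 𝒳.p.obj x = 𝒳.p.obj x)
    have h2 := BasedNatTrans.isHomLift e.inv hx'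
    have h3 : 𝒴.p.IsHomLift (𝟙 (𝒳.p.obj x)) (b ≫ e.inv.toNatTrans.app x') :=
      IsHomLift.comp_lift_id_right 𝒴.p _ b _
    obtain ⟨R, hR, hR'⟩ := h.2 x x' (e.hom.toNatTrans.app x ≫ b ≫ e.inv.toNatTrans.app x')
      (IsHomLift.comp_lift_id_left' 𝒴.p (𝒳.p.obj x) (e.hom.toNatTrans.app x) (𝟙 (𝒳.p.obj x))
        (b ≫ e.inv.toNatTrans.app x'))
    refine ⟨R, hR, fun V f hf => ?_⟩
    obtain ⟨x₀, φ, ψ, hφ, hψ, heq⟩ := hR' f hf
    refine ⟨x₀, φ, ψ, hφ, hψ, ?_⟩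
    calc G.map φ ≫ b = (e.inv.toNatTrans.app x₀ ≫ e.hom.toNatTrans.app x₀) ≫ G.map φ ≫ b := by
          rw [hi, id_comp]
      _ = e.inv.toNatTrans.app x₀ ≫ (F.map φ ≫ e.hom.toNatTrans.app x ≫ b ≫ e.inv.toNatTrans.app x') ≫
            e.hom.toNatTrans.app x' := by
          simp only [assoc, hi, comp_id, reassoc_of% (hn φ), reassoc_of% (hi x₀), id_comp]
      _ = e.inv.toNatTrans.app x₀ ≫ e.hom.toNatTrans.app x₀ ≫ G.map ψ := by rw [heq, hn]
      _ = G.map ψ := by rw [reassoc_of% (hi x₀)]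

end Groth.L09.Gerbe

namespace Groth.L09.Gerbe

variable {S : Scheme.{u}} {B : AlgSp.Sp S} (G : Over B) [GrpObj G]

theorem isGerbeOver_spBG : Gerb.IsGerbeOver (AlgSp.J S)
    (W4stkstmgerbes.spQuotToBase Scheme.fppfPrecoverage G (AlgSt.trivGAction G)) := by
  refine ⟨fun y => ⟨⊤, (AlgSp.J S).top_mem _, fun V f _ => ?_⟩, fun A A' b hb => ?_⟩
  · let a : (AlgSt.ofSp (𝟙_ (Over B)).left).obj := ⟨V, B.obj.map f.op y.sec⟩
    refine ⟨(AlgSt.spQuotMap Scheme.fppfPrecoverage G (AlgSt.trivGAction G)).obj a, ⟨f, ?_⟩,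
      IsHomLift.of_fac' _ _ _ rfl rfl (by simp)⟩
    show B.obj.map f.op y.sec = B.obj.map (𝟙 V).op (B.obj.map f.op y.sec)
    simp
  · have hb' : (AlgSt.ofSp B).p.IsHomLift (𝟙 A.base) b := hb
    have hbase : ∃ hh : A.base = A'.base, b.hom = eqToHom hh := by
      refine ⟨(IsHomLift.codomain_eq (AlgSt.ofSp B).p (𝟙 A.base) b).symm, ?_⟩
      have h1 := IsHomLift.fac' (AlgSt.ofSp B).p (𝟙 A.base) b
      change b.hom = _ at h1
      rw [h1]
      simp
    obtain ⟨hh, hbh⟩ := hbase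
    have hwb : (AlgSp.yon S).map (eqToHom hh) ≫ A'.b = A.b := by
      apply ((AlgSp.J S).uliftYonedaEquiv).injective
      have h1 := b.map_sec
      rw [hbh] at h1
      refine Eq.trans ?_ h1
      show A'.b.hom.app (op A.base) ⟨𝟙 A.base ≫ eqToHom hh⟩ = _
      rw [id_comp]
      have h2 : B.obj.map (eqToHom hh).op (A'.b.hom.app (op A'.base) ⟨𝟙 A'.base⟩) =
          A'.b.hom.app (op A.base) (((AlgSp.yon S).obj A'.base).obj.map (eqToHom hh).op ⟨𝟙 A'.base⟩) :=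
        (NatTrans.naturality_apply A'.b.hom (eqToHom hh).op _).symm
      refine Eq.trans ?_ h2.symm
      show A'.b.hom.app (op A.base) ⟨eqToHom hh⟩ = A'.b.hom.app (op A.base) ⟨eqToHom hh ≫ 𝟙 A'.base⟩
      rw [comp_id]
    obtain ⟨R, hR, hR'⟩ := exists_sieve_points A
    obtain ⟨R', hR₁, hR₂⟩ := exists_sieve_points A'
    refine ⟨R ⊓ R'.pullback (eqToHom hh), (AlgSp.J S).intersection_covering hR
      ((AlgSp.J S).pullback_stable _ hR₁), fun V (f : V ⟶ A.base) hf => ?_⟩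
    obtain ⟨s, hs⟩ := hR' f hf.1
    obtain ⟨s', hs'⟩ := hR₂ (f ≫ eqToHom hh) hf.2
    obtain ⟨ψ, hψ, -⟩ := Groth.L24.Tors.exists_hom_of_point (C := Groth.L24.Tors.restrict A f) (A := A')
      (fun Y => ⟨fun p q => toUnit_unique p q⟩) (Groth.L24.Tors.secLift A f s hs)
      (Groth.L24.Tors.secLift_snd A f s hs) (f ≫ eqToHom hh) (by
        show (AlgSp.yon S).map (f ≫ eqToHom hh) ≫ A'.b = (AlgSp.yon S).map f ≫ A.b
        rw [Functor.map_comp, assoc, hwb]) s' hs'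
    refine ⟨Groth.L24.Tors.restrict A f, Groth.L24.Tors.restrictHom A f, ψ,
      IsHomLift.map (AlgSt.SpQuotObj.forget Scheme.fppfPrecoverage G (AlgSt.trivGAction G))
        (Groth.L24.Tors.restrictHom A f), IsHomLift.of_fac' _ _ _ rfl hh.symm ?_, Stk.EltObj.hom_ext ?_⟩
    · show ψ.base = _
      rw [hψ]
      exact (id_comp _).symm
    · show f ≫ b.hom = ψ.base
      rw [hψ, hbh]

end Groth.L09.Gerbe
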